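import Cfsg.Agent.Comp.Net

set_option autoImplicit false

/-! Bit masks with slots of six bits: weights, spans over the field of two elements. -/

namespace Cfsg.Agent.RuL
open Cfsg.Agent.Comp Finset

/-- the bit of slot `j` -/
def bt (x j : ℕ) : Bool := x.testBit (6 * j)

/-- only the first bits of the slots below `n` are used -/
def Vd (n x : ℕ) : Prop := ∀ i, x.testBit i = true → ∃ j < n, i = 6 * j

/-- the number of occupied slots -/
def cn (n x : ℕ) : ℕ := ∑ j ∈ range n, (bt x j).toNat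

theorem bt_xor (x y j : ℕ) : bt (x ^^^ y) j = (bt x j ^^ bt y j) := Nat.testBit_xor _ _ _
theorem bt_and (x y j : ℕ) : bt (x &&& y) j = (bt x j && bt y j) := Nat.testBit_and _ _ _
theorem bt_or (x y j : ℕ) : bt (x ||| y) j = (bt x j || bt y j) := Nat.testBit_or _ _ _
theorem bt_zero (j : ℕ) : bt 0 j = false := Nat.zero_testBit _

theorem tb_one (j i : ℕ) : (1 <<< (6 * j)).testBit i = decide (i = 6 * j) := by
  rw [Nat.one_shiftLeft, Nat.testBit_two_pow]; simp [eq_comm]

theorem bt_one (j i : ℕ) : bt (1 <<< (6 * j)) i = decide (i = j) := by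
  rw [bt, tb_one]; congr 1; apply propext; omega

theorem Vd.mono {n m x : ℕ} (h : Vd n x) (hn : n ≤ m) : Vd m x := fun i hi =>
  let ⟨j, hj, e⟩ := h i hi; ⟨j, by omega, e⟩

theorem Vd.xor {n x y : ℕ} (h : Vd n x) (h' : Vd n y) : Vd n (x ^^^ y) := fun i hi => by
  rw [Nat.testBit_xor] at hi
  cases hx : x.testBit i
  · exact h' i (by simpa [hx] using hi)
  · exact h i hx

theorem Vd.and {n x : ℕ} (h : Vd n x) (y : ℕ) : Vd n (x &&& y) := fun i hi => by
  rw [Nat.testBit_and, Bool.and_eq_true] at hi; exact h i hi.1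

theorem Vd.and' {n x : ℕ} (h : Vd n x) (y : ℕ) : Vd n (y &&& x) := by
  rw [Nat.and_comm]; exact h.and y

theorem Vd.one {n j : ℕ} (h : j < n) : Vd n (1 <<< (6 * j)) := fun i hi => by
  rw [tb_one] at hi; exact ⟨j, h, by simpa using hi⟩

theorem vd_zero (n : ℕ) : Vd n 0 := fun i hi => by simp at hi

theorem Vd.ext {n x y : ℕ} (h : Vd n x) (h' : Vd n y) (e : ∀ j < n, bt x j = bt y j) : x = y := by
  apply Nat.eq_of_testBit_eq
  intro i
  cases hx : x.testBit i
  · cases hy : y.testBit i
    · rfl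
    · obtain ⟨j, hj, rfl⟩ := h' i hy
      exact absurd ((e j hj).symm.trans hx) (by rw [bt, hy]; simp)
  · obtain ⟨j, hj, rfl⟩ := h i hx
    exact hx.symm.trans (e j hj)

theorem exists_mask (n : ℕ) (f : ℕ → Bool) : ∃ x, Vd n x ∧ ∀ j < n, bt x j = f j := by
  induction n with
  | zero => exact ⟨0, vd_zero 0, fun j hj => by omega⟩
  | succ n ih =>
    obtain ⟨x, h1, h2⟩ := ih
    have h0 : bt x n = false := by
      cases hx : bt x n
      · rfl
      · obtain ⟨j, hj, e⟩ := h1 _ hx; omega
    cases hf : f n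
    · refine ⟨x, h1.mono (by omega), fun j hj => ?_⟩
      rcases Nat.lt_succ_iff_lt_or_eq.mp hj with h | rfl
      exacts [h2 j h, h0.trans hf.symm]
    · refine ⟨x ^^^ 1 <<< (6 * n), (h1.mono (by omega)).xor (Vd.one (by omega)), fun j hj => ?_⟩
      rw [bt_xor, bt_one]
      rcases Nat.lt_succ_iff_lt_or_eq.mp hj with h | rfl
      · rw [h2 j h, decide_eq_false (by omega)]; simp
      · simp [h0, hf]

theorem cn_le (n x : ℕ) : cn n x ≤ n := by
  have : cn n x ≤ ∑ _j ∈ range n, 1 := sum_le_sum fun j _ => by cases bt x j <;> simp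
  simpa using this

theorem mod63 (n : ℕ) : ∀ x, Vd n x → x % 63 = cn n x % 63 := by
  induction n with
  | zero =>
    intro x h
    rw [h.ext (vd_zero 0) fun j hj => by omega]; rfl
  | succ n ih =>
    intro x h
    have h1 : x % 2 ^ 6 = (bt x 0).toNat := by
      apply Nat.eq_of_testBit_eq
      intro i
      rw [Nat.testBit_mod_two_pow]
      rcases Nat.eq_zero_or_pos i with rfl | hi
      · rw [bt]; cases x.testBit (6 * 0) <;> simp
      · have : (bt x 0).toNat.testBit i = false := by
          apply Nat.testBit_lt_two_pow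
          have : 1 < 2 ^ i := Nat.one_lt_two_pow (by omega)
          cases bt x 0 <;> simp <;> omega
        rw [this]
        cases hx : x.testBit i
        · simp
        · obtain ⟨j, _, e⟩ := h i hx
          simp; omega
    have h2 : Vd n (x / 2 ^ 6) := fun i hi => by
      rw [Nat.testBit_div_two_pow] at hi
      obtain ⟨j, hj, e⟩ := h _ hi
      exact ⟨j - 1, by omega, by omega⟩
    have h3 : cn (n + 1) x = cn n (x / 2 ^ 6) + (bt x 0).toNat := by
      rw [cn, sum_range_succ', cn]
      congr 1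
      refine sum_congr rfl fun j _ => ?_
      rw [bt, bt, Nat.testBit_div_two_pow]; rfl
    have := ih _ h2
    have h4 := Nat.div_add_mod x (2 ^ 6)
    omega

theorem Vd.wt {n x : ℕ} (h : Vd n x) (hn : n < 63) : x % 63 = cn n x := by
  have := cn_le n x
  rw [mod63 n x h, Nat.mod_eq_of_lt (by omega)]

theorem Vd.cn_eq {n m x : ℕ} (h : Vd n x) (hn : n ≤ m) (hm : m < 63) : cn m x = cn n x := by
  rw [← h.wt (by omega), ← (h.mono hn).wt hm]

theorem cn_xor (n x y : ℕ) : cn n (x ^^^ y) + 2 * cn n (x &&& y) = cn n x + cn n y := by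
  simp only [cn, mul_sum, ← sum_add_distrib]
  refine sum_congr rfl fun j _ => ?_
  rw [bt_xor, bt_and]; cases bt x j <;> cases bt y j <;> rfl

theorem cn_and_le (n x y : ℕ) : cn n (x &&& y) ≤ cn n y :=
  sum_le_sum fun j _ => by rw [bt_and]; cases bt x j <;> cases bt y j <;> simp

theorem Vd.zero_of_cn {n x : ℕ} (h : Vd n x) (h0 : cn n x = 0) : x = 0 :=
  h.ext (vd_zero n) fun j hj => by
    have := sum_eq_zero_iff.mp h0 j (mem_range.mpr hj)
    rw [bt_zero]; revert this; cases bt x j <;> simp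

/-- all the slots below 56 -/
def A56 : ℕ := (64 ^ 56 - 1) / 63

theorem vd_A56 : Vd 56 A56 := fun i hi => by
  have h1 : i < 336 := by
    by_contra h
    have : A56.testBit i = false := Nat.testBit_lt_two_pow
      (lt_of_lt_of_le (by decide +kernel : A56 < 2 ^ 336) (Nat.pow_le_pow_right (by norm_num) (by omega)))
    simp [this] at hi
  have h2 := (by decide +kernel : ∀ i < 336, A56.testBit i = true → i % 6 = 0) i h1 hi
  exact ⟨i / 6, by omega, by omega⟩

/-- the check of `Vd 56` -/
def vd (x : ℕ) : Bool := Nat.beq (Nat.land x A56) x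

theorem vd_sound {x : ℕ} (h : vd x = true) : Vd 56 x := by
  rw [← Nat.eq_of_beq_eq_true h]; exact vd_A56.and' x

/-- the span of a list of masks -/
def Sp : List ℕ → ℕ → Prop
  | [], x => x = 0
  | g :: gs, x => Sp gs x ∨ Sp gs (x ^^^ g)

theorem sp_zero : ∀ gs, Sp gs 0
  | [] => rfl
  | _ :: gs => Or.inl (sp_zero gs)

theorem Sp.xor : ∀ {gs : List ℕ} {x y : ℕ}, Sp gs x → Sp gs y → Sp gs (x ^^^ y)
  | [], x, y, h, h' => by
    have e1 : x = 0 := h
    have e2 : y = 0 := h'
    rw [e1, e2]; rfl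
  | g :: gs, x, y, h, h' => by
    rcases h with h | h <;> rcases h' with h' | h'
    · exact Or.inl (h.xor h')
    · exact Or.inr (by rw [Nat.xor_assoc]; exact h.xor h')
    · refine Or.inr ?_
      rw [Nat.xor_assoc, Nat.xor_comm y, ← Nat.xor_assoc]; exact h.xor h'
    · refine Or.inl ?_
      have := h.xor h'
      rwa [Nat.xor_assoc, Nat.xor_comm y, ← Nat.xor_assoc g, Nat.xor_self, Nat.zero_xor] at this

theorem sp_mem : ∀ {gs : List ℕ} {g : ℕ}, g ∈ gs → Sp gs g
  | [], _, h => by simp at h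
  | a :: gs, g, h => by
    rcases List.mem_cons.mp h with rfl | h
    · exact Or.inr (by rw [Nat.xor_self]; exact sp_zero gs)
    · exact Or.inl (sp_mem h)

/-- the sum of the masks chosen by the bits of a number -/
noncomputable def comb (gs : List ℕ) : ℕ → ℕ :=
  @List.rec ℕ (fun _ => ℕ → ℕ) (fun _ => nat_lit 0) (fun g _ ih m =>
    Nat.xor (Nat.mul (Nat.land m (nat_lit 1)) g) (ih (Nat.shiftRight m (nat_lit 1)))) gs

theorem comb_ind {P : ℕ → Prop} (h0 : P 0) (hx : ∀ x y, P x → P y → P (x ^^^ y)) :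
    ∀ (gs : List ℕ), (∀ g ∈ gs, P g) → ∀ m, P (comb gs m)
  | [], _, _ => h0
  | g :: gs, h, m => by
    have e : comb (g :: gs) m = ((m &&& 1) * g) ^^^ comb gs (m >>> 1) := rfl
    rw [e]
    refine hx _ _ ?_ (comb_ind h0 hx gs (fun a ha => h a (List.mem_cons_of_mem _ ha)) _)
    rw [Nat.and_one_is_mod]
    rcases Nat.mod_two_eq_zero_or_one m with e | e <;> rw [e]
    · simpa using h0
    · simpa using h g List.mem_cons_self

theorem sp_comb (gs : List ℕ) (m : ℕ) : Sp gs (comb gs m) :=
  comb_ind (sp_zero gs) (fun _ _ => Sp.xor) gs (fun _ => sp_mem) m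

theorem band_iff (a b : Bool) : band a b = true ↔ a = true ∧ b = true := by
  cases a <;> cases b <;> simp [band]

/-- a test on a coset of a span -/
noncomputable def tree (t : ℕ → Bool) (gs : List ℕ) : ℕ → Bool :=
  @List.rec ℕ (fun _ => ℕ → Bool) t (fun g _ ih c => band (ih c) (frc (Nat.xor c g) ih)) gs

theorem tree_cons (t : ℕ → Bool) (g : ℕ) (gs : List ℕ) (c : ℕ) :
    tree t (g :: gs) c = true ↔ tree t gs c = true ∧ tree t gs (c ^^^ g) = true := by
  have e : tree t (g :: gs) c = band (tree t gs c) (frc (c ^^^ g) (tree t gs)) := rfl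
  rw [e, band_iff, frc_eq]

theorem tree_sound {t : ℕ → Bool} : ∀ {gs : List ℕ} {c x : ℕ}, tree t gs c = true → Sp gs x →
    t (c ^^^ x) = true
  | [], c, x, h, hx => by
    have e : x = 0 := hx
    rw [e, Nat.xor_zero]; exact h
  | g :: gs, c, x, h, hx => by
    rw [tree_cons] at h
    rcases hx with hx | hx
    · exact tree_sound h.1 hx
    · have := tree_sound h.2 hx
      rwa [Nat.xor_assoc, Nat.xor_comm x, ← Nat.xor_assoc g, Nat.xor_self, Nat.zero_xor] at this

/-- the number of elements of a coset of a span that pass a test -/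
noncomputable def cnt (t : ℕ → Bool) (gs : List ℕ) : ℕ → ℕ :=
  @List.rec ℕ (fun _ => ℕ → ℕ) (fun c => @Bool.rec (fun _ => ℕ) (nat_lit 0) (nat_lit 1) (t c))
    (fun g _ ih c => Nat.add (ih c) (frcN (Nat.xor c g) ih)) gs

/-- the list of a coset of a span -/
def lst : List ℕ → ℕ → List ℕ
  | [], c => [c]
  | g :: gs, c => lst gs c ++ lst gs (c ^^^ g)

theorem cnt_eq (t : ℕ → Bool) : ∀ (gs : List ℕ) (c : ℕ), cnt t gs c = ((lst gs c).filter t).length
  | [], c => by
    have e : cnt t [] c = @Bool.rec (fun _ => ℕ) 0 1 (t c) := rfl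
    rw [e, lst, List.filter_cons]; cases t c <;> rfl
  | g :: gs, c => by
    have e : cnt t (g :: gs) c = cnt t gs c + frcN (c ^^^ g) (cnt t gs) := rfl
    rw [e, frcN_eq, lst, List.filter_append, List.length_append, cnt_eq, cnt_eq]

theorem mem_lst : ∀ {gs : List ℕ} {x : ℕ} (c : ℕ), Sp gs x → c ^^^ x ∈ lst gs c
  | [], x, c, hx => by
    have e : x = 0 := hx
    simp [e, lst]
  | g :: gs, x, c, hx => by
    rw [lst, List.mem_append]
    rcases hx with hx | hx
    · exact Or.inl (mem_lst c hx)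
    · have := mem_lst (c ^^^ g) hx
      rw [Nat.xor_assoc, Nat.xor_comm x, ← Nat.xor_assoc g, Nat.xor_self, Nat.zero_xor] at this
      exact Or.inr this

/-- the values of a function, downwards -/
def dl (col : ℕ → ℕ) : ℕ → List ℕ
  | 0 => []
  | m + 1 => col m :: dl col m

/-- the sum of the columns of the occupied slots -/
def phi (col : ℕ → ℕ) (w : ℕ) : ℕ → ℕ
  | 0 => 0
  | m + 1 => (if bt w m then col m else 0) ^^^ phi col w m

theorem phi_congr (col : ℕ → ℕ) {w v : ℕ} : ∀ m, (∀ j < m, bt w j = bt v j) → phi col w m = phi col v m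
  | 0, _ => rfl
  | m + 1, h => by rw [phi, phi, h m (by omega), phi_congr col m fun j hj => h j (by omega)]

/-- all sums of `c` with at least one and at most `n` entries are not zero -/
noncomputable def sub (n : ℕ) : List ℕ → ℕ → Bool :=
  @Nat.rec (fun _ => List ℕ → ℕ → Bool) (fun _ _ => true) (fun _ ih l =>
    @List.rec ℕ (fun _ => ℕ → Bool) (fun _ => true) (fun a t ih2 c =>
      frc (Nat.xor c a) fun c' => band (Nat.ble (nat_lit 1) c') (band (ih t c') (ih2 c))) l) n

theorem sub_sound (col : ℕ → ℕ) (w n : ℕ) : ∀ (m c : ℕ), sub n (dl col m) c = true → cn m w ≠ 0 →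
    cn m w ≤ n → c ^^^ phi col w m ≠ 0 := by
  induction n with
  | zero => intro m c _ h2 h3; omega
  | succ n ih =>
    intro m
    induction m with
    | zero => intro c _ h2 _; exact absurd rfl h2
    | succ j ih2 =>
      intro c h h2 h3
      have e : sub (n + 1) (dl col (j + 1)) c = frc (c ^^^ col j) fun c' =>
        band (Nat.ble 1 c') (band (sub n (dl col j) c') (sub (n + 1) (dl col j) c)) := rfl
      rw [e, frc_eq, band_iff, band_iff, Nat.ble_eq] at h
      rw [cn, sum_range_succ, ← cn] at h2 h3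
      rw [phi]
      cases hb : bt w j
      · rw [hb] at h2 h3
        simpa using ih2 c h.2.2 (by simpa using h2) (by simpa using h3)
      · rw [hb] at h3
        simp only [Bool.toNat_true] at h3
        rw [if_pos rfl, ← Nat.xor_assoc]
        by_cases h0 : cn j w = 0
        · have : phi col w j = phi col 0 j := phi_congr col j fun i hi => by
            have := sum_eq_zero_iff.mp h0 i (mem_range.mpr hi)
            rw [bt_zero]; revert this; cases bt w i <;> simp
          have e0 : ∀ m, phi col 0 m = 0 := fun m => by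
            induction m with
            | zero => rfl
            | succ m ihm => simp [phi, bt_zero, ihm]
          rw [this, e0, Nat.xor_zero]; omega
        · exact ih j _ h.2.1 h0 (by omega)

/-- the column of a slot -/
def syn (Rs : List ℕ) (j : ℕ) : ℕ := Rs.foldr (fun R a => Nat.bit (bt R j) a) 0

theorem phi_syn_cons (R : ℕ) (Rs : List ℕ) (w : ℕ) : ∀ m, phi (syn (R :: Rs)) w m =
    Nat.bit (decide (cn m (w &&& R) % 2 = 1)) (phi (syn Rs) w m)
  | 0 => rfl
  | m + 1 => by
    have e : (if bt w m then syn (R :: Rs) m else 0) =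
        Nat.bit (bt (w &&& R) m) (if bt w m then syn Rs m else 0) := by
      rw [bt_and]; cases bt w m <;> simp [syn]
    rw [phi, phi, phi_syn_cons R Rs w m, e, Nat.xor_bit, cn, cn, sum_range_succ, ← cn]
    congr 1
    rcases Nat.mod_two_eq_zero_or_one (cn m (w &&& R)) with h | h <;>
      cases bt (w &&& R) m <;> simp [h, Nat.add_mod]

theorem phi_syn {w m : ℕ} : ∀ {Rs : List ℕ}, (∀ R ∈ Rs, cn m (w &&& R) % 2 = 0) → phi (syn Rs) w m = 0
  | [], _ => by
    induction m with
    | zero => rfl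
    | succ m ih => simp [phi, syn] at ih ⊢; exact ih
  | R :: Rs, h => by
    rw [phi_syn_cons, phi_syn fun a ha => h a (List.mem_cons_of_mem _ ha), h R List.mem_cons_self]
    rfl

/-- even intersection -/
def Ev (u r : ℕ) : Prop := cn 57 (u &&& r) % 2 = 0

/-- the check of `Ev` -/
def ev (u r : ℕ) : Bool :=
  Nat.beq (Nat.land (Nat.mod (Nat.land u r) (nat_lit 63)) (nat_lit 1)) (nat_lit 0)

theorem ev_iff {u : ℕ} (h : Vd 57 u) (r : ℕ) : ev u r = true ↔ Ev u r := by
  have e : ev u r = Nat.beq (((u &&& r) % 63) &&& 1) 0 := rfl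
  rw [e, Nat.beq_eq, Nat.and_one_is_mod, (h.and r).wt (by norm_num), Ev]

theorem ev_zero (u : ℕ) : Ev u 0 := by simp [Ev, cn, bt_zero]

theorem Ev.xor {u r s : ℕ} (h : Ev u r) (h' : Ev u s) : Ev u (r ^^^ s) := by
  have := cn_xor 57 (u &&& r) (u &&& s)
  rw [Ev, Nat.and_xor_distrib_left]; rw [Ev] at h h'; omega

theorem Ev.xor' {u v r : ℕ} (h : Ev u r) (h' : Ev v r) : Ev (u ^^^ v) r := by
  rw [Ev, Nat.and_comm] at h h' ⊢; exact Ev.xor h h'

/-- elimination of the pivots -/
noncomputable def piv (Rs : List ℕ) : ℕ → Bool :=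
  @List.rec ℕ (fun _ => ℕ → Bool) (fun K => Nat.beq K (nat_lit 0)) (fun R _ ih K =>
    band (Nat.beq (Nat.mod (Nat.land R K) (nat_lit 63)) (nat_lit 1))
      (frc (Nat.xor K (Nat.land R K)) ih)) Rs

theorem piv_sound : ∀ {Rs : List ℕ} {K d : ℕ}, piv Rs K = true → Vd 56 K → d &&& K = d →
    (∀ R ∈ Rs, Ev d R) → d = 0
  | [], K, d, h, _, h2, _ => by
    have e : K = 0 := Nat.eq_of_beq_eq_true h
    rw [← h2, e, Nat.and_zero]
  | R :: Rs, K, d, h, h1, h2, h3 => by
    have e : piv (R :: Rs) K = band (Nat.beq ((R &&& K) % 63) 1) (frc (K ^^^ (R &&& K)) (piv Rs)) := rfl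
    rw [e, band_iff, frc_eq, Nat.beq_eq, ((h1.mono (by norm_num : 56 ≤ 57)).and' R).wt (by norm_num)] at h
    refine piv_sound h.2 (h1.xor (h1.and' R)) ?_ fun a ha => h3 a (List.mem_cons_of_mem _ ha)
    have e2 : d &&& R = d &&& (R &&& K) := by
      rw [Nat.and_comm R, ← Nat.and_assoc, h2]
    have h4 := h3 R List.mem_cons_self
    have h5 := cn_and_le 57 d (R &&& K)
    rw [Ev, e2] at h4
    have h6 : d &&& (R &&& K) = 0 :=
      (((h1.mono (by norm_num : 56 ≤ 57)).and' R).and' d).zero_of_cn (by omega)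
    rw [Nat.and_xor_distrib_left, h2, h6, Nat.xor_zero]

/-- elimination of the free slots, then of the pivots -/
noncomputable def fre (Rs : List ℕ) (βs : List ℕ) : List ℕ → ℕ → Bool :=
  @List.rec ℕ (fun _ => List ℕ → ℕ → Bool) (fun _ K => piv Rs K) (fun β _ ih js K =>
    band (Nat.beq (Nat.land β K) β) (band (Nat.testBit β (Nat.mul (nat_lit 6) (js.headD 0)))
      (band (lall (ev β) Rs)
        (frc (Nat.xor K (Nat.shiftLeft (nat_lit 1) (Nat.mul (nat_lit 6) (js.headD 0)))) (ih js.tail))))) βs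

theorem fre_sound {Rs : List ℕ} (βs : List ℕ) : ∀ {js : List ℕ} {K d : ℕ}, fre Rs βs js K = true →
    Vd 56 K → d &&& K = d → (∀ R ∈ Rs, Ev d R) → Sp βs d := by
  induction βs with
  | nil => intro _ K d h h1 h2 h3; exact piv_sound h h1 h2 h3
  | cons β βs ih =>
    intro js K d h h1 h2 h3
    have e : fre Rs (β :: βs) js K = band (Nat.beq (β &&& K) β) (band (bt β (js.headD 0))
      (band (lall (ev β) Rs) (frc (K ^^^ 1 <<< (6 * js.headD 0)) (fre Rs βs js.tail)))) := rfl
    rw [e, band_iff, band_iff, band_iff, frc_eq, Nat.beq_eq, lall_eq] at h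
    generalize js.headD 0 = j at h
    obtain ⟨a1, a2, a3, a4⟩ := h
    have hβ : Vd 56 β := a1 ▸ h1.and' β
    obtain ⟨i, hi, ei⟩ := hβ _ a2
    have hj : j < 56 := by omega
    have key : ∀ x, x &&& K = x → bt x j = false → x &&& (K ^^^ 1 <<< (6 * j)) = x := fun x hx hb => by
      have : x &&& 1 <<< (6 * j) = 0 := ((Vd.one hj).and' x).ext (vd_zero _) fun a _ => by
        rw [bt_and, bt_one, bt_zero]
        by_cases ha : a = j
        · simp [ha, hb]
        · simp [ha]
      rw [Nat.and_xor_distrib_left, hx, this, Nat.xor_zero]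
    cases hb : bt d j
    · exact Or.inl (ih a4 (h1.xor (Vd.one hj)) (key d h2 hb) h3)
    · refine Or.inr (ih a4 (h1.xor (Vd.one hj)) (key _ ?_ ?_) fun R hR => ?_)
      · rw [Nat.and_xor_distrib_right, h2, a1]
      · rw [bt_xor, hb, a2]; rfl
      · exact (h3 R hR).xor' ((ev_iff (hβ.mono (by norm_num)) R).mp (a3 R hR))

/-- evaluate the entries of a list before going on -/
noncomputable def frcL (l : List ℕ) : (List ℕ → Bool) → Bool :=
  @List.rec ℕ (fun _ => (List ℕ → Bool) → Bool) (fun k => k [])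
    (fun a _ ih k => frc a fun a' => ih fun l' => k (a' :: l')) l

theorem frcL_eq : ∀ (l : List ℕ) (k : List ℕ → Bool), frcL l k = k l
  | [], _ => rfl
  | a :: l, k => by
    have e : frcL (a :: l) k = frc a fun a' => frcL l fun l' => k (a' :: l') := rfl
    rw [e, frc_eq, frcL_eq]

/-- some entry passes the test -/
noncomputable def lany {α : Type} (p : α → Bool) (l : List α) : Bool :=
  @List.rec α (fun _ => Bool) false (fun a _ ih => @Bool.rec (fun _ => Bool) ih true (p a)) l

theorem lany_eq {α : Type} (p : α → Bool) : ∀ l : List α, lany p l = true ↔ ∃ x ∈ l, p x = true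
  | [] => by simp [lany]
  | a :: l => by
    have e : lany p (a :: l) = @Bool.rec (fun _ => Bool) (lany p l) true (p a) := rfl
    rw [e]
    cases h : p a <;> simp [lany_eq p l, h]

end Cfsg.Agent.RuL
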