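import Cfsg.Agent.RuL.Data

set_option autoImplicit false
set_option maxRecDepth 100000

namespace Cfsg.Agent.RuL
open Cfsg.Agent.Comp Cfsg.Spor

theorem c_len : BL.length = 56 ∧ DL.length = 56 ∧ (∀ r ∈ DL, r.length ≤ 56) ∧ ruTable.length = 20 := by
  decide +kernel

theorem c_B : okU BL GM BL = true := by
  decide +kernel

theorem c_D : ∀ l < 56, ∀ n < 56, dot (DL.getD l []) (GM.getD n []) = if l = n then 4 else 0 := by
  decide +kernel

theorem c_W : ∀ p < 28, (WL.getD p (0, [])).1 < 20 ∧ eqV (act (WL.getD p (0, [])).2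
    (ruTable.getD (WL.getD p (0, [])).1 0)) (BL.getD (2 * p) (0, 0, 0)) = true := by
  decide +kernel

theorem c_T : lall (inM BL) TabT = true ∧ ∀ r < 20, TabT.getD r (0, 0, 0) ∈ TabT ∧
    eqV (ruTable.getD r 0) (TabT.getD r (0, 0, 0)) = true := by
  decide +kernel

theorem c_O1 : lall (inM BL) Op1 = true ∧ ∀ l < 56, Op1.getD l (0, 0, 0) ∈ Op1 ∧
    eqV (op 1 (fam BL l)) (Op1.getD l (0, 0, 0)) = true := by
  decide +kernel

theorem c_O2 : lall (inM BL) Op2 = true ∧ ∀ l < 56, Op2.getD l (0, 0, 0) ∈ Op2 ∧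
    eqV (op 2 (fam BL l)) (Op2.getD l (0, 0, 0)) = true := by
  decide +kernel

theorem c_O3 : lall (inM BL) Op3 = true ∧ ∀ l < 56, Op3.getD l (0, 0, 0) ∈ Op3 ∧
    eqV (op 3 (fam BL l)) (Op3.getD l (0, 0, 0)) = true := by
  decide +kernel

theorem c_O4 : lall (inM BL) Op4 = true ∧ ∀ l < 56, Op4.getD l (0, 0, 0) ∈ Op4 ∧
    eqV (op 4 (fam BL l)) (Op4.getD l (0, 0, 0)) = true := by
  decide +kernel

theorem c_N : ∀ b ∈ BL, ipA b b = 16 + ipB b b ∧ (b.2.2 = 1 ∨ b.2.2 = 4) := by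
  decide +kernel

theorem c_g : ∀ g ∈ gs, g ∈ BL ∧ g.2.2 = 1 := by
  decide +kernel

theorem c_P : ∀ l < 56, (if (BL.getD l (0, 0, 0)).2.2 = 1 then (BL.getD l (0, 0, 0)).1 else 0) =
    comb (gs.map (·.1)) (PM.getD l 0) := by
  decide +kernel

theorem c_U0 : okU BL GM U0 = true := by
  decide +kernel

theorem c_U1 : okU BL GM U1 = true := by
  decide +kernel

theorem c_U2 : okU BL GM U2 = true := by
  decide +kernel

theorem c_U3 : okU BL GM U3 = true := by
  decide +kernel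

theorem c_U4 : okU BL GM U4 = true := by
  decide +kernel

theorem c_U5 : okU BL GM U5 = true := by
  decide +kernel

theorem c_U6 : okU BL GM U6 = true := by
  decide +kernel

theorem c_U7 : okU BL GM U7 = true := by
  decide +kernel

theorem c_I : ∀ l < 56, isI (U7.getD l (0, 0, 0)) (BL.getD l (0, 0, 0)) = true := by
  decide +kernel


end Cfsg.Agent.RuL
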