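import Cfsg.Agent.RuL.Data
import Cfsg.Agent.RuL.Low

set_option autoImplicit false
set_option maxRecDepth 100000

namespace Cfsg.Agent.RuL
open Cfsg.Agent.Comp Cfsg.Spor

theorem c_t2 : frcL ((gs.map (·.1)).drop 2) (fun K => frc (0 ^^^ (gs.map (·.1)).getD 0 0) (tree (lowT Grp Non) K)) = true := by
  decide +kernel

theorem c_t3 : frcL ((gs.map (·.1)).drop 2) (fun K => frc (0 ^^^ (gs.map (·.1)).getD 0 0 ^^^ (gs.map (·.1)).getD 1 0) (tree (lowT Grp Non) K)) = true := by
  decide +kernel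


end Cfsg.Agent.RuL
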