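import Cfsg.Agent.RuL.C2a
import Cfsg.Agent.RuL.C2b

set_option autoImplicit false
set_option maxRecDepth 100000

namespace Cfsg.Agent.RuL
open Cfsg.Agent.Comp Cfsg.Spor

theorem c_tree : tree (lowT Grp Non) (gs.map (·.1)) 0 = true := by
  have h0 := c_t0
  have h1 := c_t1
  have h2 := c_t2
  have h3 := c_t3
  rw [frcL_eq, frc_eq] at h0 h1 h2 h3
  rw [c_K, tree_cons, tree_cons, tree_cons]
  exact ⟨⟨h0, h1⟩, h2, h3⟩

end Cfsg.Agent.RuL
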