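import Cfsg.Agent.RuL.Data
import Cfsg.Agent.RuL.Low

set_option autoImplicit false
set_option maxRecDepth 100000

namespace Cfsg.Agent.RuL
open Cfsg.Agent.Comp Cfsg.Spor

def K17 : List ℕ := (gs.map (·.1)).drop 2
def k0 : ℕ := (gs.map (·.1)).getD 0 0
def k1 : ℕ := (gs.map (·.1)).getD 1 0

theorem c_K : gs.map (·.1) = k0 :: k1 :: K17 := by
  decide +kernel

theorem c_t0 : frcL K17 (fun K => frc 0 (tree (lowT Grp Non) K)) = true := by
  decide +kernel

theorem c_t1 : frcL K17 (fun K => frc (0 ^^^ k1) (tree (lowT Grp Non) K)) = true := by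
  decide +kernel


end Cfsg.Agent.RuL
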