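import Cfsg.Agent.RuL.Data
import Cfsg.Agent.RuL.Low

set_option autoImplicit false
set_option maxRecDepth 100000

namespace Cfsg.Agent.RuL
open Cfsg.Agent.Comp Cfsg.Spor

theorem c_Z : chkZ gs = true := by
  decide +kernel

theorem c_Non : lall (lall (chkN gs)) Non = true := by
  decide +kernel

theorem c_G0 : lall (lall (chkG gs)) (Grp.take 12) = true := by
  decide +kernel

theorem c_G1 : lall (lall (chkG gs)) (Grp.drop 12) = true := by
  decide +kernel


end Cfsg.Agent.RuL
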