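import Cfsg.Agent.RuL.Low
import Cfsg.Agent.RuL.Chain

set_option autoImplicit false
set_option maxRecDepth 100000

namespace Cfsg.Agent.RuL
open Cfsg.Agent.Comp Cfsg.Spor

theorem c_S0 : cntOK GX St0 = true := by
  decide +kernel

theorem c_S1 : cntOK GX St1 = true := by
  decide +kernel

theorem c_S2 : cntOK GX St2 = true := by
  decide +kernel

theorem c_S3 : cntOK GX St3 = true := by
  decide +kernel

theorem c_S4 : cntOK GX St4 = true := by
  decide +kernel


end Cfsg.Agent.RuL
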