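import Cfsg.Agent.RuL.Data
import Cfsg.Agent.RuL.Chain

set_option autoImplicit false
set_option maxRecDepth 100000

namespace Cfsg.Agent.RuL
open Cfsg.Agent.Comp Cfsg.Spor

theorem c_ch0 : chain BL St0 [] = true := by
  decide +kernel

theorem c_ch1 : chain BL StR (fin [] St0) = true := by
  decide +kernel

theorem c_fin : ∀ b ∈ BL.take 56, b ∈ fin (fin [] St0) StR := by
  decide +kernel

theorem c_n : (St0.map (·.n)).prod = 583704576000 ∧ (StR.map (·.n)).prod = 1 := by
  decide +kernel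

theorem c_P0 : ∀ b ∈ (St0.map (·.b))[0]?, lall (fun q : List ℕ × List T => chkP BL UL q.1 b q.2 b) (R2.zip Pa0) = true ∧ Pa0.length = R2.length := by
  decide +kernel

theorem c_P1 : ∀ b ∈ (St0.map (·.b))[1]?, lall (fun q : List ℕ × List T => chkP BL UL q.1 b q.2 b) (R2.zip Pa1) = true ∧ Pa1.length = R2.length := by
  decide +kernel

theorem c_P2 : ∀ b ∈ (St0.map (·.b))[2]?, lall (fun q : List ℕ × List T => chkP BL UL q.1 b q.2 b) (R2.zip Pa2) = true ∧ Pa2.length = R2.length := by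
  decide +kernel

theorem c_P3 : ∀ b ∈ (St0.map (·.b))[3]?, lall (fun q : List ℕ × List T => chkP BL UL q.1 b q.2 b) (R2.zip Pa3) = true ∧ Pa3.length = R2.length := by
  decide +kernel

theorem c_P4 : ∀ b ∈ (St0.map (·.b))[4]?, lall (fun q : List ℕ × List T => chkP BL UL q.1 b q.2 b) (R2.zip Pa4) = true ∧ Pa4.length = R2.length := by
  decide +kernel

theorem c_nc : chkP BL UL [0, 2] nx [m1] n1 = true ∧ chkP BL UL [2, 0] nx [m2] n2 = true ∧ inM BL nx = true ∧
    ∃ j < 56, val n1 j ≠ val n2 j := by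
  decide +kernel


end Cfsg.Agent.RuL
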