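import Cfsg.Agent.RuL.Def

set_option autoImplicit false
set_option maxRecDepth 100000

namespace Cfsg.Agent.RuL
open Cfsg.Agent.Comp Cfsg.Spor

def BL : List T := [(t1 (nat_lit 0x40000001000040040000040000001000040040000000000000040040001000000001001040001040) (nat_lit 0x40000000000000040040000000000000000000001000)),
  (t1 (nat_lit 0x1000040000001001000001000040000001001000000000000001001040000000040040001040001) (nat_lit 0x1000000000001001000001000000000001000000000000000000000000000000000000001040001)),
  (t1 (nat_lit 0x40040040001040001001001040040001040000000000000001040001001000000000000000000000000) (nat_lit 0x40001040000000000040000000040000000000000000040000000000000000000000000000000)),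
  (t1 (nat_lit 0x1001001040001040040040001001040001000000000000040001040040000000000000000000000000) (nat_lit 0x1001000040000000000000000001000000000000000000000000000000000000000000000000000000)),
  (t1 (nat_lit 0x40040040001040001001001001001040001000000000000040001040040000000000000) (nat_lit 0x40000001000001001001000000040000000000000000040001000000000000000000)),
  (t1 (nat_lit 0x1001001040001040040040040040001040000000000000001040001001000000000000) (nat_lit 0x1000001040001040040040000000000000000000000000000040001001000000000000)),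
  (t1 (nat_lit 0x40001000000001001040000000040001001040040000040000001001000000040001000040000) (nat_lit 0x1000040000000040000000040000000000000000000000000040001000000000)),
  (t1 (nat_lit 0x1040000000040040001000000001040040001001000001000040040000000001040000001000) (nat_lit 0x1000000000040000000000000000000000000001000001000000000000000000040000001000)),
  (t1 (nat_lit 0x1000000040000001000001040040000000040001000000000001040000040001001040000001000040) (nat_lit 0x40000000000000000040000000000000000000000000040000000000001000000000000000)),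
  (t1 (nat_lit 0x40000000001000040000040001001000000001040000000000040001000001040040001000040000001) (nat_lit 0x1000000000001000000000000000000000001000040001000000000001)),
  (t1 (nat_lit 0x1040000000000040001000001001001001000001000040000040040000000040000040000000040001) (nat_lit 0x1040000000000040001000000000001001000001000040000000000000000040000040000000040001)),
  (t1 (nat_lit 0x40001000000000001040000040040040040000040000001000001001000000001000001000000001040) (nat_lit 0x40000000000000000040000000000040040000040000000000001001000000000000000000000000040)),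
  (t1 (nat_lit 0x40040040040040000040000040000000001001000040000000000001040000000040040000001040000) (nat_lit 0x40000000040040000000000000000000001001000000000000000000040000000000040000001000000)),
  (t1 (nat_lit 0x1001001001001000001000001000000040040000001000000000040001000000001001000040001000) (nat_lit 0x1001000000000001000001000000040040000001000000000000000000000001000000040001000)),
  (t1 (nat_lit 0x1001000000000000040040000040001000040001001040001000001000001000000040000001000001) (nat_lit 0x1000000000000000040000000000000000040000001040001000001000000000000000000000000001)),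
  (t1 (nat_lit 0x40040000000000000001001000001040000001040040001040000040000040000000001000040000040) (nat_lit 0x40000000000000000000001000001000000000000040000040000040000000000000001000000000040)),
  (t1 (nat_lit 0x40040040001001040040040040040001040000000000000040001040040) (nat_lit 0x40000040000040001000000000000000000000040040)),
  (t1 (nat_lit 0x1001001040040001001001001001040001000000000000001040001001) (nat_lit 0x1001001000000000001000001000040001000000000000001000000000)),
  (t4 (nat_lit 0x1000000000000000000000000000000000000000000000000000000000000000000000000000000) (nat_lit 0)),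
  (t4 (nat_lit 0x40000000000000000000000000000000000000000000000000000000000000000000000000000000) (nat_lit 0)),
  (t1 (nat_lit 0x40000001001000000040001000040000000000040001000000001001040000000040001001040040) (nat_lit 0x40000001001000000000000000040000000000000000000000000001040000000040000000040000)),
  (t1 (nat_lit 0x1000040040000000001040000001000000000001040000000040040001000000001040040001001) (nat_lit 0x40040000000001000000000000000000001000000000000040000000000000000000000001)),
  (t4 (nat_lit 0x1000000000000000000000000000000000000000000000000000000000000000) (nat_lit 0)),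
  (t4 (nat_lit 0x40000000000000000000000000000000000000000000000000000000000000000) (nat_lit 0)),
  (t1 (nat_lit 0x40040000000040001000000000001040000001040040001000001000040001000000040000001000001) (nat_lit 0x40000000000000001040000000040000000000001000000001000000040000000000001)),
  (t1 (nat_lit 0x1001000000001040000000000040001000040001001040000040000001040000000001000040000040) (nat_lit 0x1001000000000000000000000040000000000000001000000040000001040000000000000000000040)),
  (t1 (nat_lit 0x40040001001001000001000040000000001040000001000000000040001040001000000040000000040) (nat_lit 0x40001001000000001000040000000000040000000000000000040001000000000000040000000040)),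
  (t1 (nat_lit 0x1001040040040000040000001000000040001000040000000000001040001040000000001000000001) (nat_lit 0x1000040040000000040000000000000000000000000000000000000040001000000000000000000000)),
  (t1 (nat_lit 0x40040000001040000001001001001040000040000040000000001001000040000000000001040) (nat_lit 0x1000000001040000040000040000000001001000040000000000000000)),
  (t1 (nat_lit 0x1001000040001000040040040040001000001000001000000040040000001000000000040001) (nat_lit 0x1001000000001000040000000040000000000000000000000040040000000000000000000001)),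
  (t1 (nat_lit 0x40040001040000000000000001040001001000000000000000000000000001001001040001040040040) (nat_lit 0x40000000040000000000000001040000001000000000000000000000000000001001040000000040040)),
  (t1 (nat_lit 0x1001040001000000000000040001040040000000000000000000000000040040040001040001001001) (nat_lit 0x1000000000000000000040000000040000000000000000000000000000040040000000001000000)),
  (t4 (nat_lit 0x1000000000000000000000000000000000000000000000000000000000) (nat_lit 0)),
  (t4 (nat_lit 0x40000000000000000000000000000000000000000000000000000000000) (nat_lit 0)),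
  (t1 (nat_lit 0x40040000000000000040040000040001000001001040040000001000040000040040000000001000001) (nat_lit 0x40040000000000000000000000040001000000001000000000001000040000000040000000000000000)),
  (t1 (nat_lit 0x1001000000000000001001000001040000040040001001000040000001000001001000000040000040) (nat_lit 0x1001000000040000000040001001000040000000000001000000000000000000)),
  (t4 (nat_lit 0x1000000000000) (nat_lit 0)),
  (t4 (nat_lit 0x40000000000000) (nat_lit 0)),
  (t4 (nat_lit 0x1000000000000000000000000000000000000000) (nat_lit 0)),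
  (t4 (nat_lit 0x40000000000000000000000000000000000000000) (nat_lit 0)),
  (t4 (nat_lit 0x1000000000000000000000000000000000000000000000) (nat_lit 0)),
  (t4 (nat_lit 0x40000000000000000000000000000000000000000000000) (nat_lit 0)),
  (t1 (nat_lit 0x1001001040040001001001001001040001000000000000001040001001000000000000) (nat_lit 0x1000001040000001000000000000000001000000000000001000001001000000000000)),
  (t1 (nat_lit 0x40040040001001040040040040040001040000000000000040001040040000000000000) (nat_lit 0x40000040000001040000000000000001040000000000000040001040040000000000000)),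
  (t4 (nat_lit 0x1000000000000000000000000000) (nat_lit 0)),
  (t4 (nat_lit 0x40000000000000000000000000000) (nat_lit 0)),
  (t1 (nat_lit 0x40040040000000040040040040040040000040000000040040000000040000040040040000000) (nat_lit 0x40000000000000040000000000000000000040000000040000000000040000000000040000000)),
  (t1 (nat_lit 0x1001001000000001001001001001001000001000000001001000000001000001001001000000) (nat_lit 0x1001000000000001001001001001000000000000000001000000000000001001000000000)),
  (t1 (nat_lit 0x40040001000000001001001001001040000040000001000000040040000001000001001000000) (nat_lit 0x40001000000001001001000000000000040000000000000040000000001000000000000000)),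
  (t1 (nat_lit 0x1001040000000040040040040040001000001000040000000001001000040000040040000000) (nat_lit 0x1000040000000040040040000000001000000000000000000000001000040000000000000000)),
  (t1 (nat_lit 0x1000000040040000001000000000001040001040000000000001040000040040040040000001000040) (nat_lit 0x1000000040000000000000000000001040000000000000000000000000000000000000000001000040)),
  (t1 (nat_lit 0x40000000001001000040000000000040001040001000000000040001000001001001001000040000001) (nat_lit 0x40000000000001000000000000000040000000001000000000000001000001001001001000040000000)),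
  (t4 (nat_lit 0x1000000000000000000000) (nat_lit 0)),
  (t4 (nat_lit 0x40000000000000000000000) (nat_lit 0)),
  (t4 (nat_lit 0x1000000000000000000) (nat_lit 0)),
  (t4 (nat_lit 0x40000000000000000000) (nat_lit 0))]

def GM : List (List ℤ) := [[Int.ofNat (nat_lit 16), Int.ofNat (nat_lit 0), Int.ofNat (nat_lit 0), Int.ofNat (nat_lit 0), Int.ofNat (nat_lit 0), Int.ofNat (nat_lit 0), Int.ofNat (nat_lit 0), Int.ofNat (nat_lit 0), Int.ofNat (nat_lit 4), Int.ofNat (nat_lit 0), Int.negSucc (nat_lit 3), Int.ofNat (nat_lit 0), Int.ofNat (nat_lit 4), Int.ofNat (nat_lit 0), Int.ofNat (nat_lit 0), Int.ofNat (nat_lit 0), Int.ofNat (nat_lit 0), Int.ofNat (nat_lit 0), Int.ofNat (nat_lit 0), Int.ofNat (nat_lit 4), Int.ofNat (nat_lit 0), Int.ofNat (nat_lit 4), Int.ofNat (nat_lit 0), Int.ofNat (nat_lit 4), Int.ofNat (nat_lit 0), Int.ofNat (nat_lit 4), Int.negSucc (nat_lit 3), Int.ofNat (nat_lit 0), Int.ofNat (nat_lit 0), Int.ofNat (nat_lit 0), Int.ofNat (nat_lit 4), Int.ofNat (nat_lit 0), Int.ofNat (nat_lit 0), Int.ofNat (nat_lit 4), Int.ofNat (nat_lit 0), Int.ofNat (nat_lit 4), Int.ofNat (nat_lit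 4), Int.ofNat (nat_lit 0), Int.ofNat (nat_lit 0), Int.ofNat (nat_lit 0), Int.ofNat (nat_lit 0), Int.ofNat (nat_lit 4), Int.ofNat (nat_lit 0), Int.ofNat (nat_lit 0), Int.ofNat (nat_lit 0), Int.negSucc (nat_lit 3), Int.ofNat (nat_lit 0), Int.negSucc (nat_lit 3), Int.ofNat (nat_lit 4), Int.ofNat (nat_lit 0), Int.negSucc (nat_lit 3), Int.ofNat (nat_lit 0), Int.ofNat (nat_lit 4), Int.ofNat (nat_lit 0), Int.ofNat (nat_lit 0), Int.ofNat (nat_lit 0)],
  [Int.ofNat (nat_lit 0), Int.ofNat (nat_lit 16), Int.ofNat (nat_lit 0), Int.ofNat (nat_lit 0), Int.ofNat (nat_lit 0), Int.ofNat (nat_lit 0), Int.ofNat (nat_lit 0), Int.ofNat (nat_lit 0), Int.ofNat (nat_lit 0), Int.ofNat (nat_lit 4), Int.ofNat (nat_lit 0), Int.negSucc (nat_lit 3), Int.ofNat (nat_lit 0), Int.ofNat (nat_lit 4), Int.ofNat (nat_lit 0), Int.ofNat (nat_lit 0), Int.ofNat (nat_lit 0), Int.ofNat (nat_lit 0), Int.negSucc (nat_lit 3), Int.ofNat (nat_lit 0), Int.negSucc (nat_lit 3), Int.ofNat (nat_lit 0), Int.negSucc (nat_lit 3), Int.ofNat (nat_lit 0), Int.negSucc (nat_lit 3), Int.ofNat (nat_lit 0), Int.ofNat (nat_lit 0), Int.negSucc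 (nat_lit 3), Int.ofNat (nat_lit 0), Int.ofNat (nat_lit 0), Int.ofNat (nat_lit 0), Int.ofNat (nat_lit 4), Int.negSucc (nat_lit 3), Int.ofNat (nat_lit 0), Int.negSucc (nat_lit 3), Int.ofNat (nat_lit 0), Int.ofNat (nat_lit 0), Int.ofNat (nat_lit 4), Int.ofNat (nat_lit 0), Int.ofNat (nat_lit 0), Int.negSucc (nat_lit 3), Int.ofNat (nat_lit 0), Int.ofNat (nat_lit 0), Int.ofNat (nat_lit 0), Int.ofNat (nat_lit 4), Int.ofNat (nat_lit 0), Int.ofNat (nat_lit 4), Int.ofNat (nat_lit 0), Int.ofNat (nat_lit 0), Int.ofNat (nat_lit 4), Int.ofNat (nat_lit 0), Int.negSucc (nat_lit 3), Int.ofNat (nat_lit 0), Int.ofNat (nat_lit 4), Int.ofNat (nat_lit 0), Int.ofNat (nat_lit 0)],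
  [Int.ofNat (nat_lit 0), Int.ofNat (nat_lit 0), Int.ofNat (nat_lit 16), Int.ofNat (nat_lit 0), Int.negSucc (nat_lit 3), Int.ofNat (nat_lit 0), Int.ofNat (nat_lit 0), Int.ofNat (nat_lit 0), Int.ofNat (nat_lit 0), Int.ofNat (nat_lit 0), Int.negSucc (nat_lit 3), Int.ofNat (nat_lit 0), Int.ofNat (nat_lit 0), Int.ofNat (nat_lit 0), Int.ofNat (nat_lit 0), Int.ofNat (nat_lit 0), Int.ofNat (nat_lit 0), Int.negSucc (nat_lit 3), Int.ofNat (nat_lit 0), Int.ofNat (nat_lit 4), Int.ofNat (nat_lit 0), Int.ofNat (nat_lit 0), Int.ofNat (nat_lit 4), Int.ofNat (nat_lit 0), Int.ofNat (nat_lit 4), Int.ofNat (nat_lit 0), Int.ofNat (nat_lit 0), Int.ofNat (nat_lit 0), Int.ofNat (nat_lit 0), Int.ofNat (nat_lit 4), Int.ofNat (nat_lit 0), Int.ofNat (nat_lit 0), Int.ofNat (nat_lit 0), Int.negSucc (nat_lit 3), Int.negSucc (nat_lit 3), Int.ofNat (nat_lit 0), Int.ofNat (nat_lit 0), Int.ofNat (nat_lit 0), Int.ofNat (nat_lit 0), Int.ofNat (nat_lit 0), Int.ofNat (nat_lit 0), Int.ofNat (nat_lit 0), Int.ofNat (nat_lit 0), Int.ofNat (nat_lit 0), Int.ofNat (nat_lit 4), Int.ofNat (nat_lit 0), Int.ofNat (nat_lit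 0), Int.ofNat (nat_lit 0), Int.ofNat (nat_lit 0), Int.ofNat (nat_lit 0), Int.ofNat (nat_lit 0), Int.negSucc (nat_lit 3), Int.ofNat (nat_lit 0), Int.ofNat (nat_lit 0), Int.ofNat (nat_lit 0), Int.ofNat (nat_lit 0)],
  [Int.ofNat (nat_lit 0), Int.ofNat (nat_lit 0), Int.ofNat (nat_lit 0), Int.ofNat (nat_lit 16), Int.ofNat (nat_lit 0), Int.negSucc (nat_lit 3), Int.ofNat (nat_lit 0), Int.ofNat (nat_lit 0), Int.ofNat (nat_lit 0), Int.ofNat (nat_lit 0), Int.ofNat (nat_lit 0), Int.negSucc (nat_lit 3), Int.ofNat (nat_lit 0), Int.ofNat (nat_lit 0), Int.ofNat (nat_lit 0), Int.ofNat (nat_lit 0), Int.ofNat (nat_lit 4), Int.ofNat (nat_lit 0), Int.negSucc (nat_lit 3), Int.ofNat (nat_lit 0), Int.ofNat (nat_lit 0), Int.ofNat (nat_lit 0), Int.ofNat (nat_lit 0), Int.ofNat (nat_lit 4), Int.ofNat (nat_lit 0), Int.ofNat (nat_lit 4), Int.ofNat (nat_lit 0), Int.ofNat (nat_lit 0), Int.negSucc (nat_lit 3), Int.ofNat (nat_lit 0), Int.ofNat (nat_lit 0), Int.ofNat (nat_lit 0), Int.ofNat (nat_lit 4), Int.ofNat (nat_lit 0), Int.ofNat (nat_lit 0), Int.negSucc (nat_lit 3), Int.ofNat (nat_lit 0), Int.ofNat (nat_lit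 0), Int.ofNat (nat_lit 0), Int.ofNat (nat_lit 0), Int.ofNat (nat_lit 0), Int.ofNat (nat_lit 0), Int.ofNat (nat_lit 0), Int.ofNat (nat_lit 0), Int.ofNat (nat_lit 0), Int.ofNat (nat_lit 4), Int.ofNat (nat_lit 0), Int.ofNat (nat_lit 0), Int.ofNat (nat_lit 0), Int.ofNat (nat_lit 0), Int.ofNat (nat_lit 4), Int.ofNat (nat_lit 0), Int.ofNat (nat_lit 0), Int.ofNat (nat_lit 0), Int.ofNat (nat_lit 0), Int.ofNat (nat_lit 0)],
  [Int.ofNat (nat_lit 0), Int.ofNat (nat_lit 0), Int.negSucc (nat_lit 3), Int.ofNat (nat_lit 0), Int.ofNat (nat_lit 16), Int.ofNat (nat_lit 0), Int.ofNat (nat_lit 0), Int.negSucc (nat_lit 3), Int.ofNat (nat_lit 0), Int.negSucc (nat_lit 3), Int.ofNat (nat_lit 0), Int.ofNat (nat_lit 0), Int.ofNat (nat_lit 0), Int.ofNat (nat_lit 0), Int.ofNat (nat_lit 0), Int.ofNat (nat_lit 4), Int.ofNat (nat_lit 0), Int.ofNat (nat_lit 4), Int.ofNat (nat_lit 0), Int.ofNat (nat_lit 0), Int.ofNat (nat_lit 0), Int.ofNat (nat_lit 0), Int.ofNat (nat_lit 0), Int.ofNat (nat_lit 4), Int.ofNat (nat_lit 0), Int.ofNat (nat_lit 0), Int.negSucc (nat_lit 3), Int.ofNat (nat_lit 0), Int.ofNat (nat_lit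 0), Int.ofNat (nat_lit 0), Int.ofNat (nat_lit 0), Int.negSucc (nat_lit 3), Int.ofNat (nat_lit 0), Int.ofNat (nat_lit 4), Int.ofNat (nat_lit 0), Int.ofNat (nat_lit 0), Int.ofNat (nat_lit 0), Int.ofNat (nat_lit 4), Int.ofNat (nat_lit 0), Int.negSucc (nat_lit 3), Int.ofNat (nat_lit 4), Int.ofNat (nat_lit 0), Int.ofNat (nat_lit 0), Int.negSucc (nat_lit 3), Int.ofNat (nat_lit 0), Int.ofNat (nat_lit 0), Int.ofNat (nat_lit 4), Int.ofNat (nat_lit 0), Int.ofNat (nat_lit 0), Int.negSucc (nat_lit 3), Int.ofNat (nat_lit 4), Int.ofNat (nat_lit 0), Int.ofNat (nat_lit 0), Int.negSucc (nat_lit 3), Int.negSucc (nat_lit 3), Int.ofNat (nat_lit 0)],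
  [Int.ofNat (nat_lit 0), Int.ofNat (nat_lit 0), Int.ofNat (nat_lit 0), Int.negSucc (nat_lit 3), Int.ofNat (nat_lit 0), Int.ofNat (nat_lit 16), Int.ofNat (nat_lit 4), Int.ofNat (nat_lit 0), Int.ofNat (nat_lit 4), Int.ofNat (nat_lit 0), Int.ofNat (nat_lit 0), Int.ofNat (nat_lit 0), Int.ofNat (nat_lit 0), Int.ofNat (nat_lit 0), Int.negSucc (nat_lit 3), Int.ofNat (nat_lit 0), Int.negSucc (nat_lit 3), Int.ofNat (nat_lit 0), Int.ofNat (nat_lit 0), Int.ofNat (nat_lit 0), Int.ofNat (nat_lit 0), Int.ofNat (nat_lit 0), Int.negSucc (nat_lit 3), Int.ofNat (nat_lit 0), Int.ofNat (nat_lit 0), Int.ofNat (nat_lit 0), Int.ofNat (nat_lit 0), Int.negSucc (nat_lit 3), Int.ofNat (nat_lit 0), Int.ofNat (nat_lit 0), Int.ofNat (nat_lit 4), Int.ofNat (nat_lit 0), Int.negSucc (nat_lit 3), Int.ofNat (nat_lit 0), Int.ofNat (nat_lit 0), Int.ofNat (nat_lit 0), Int.negSucc (nat_lit 3), Int.ofNat (nat_lit 0), Int.ofNat (nat_lit 4), Int.ofNat (nat_lit 0), Int.ofNat (nat_lit 0), Int.ofNat (nat_lit 4), Int.ofNat (nat_lit 4), Int.ofNat (nat_lit 0), Int.ofNat (nat_lit 0), Int.ofNat (nat_lit 0), Int.ofNat (nat_lit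 0), Int.ofNat (nat_lit 4), Int.ofNat (nat_lit 4), Int.ofNat (nat_lit 0), Int.ofNat (nat_lit 0), Int.ofNat (nat_lit 4), Int.ofNat (nat_lit 4), Int.ofNat (nat_lit 0), Int.ofNat (nat_lit 0), Int.negSucc (nat_lit 3)],
  [Int.ofNat (nat_lit 0), Int.ofNat (nat_lit 0), Int.ofNat (nat_lit 0), Int.ofNat (nat_lit 0), Int.ofNat (nat_lit 0), Int.ofNat (nat_lit 4), Int.ofNat (nat_lit 16), Int.ofNat (nat_lit 0), Int.ofNat (nat_lit 0), Int.ofNat (nat_lit 0), Int.ofNat (nat_lit 0), Int.ofNat (nat_lit 0), Int.ofNat (nat_lit 0), Int.ofNat (nat_lit 4), Int.ofNat (nat_lit 0), Int.ofNat (nat_lit 0), Int.negSucc (nat_lit 3), Int.ofNat (nat_lit 0), Int.ofNat (nat_lit 0), Int.ofNat (nat_lit 0), Int.negSucc (nat_lit 3), Int.ofNat (nat_lit 0), Int.negSucc (nat_lit 3), Int.ofNat (nat_lit 0), Int.ofNat (nat_lit 0), Int.ofNat (nat_lit 0), Int.ofNat (nat_lit 0), Int.negSucc (nat_lit 3), Int.ofNat (nat_lit 0), Int.ofNat (nat_lit 4), Int.ofNat (nat_lit 0), Int.ofNat (nat_lit 4), Int.ofNat (nat_lit 0), Int.negSucc (nat_lit 3), Int.ofNat (nat_lit 0), Int.ofNat (nat_lit 0), Int.ofNat (nat_lit 0), Int.negSucc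 (nat_lit 3), Int.ofNat (nat_lit 0), Int.negSucc (nat_lit 3), Int.ofNat (nat_lit 4), Int.ofNat (nat_lit 0), Int.ofNat (nat_lit 0), Int.ofNat (nat_lit 0), Int.ofNat (nat_lit 0), Int.ofNat (nat_lit 0), Int.negSucc (nat_lit 3), Int.ofNat (nat_lit 0), Int.ofNat (nat_lit 0), Int.ofNat (nat_lit 0), Int.ofNat (nat_lit 0), Int.ofNat (nat_lit 0), Int.ofNat (nat_lit 4), Int.ofNat (nat_lit 0), Int.ofNat (nat_lit 0), Int.ofNat (nat_lit 0)],
  [Int.ofNat (nat_lit 0), Int.ofNat (nat_lit 0), Int.ofNat (nat_lit 0), Int.ofNat (nat_lit 0), Int.negSucc (nat_lit 3), Int.ofNat (nat_lit 0), Int.ofNat (nat_lit 0), Int.ofNat (nat_lit 16), Int.ofNat (nat_lit 0), Int.ofNat (nat_lit 0), Int.ofNat (nat_lit 0), Int.ofNat (nat_lit 0), Int.negSucc (nat_lit 3), Int.ofNat (nat_lit 0), Int.ofNat (nat_lit 0), Int.ofNat (nat_lit 0), Int.ofNat (nat_lit 0), Int.negSucc (nat_lit 3), Int.ofNat (nat_lit 0), Int.ofNat (nat_lit 0), Int.ofNat (nat_lit 0), Int.negSucc (nat_lit 3), Int.ofNat (nat_lit 0), Int.negSucc (nat_lit 3), Int.ofNat (nat_lit 0), Int.ofNat (nat_lit 0), Int.ofNat (nat_lit 4), Int.ofNat (nat_lit 0),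 Int.negSucc (nat_lit 3), Int.ofNat (nat_lit 0), Int.negSucc (nat_lit 3), Int.ofNat (nat_lit 0), Int.ofNat (nat_lit 4), Int.ofNat (nat_lit 0), Int.ofNat (nat_lit 0), Int.ofNat (nat_lit 0), Int.ofNat (nat_lit 4), Int.ofNat (nat_lit 0), Int.ofNat (nat_lit 4), Int.ofNat (nat_lit 0), Int.ofNat (nat_lit 0), Int.ofNat (nat_lit 4), Int.ofNat (nat_lit 0), Int.ofNat (nat_lit 0), Int.ofNat (nat_lit 0), Int.ofNat (nat_lit 0), Int.ofNat (nat_lit 0), Int.negSucc (nat_lit 3), Int.ofNat (nat_lit 0), Int.ofNat (nat_lit 0), Int.ofNat (nat_lit 0), Int.ofNat (nat_lit 0), Int.ofNat (nat_lit 0), Int.ofNat (nat_lit 4), Int.ofNat (nat_lit 0), Int.ofNat (nat_lit 0)],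
  [Int.ofNat (nat_lit 4), Int.ofNat (nat_lit 0), Int.ofNat (nat_lit 0), Int.ofNat (nat_lit 0), Int.ofNat (nat_lit 0), Int.ofNat (nat_lit 4), Int.ofNat (nat_lit 0), Int.ofNat (nat_lit 0), Int.ofNat (nat_lit 16), Int.ofNat (nat_lit 0), Int.negSucc (nat_lit 3), Int.ofNat (nat_lit 0), Int.ofNat (nat_lit 0), Int.ofNat (nat_lit 0), Int.ofNat (nat_lit 0), Int.ofNat (nat_lit 0), Int.ofNat (nat_lit 0), Int.ofNat (nat_lit 4), Int.ofNat (nat_lit 0), Int.ofNat (nat_lit 0), Int.ofNat (nat_lit 0), Int.ofNat (nat_lit 0), Int.ofNat (nat_lit 0), Int.ofNat (nat_lit 0), Int.ofNat (nat_lit 0), Int.ofNat (nat_lit 0), Int.ofNat (nat_lit 0), Int.ofNat (nat_lit 0), Int.ofNat (nat_lit 0), Int.negSucc (nat_lit 3), Int.ofNat (nat_lit 0), Int.ofNat (nat_lit 0), Int.ofNat (nat_lit 0), Int.ofNat (nat_lit 4), Int.ofNat (nat_lit 0), Int.ofNat (nat_lit 0), Int.ofNat (nat_lit 0), Int.ofNat (nat_lit 4), Int.ofNat (nat_lit 0), Int.ofNat (nat_lit 0), Int.ofNat (nat_lit 0), Int.ofNat (nat_lit 4), Int.ofNat (nat_lit 4), Int.ofNat (nat_lit 0), Int.ofNat (nat_lit 0), Int.negSucc (nat_lit 3), Int.ofNat (nat_lit 0),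 Int.ofNat (nat_lit 4), Int.ofNat (nat_lit 4), Int.ofNat (nat_lit 0), Int.ofNat (nat_lit 0), Int.ofNat (nat_lit 0), Int.ofNat (nat_lit 0), Int.ofNat (nat_lit 4), Int.ofNat (nat_lit 4), Int.ofNat (nat_lit 0)],
  [Int.ofNat (nat_lit 0), Int.ofNat (nat_lit 4), Int.ofNat (nat_lit 0), Int.ofNat (nat_lit 0), Int.negSucc (nat_lit 3), Int.ofNat (nat_lit 0), Int.ofNat (nat_lit 0), Int.ofNat (nat_lit 0), Int.ofNat (nat_lit 0), Int.ofNat (nat_lit 16), Int.ofNat (nat_lit 0), Int.negSucc (nat_lit 3), Int.ofNat (nat_lit 0), Int.ofNat (nat_lit 0), Int.ofNat (nat_lit 0), Int.ofNat (nat_lit 0), Int.negSucc (nat_lit 3), Int.ofNat (nat_lit 0), Int.ofNat (nat_lit 0), Int.ofNat (nat_lit 0), Int.ofNat (nat_lit 0), Int.ofNat (nat_lit 0), Int.ofNat (nat_lit 0), Int.ofNat (nat_lit 0), Int.ofNat (nat_lit 0), Int.ofNat (nat_lit 0), Int.ofNat (nat_lit 0), Int.ofNat (nat_lit 0), Int.ofNat (nat_lit 4), Int.ofNat (nat_lit 0), Int.ofNat (nat_lit 0), Int.ofNat (nat_lit 0), Int.negSucc (nat_lit 3), Int.ofNat (nat_lit 0), Int.ofNat (nat_lit 0), Int.ofNat (nat_lit 0), Int.negSucc (nat_lit 3), Int.ofNat (nat_lit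 0), Int.ofNat (nat_lit 0), Int.ofNat (nat_lit 0), Int.negSucc (nat_lit 3), Int.ofNat (nat_lit 0), Int.ofNat (nat_lit 0), Int.ofNat (nat_lit 4), Int.ofNat (nat_lit 4), Int.ofNat (nat_lit 0), Int.negSucc (nat_lit 3), Int.ofNat (nat_lit 0), Int.ofNat (nat_lit 0), Int.ofNat (nat_lit 4), Int.ofNat (nat_lit 0), Int.ofNat (nat_lit 0), Int.negSucc (nat_lit 3), Int.ofNat (nat_lit 0), Int.ofNat (nat_lit 0), Int.ofNat (nat_lit 4)],
  [Int.negSucc (nat_lit 3), Int.ofNat (nat_lit 0), Int.negSucc (nat_lit 3), Int.ofNat (nat_lit 0), Int.ofNat (nat_lit 0), Int.ofNat (nat_lit 0), Int.ofNat (nat_lit 0), Int.ofNat (nat_lit 0), Int.negSucc (nat_lit 3), Int.ofNat (nat_lit 0), Int.ofNat (nat_lit 16), Int.ofNat (nat_lit 0), Int.ofNat (nat_lit 0), Int.ofNat (nat_lit 0), Int.ofNat (nat_lit 0), Int.negSucc (nat_lit 3), Int.ofNat (nat_lit 0), Int.negSucc (nat_lit 3), Int.ofNat (nat_lit 0), Int.negSucc (nat_lit 3), Int.ofNat (nat_lit 4), Int.ofNat (nat_lit 0), Int.negSucc (nat_lit 3), Int.ofNat (nat_lit 0), Int.ofNat (nat_lit 0), Int.negSucc (nat_lit 3), Int.ofNat (nat_lit 0), Int.ofNat (nat_lit 0), Int.ofNat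 (nat_lit 0), Int.ofNat (nat_lit 0), Int.ofNat (nat_lit 0), Int.ofNat (nat_lit 0), Int.ofNat (nat_lit 4), Int.ofNat (nat_lit 0), Int.ofNat (nat_lit 0), Int.ofNat (nat_lit 0), Int.ofNat (nat_lit 0), Int.negSucc (nat_lit 3), Int.ofNat (nat_lit 0), Int.ofNat (nat_lit 0), Int.ofNat (nat_lit 0), Int.ofNat (nat_lit 0), Int.negSucc (nat_lit 3), Int.ofNat (nat_lit 0), Int.ofNat (nat_lit 0), Int.ofNat (nat_lit 4), Int.ofNat (nat_lit 0), Int.ofNat (nat_lit 0), Int.negSucc (nat_lit 3), Int.ofNat (nat_lit 0), Int.ofNat (nat_lit 0), Int.ofNat (nat_lit 0), Int.ofNat (nat_lit 0), Int.ofNat (nat_lit 0), Int.ofNat (nat_lit 0), Int.negSucc (nat_lit 3)],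
  [Int.ofNat (nat_lit 0), Int.negSucc (nat_lit 3), Int.ofNat (nat_lit 0), Int.negSucc (nat_lit 3), Int.ofNat (nat_lit 0), Int.ofNat (nat_lit 0), Int.ofNat (nat_lit 0), Int.ofNat (nat_lit 0), Int.ofNat (nat_lit 0), Int.negSucc (nat_lit 3), Int.ofNat (nat_lit 0), Int.ofNat (nat_lit 16), Int.ofNat (nat_lit 0), Int.ofNat (nat_lit 0), Int.ofNat (nat_lit 4), Int.ofNat (nat_lit 0), Int.ofNat (nat_lit 4), Int.ofNat (nat_lit 0), Int.ofNat (nat_lit 4), Int.ofNat (nat_lit 0), Int.ofNat (nat_lit 0), Int.ofNat (nat_lit 4), Int.ofNat (nat_lit 0), Int.negSucc (nat_lit 3), Int.ofNat (nat_lit 4), Int.ofNat (nat_lit 0), Int.ofNat (nat_lit 0), Int.ofNat (nat_lit 0), Int.ofNat (nat_lit 0), Int.ofNat (nat_lit 0), Int.ofNat (nat_lit 0), Int.ofNat (nat_lit 0), Int.ofNat (nat_lit 0), Int.ofNat (nat_lit 4), Int.ofNat (nat_lit 0), Int.ofNat (nat_lit 0), Int.ofNat (nat_lit 4), Int.ofNat (nat_lit 0), Int.ofNat (nat_lit 0), Int.ofNat (nat_lit 0), Int.ofNat (nat_lit 0), Int.ofNat (nat_lit 0), Int.ofNat (nat_lit 0), Int.negSucc (nat_lit 3), Int.negSucc (nat_lit 3), Int.ofNat (nat_lit 0), Int.ofNat (nat_lit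 0), Int.ofNat (nat_lit 0), Int.ofNat (nat_lit 0), Int.negSucc (nat_lit 3), Int.ofNat (nat_lit 0), Int.ofNat (nat_lit 0), Int.ofNat (nat_lit 0), Int.ofNat (nat_lit 0), Int.ofNat (nat_lit 4), Int.ofNat (nat_lit 0)],
  [Int.ofNat (nat_lit 4), Int.ofNat (nat_lit 0), Int.ofNat (nat_lit 0), Int.ofNat (nat_lit 0), Int.ofNat (nat_lit 0), Int.ofNat (nat_lit 0), Int.ofNat (nat_lit 0), Int.negSucc (nat_lit 3), Int.ofNat (nat_lit 0), Int.ofNat (nat_lit 0), Int.ofNat (nat_lit 0), Int.ofNat (nat_lit 0), Int.ofNat (nat_lit 16), Int.ofNat (nat_lit 0), Int.negSucc (nat_lit 3), Int.ofNat (nat_lit 0), Int.negSucc (nat_lit 3), Int.ofNat (nat_lit 0), Int.ofNat (nat_lit 0), Int.ofNat (nat_lit 4), Int.ofNat (nat_lit 0), Int.ofNat (nat_lit 4), Int.ofNat (nat_lit 0), Int.ofNat (nat_lit 4), Int.ofNat (nat_lit 0), Int.ofNat (nat_lit 0), Int.negSucc (nat_lit 3), Int.ofNat (nat_lit 0), Int.ofNat (nat_lit 0), Int.ofNat (nat_lit 0), Int.ofNat (nat_lit 4), Int.ofNat (nat_lit 0), Int.ofNat (nat_lit 0), Int.ofNat (nat_lit 4), Int.ofNat (nat_lit 0), Int.ofNat (nat_lit 0), Int.ofNat (nat_lit 0), Int.negSucc (nat_lit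 3), Int.ofNat (nat_lit 0), Int.ofNat (nat_lit 4), Int.negSucc (nat_lit 3), Int.ofNat (nat_lit 0), Int.ofNat (nat_lit 0), Int.ofNat (nat_lit 0), Int.ofNat (nat_lit 4), Int.ofNat (nat_lit 0), Int.negSucc (nat_lit 3), Int.ofNat (nat_lit 0), Int.ofNat (nat_lit 0), Int.ofNat (nat_lit 0), Int.ofNat (nat_lit 0), Int.ofNat (nat_lit 0), Int.ofNat (nat_lit 0), Int.ofNat (nat_lit 0), Int.ofNat (nat_lit 0), Int.ofNat (nat_lit 0)],
  [Int.ofNat (nat_lit 0), Int.ofNat (nat_lit 4), Int.ofNat (nat_lit 0), Int.ofNat (nat_lit 0), Int.ofNat (nat_lit 0), Int.ofNat (nat_lit 0), Int.ofNat (nat_lit 4), Int.ofNat (nat_lit 0), Int.ofNat (nat_lit 0), Int.ofNat (nat_lit 0), Int.ofNat (nat_lit 0), Int.ofNat (nat_lit 0), Int.ofNat (nat_lit 0), Int.ofNat (nat_lit 16), Int.ofNat (nat_lit 0), Int.negSucc (nat_lit 3), Int.ofNat (nat_lit 0), Int.negSucc (nat_lit 3), Int.negSucc (nat_lit 3), Int.ofNat (nat_lit 0), Int.negSucc (nat_lit 3), Int.ofNat (nat_lit 0), Int.negSucc (nat_lit 3), Int.ofNat (nat_lit 0), Int.ofNat (nat_lit 0), Int.ofNat (nat_lit 0), Int.ofNat (nat_lit 0), Int.negSucc (nat_lit 3), Int.ofNat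 (nat_lit 0), Int.ofNat (nat_lit 0), Int.ofNat (nat_lit 0), Int.ofNat (nat_lit 4), Int.negSucc (nat_lit 3), Int.ofNat (nat_lit 0), Int.ofNat (nat_lit 0), Int.ofNat (nat_lit 0), Int.ofNat (nat_lit 4), Int.ofNat (nat_lit 0), Int.negSucc (nat_lit 3), Int.ofNat (nat_lit 0), Int.ofNat (nat_lit 0), Int.negSucc (nat_lit 3), Int.ofNat (nat_lit 0), Int.ofNat (nat_lit 0), Int.ofNat (nat_lit 0), Int.ofNat (nat_lit 4), Int.ofNat (nat_lit 0), Int.negSucc (nat_lit 3), Int.ofNat (nat_lit 0), Int.ofNat (nat_lit 0), Int.ofNat (nat_lit 0), Int.ofNat (nat_lit 0), Int.ofNat (nat_lit 0), Int.ofNat (nat_lit 0), Int.ofNat (nat_lit 0), Int.ofNat (nat_lit 0)],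
  [Int.ofNat (nat_lit 0), Int.ofNat (nat_lit 0), Int.ofNat (nat_lit 0), Int.ofNat (nat_lit 0), Int.ofNat (nat_lit 0), Int.negSucc (nat_lit 3), Int.ofNat (nat_lit 0), Int.ofNat (nat_lit 0), Int.ofNat (nat_lit 0), Int.ofNat (nat_lit 0), Int.ofNat (nat_lit 0), Int.ofNat (nat_lit 4), Int.negSucc (nat_lit 3), Int.ofNat (nat_lit 0), Int.ofNat (nat_lit 16), Int.ofNat (nat_lit 0), Int.ofNat (nat_lit 4), Int.ofNat (nat_lit 0), Int.ofNat (nat_lit 4), Int.ofNat (nat_lit 0), Int.ofNat (nat_lit 0), Int.ofNat (nat_lit 4), Int.ofNat (nat_lit 0), Int.negSucc (nat_lit 3), Int.ofNat (nat_lit 0), Int.ofNat (nat_lit 0), Int.ofNat (nat_lit 0), Int.ofNat (nat_lit 0), Int.ofNat (nat_lit 0), Int.ofNat (nat_lit 0), Int.ofNat (nat_lit 0), Int.negSucc (nat_lit 3), Int.ofNat (nat_lit 0), Int.ofNat (nat_lit 0), Int.negSucc (nat_lit 3), Int.ofNat (nat_lit 0), Int.ofNat (nat_lit 0), Int.ofNat (nat_lit 4), Int.negSucc (nat_lit 3), Int.ofNat (nat_lit 0), Int.ofNat (nat_lit 0), Int.negSucc (nat_lit 3), Int.ofNat (nat_lit 0), Int.ofNat (nat_lit 0), Int.negSucc (nat_lit 3), Int.ofNat (nat_lit 0), Int.ofNat (nat_lit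 0), Int.ofNat (nat_lit 0), Int.ofNat (nat_lit 0), Int.negSucc (nat_lit 3), Int.ofNat (nat_lit 0), Int.negSucc (nat_lit 3), Int.ofNat (nat_lit 4), Int.ofNat (nat_lit 0), Int.ofNat (nat_lit 0), Int.ofNat (nat_lit 0)],
  [Int.ofNat (nat_lit 0), Int.ofNat (nat_lit 0), Int.ofNat (nat_lit 0), Int.ofNat (nat_lit 0), Int.ofNat (nat_lit 4), Int.ofNat (nat_lit 0), Int.ofNat (nat_lit 0), Int.ofNat (nat_lit 0), Int.ofNat (nat_lit 0), Int.ofNat (nat_lit 0), Int.negSucc (nat_lit 3), Int.ofNat (nat_lit 0), Int.ofNat (nat_lit 0), Int.negSucc (nat_lit 3), Int.ofNat (nat_lit 0), Int.ofNat (nat_lit 16), Int.ofNat (nat_lit 0), Int.ofNat (nat_lit 4), Int.ofNat (nat_lit 0), Int.ofNat (nat_lit 4), Int.negSucc (nat_lit 3), Int.ofNat (nat_lit 0), Int.ofNat (nat_lit 4), Int.ofNat (nat_lit 0), Int.ofNat (nat_lit 0), Int.ofNat (nat_lit 0), Int.ofNat (nat_lit 0), Int.ofNat (nat_lit 0), Int.ofNat (nat_lit 0), Int.ofNat (nat_lit 0), Int.ofNat (nat_lit 4), Int.ofNat (nat_lit 0), Int.ofNat (nat_lit 0), Int.ofNat (nat_lit 0), Int.ofNat (nat_lit 0), Int.negSucc (nat_lit 3), Int.negSucc (nat_lit 3), Int.ofNat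 (nat_lit 0), Int.ofNat (nat_lit 0), Int.negSucc (nat_lit 3), Int.ofNat (nat_lit 4), Int.ofNat (nat_lit 0), Int.ofNat (nat_lit 0), Int.ofNat (nat_lit 0), Int.ofNat (nat_lit 0), Int.negSucc (nat_lit 3), Int.ofNat (nat_lit 0), Int.ofNat (nat_lit 0), Int.ofNat (nat_lit 4), Int.ofNat (nat_lit 0), Int.ofNat (nat_lit 4), Int.ofNat (nat_lit 0), Int.ofNat (nat_lit 0), Int.ofNat (nat_lit 4), Int.ofNat (nat_lit 0), Int.ofNat (nat_lit 0)],
  [Int.ofNat (nat_lit 0), Int.ofNat (nat_lit 0), Int.ofNat (nat_lit 0), Int.ofNat (nat_lit 4), Int.ofNat (nat_lit 0), Int.negSucc (nat_lit 3), Int.negSucc (nat_lit 3), Int.ofNat (nat_lit 0), Int.ofNat (nat_lit 0), Int.negSucc (nat_lit 3), Int.ofNat (nat_lit 0), Int.ofNat (nat_lit 4), Int.negSucc (nat_lit 3), Int.ofNat (nat_lit 0), Int.ofNat (nat_lit 4), Int.ofNat (nat_lit 0), Int.ofNat (nat_lit 16), Int.ofNat (nat_lit 0), Int.ofNat (nat_lit 0), Int.ofNat (nat_lit 0), Int.ofNat (nat_lit 0), Int.ofNat (nat_lit 0), Int.ofNat (nat_lit 0), Int.ofNat (nat_lit 0), Int.ofNat (nat_lit 4), Int.ofNat (nat_lit 0), Int.ofNat (nat_lit 0), Int.ofNat (nat_lit 0), Int.negSucc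 (nat_lit 3), Int.ofNat (nat_lit 0), Int.ofNat (nat_lit 0), Int.ofNat (nat_lit 0), Int.ofNat (nat_lit 0), Int.ofNat (nat_lit 4), Int.ofNat (nat_lit 0), Int.ofNat (nat_lit 0), Int.ofNat (nat_lit 0), Int.ofNat (nat_lit 0), Int.ofNat (nat_lit 0), Int.ofNat (nat_lit 4), Int.ofNat (nat_lit 4), Int.ofNat (nat_lit 0), Int.ofNat (nat_lit 4), Int.ofNat (nat_lit 0), Int.negSucc (nat_lit 3), Int.ofNat (nat_lit 0), Int.ofNat (nat_lit 4), Int.ofNat (nat_lit 0), Int.ofNat (nat_lit 0), Int.ofNat (nat_lit 0), Int.ofNat (nat_lit 0), Int.ofNat (nat_lit 0), Int.ofNat (nat_lit 0), Int.ofNat (nat_lit 0), Int.ofNat (nat_lit 0), Int.ofNat (nat_lit 0)],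
  [Int.ofNat (nat_lit 0), Int.ofNat (nat_lit 0), Int.negSucc (nat_lit 3), Int.ofNat (nat_lit 0), Int.ofNat (nat_lit 4), Int.ofNat (nat_lit 0), Int.ofNat (nat_lit 0), Int.negSucc (nat_lit 3), Int.ofNat (nat_lit 4), Int.ofNat (nat_lit 0), Int.negSucc (nat_lit 3), Int.ofNat (nat_lit 0), Int.ofNat (nat_lit 0), Int.negSucc (nat_lit 3), Int.ofNat (nat_lit 0), Int.ofNat (nat_lit 4), Int.ofNat (nat_lit 0), Int.ofNat (nat_lit 16), Int.ofNat (nat_lit 0), Int.ofNat (nat_lit 0), Int.ofNat (nat_lit 0), Int.ofNat (nat_lit 0), Int.ofNat (nat_lit 0), Int.ofNat (nat_lit 0), Int.ofNat (nat_lit 0), Int.ofNat (nat_lit 4), Int.ofNat (nat_lit 0), Int.ofNat (nat_lit 0), Int.ofNat (nat_lit 0), Int.negSucc (nat_lit 3), Int.ofNat (nat_lit 0), Int.ofNat (nat_lit 0), Int.negSucc (nat_lit 3), Int.ofNat (nat_lit 0), Int.ofNat (nat_lit 0), Int.ofNat (nat_lit 0), Int.ofNat (nat_lit 0), Int.ofNat (nat_lit 0), Int.negSucc (nat_lit 3), Int.ofNat (nat_lit 0), Int.ofNat (nat_lit 0), Int.ofNat (nat_lit 4), Int.ofNat (nat_lit 0), Int.ofNat (nat_lit 4), Int.ofNat (nat_lit 0), Int.negSucc (nat_lit 3), Int.ofNat (nat_lit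 0), Int.ofNat (nat_lit 4), Int.ofNat (nat_lit 0), Int.ofNat (nat_lit 0), Int.ofNat (nat_lit 0), Int.ofNat (nat_lit 0), Int.ofNat (nat_lit 0), Int.ofNat (nat_lit 0), Int.ofNat (nat_lit 0), Int.ofNat (nat_lit 0)],
  [Int.ofNat (nat_lit 0), Int.negSucc (nat_lit 3), Int.ofNat (nat_lit 0), Int.negSucc (nat_lit 3), Int.ofNat (nat_lit 0), Int.ofNat (nat_lit 0), Int.ofNat (nat_lit 0), Int.ofNat (nat_lit 0), Int.ofNat (nat_lit 0), Int.ofNat (nat_lit 0), Int.ofNat (nat_lit 0), Int.ofNat (nat_lit 4), Int.ofNat (nat_lit 0), Int.negSucc (nat_lit 3), Int.ofNat (nat_lit 4), Int.ofNat (nat_lit 0), Int.ofNat (nat_lit 0), Int.ofNat (nat_lit 0), Int.ofNat (nat_lit 16), Int.ofNat (nat_lit 0), Int.ofNat (nat_lit 0), Int.ofNat (nat_lit 4), Int.ofNat (nat_lit 0), Int.ofNat (nat_lit 0), Int.ofNat (nat_lit 0), Int.negSucc (nat_lit 3), Int.ofNat (nat_lit 0), Int.ofNat (nat_lit 4), Int.ofNat (nat_lit 0), Int.ofNat (nat_lit 0), Int.ofNat (nat_lit 0), Int.negSucc (nat_lit 3), Int.ofNat (nat_lit 0), Int.ofNat (nat_lit 0), Int.ofNat (nat_lit 0), Int.ofNat (nat_lit 4), Int.ofNat (nat_lit 0), Int.ofNat (nat_lit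 0), Int.ofNat (nat_lit 0), Int.ofNat (nat_lit 0), Int.ofNat (nat_lit 0), Int.ofNat (nat_lit 0), Int.ofNat (nat_lit 0), Int.ofNat (nat_lit 0), Int.ofNat (nat_lit 0), Int.ofNat (nat_lit 0), Int.ofNat (nat_lit 0), Int.ofNat (nat_lit 0), Int.ofNat (nat_lit 0), Int.ofNat (nat_lit 0), Int.ofNat (nat_lit 0), Int.ofNat (nat_lit 0), Int.ofNat (nat_lit 0), Int.ofNat (nat_lit 0), Int.ofNat (nat_lit 0), Int.ofNat (nat_lit 0)],
  [Int.ofNat (nat_lit 4), Int.ofNat (nat_lit 0), Int.ofNat (nat_lit 4), Int.ofNat (nat_lit 0), Int.ofNat (nat_lit 0), Int.ofNat (nat_lit 0), Int.ofNat (nat_lit 0), Int.ofNat (nat_lit 0), Int.ofNat (nat_lit 0), Int.ofNat (nat_lit 0), Int.negSucc (nat_lit 3), Int.ofNat (nat_lit 0), Int.ofNat (nat_lit 4), Int.ofNat (nat_lit 0), Int.ofNat (nat_lit 0), Int.ofNat (nat_lit 4), Int.ofNat (nat_lit 0), Int.ofNat (nat_lit 0), Int.ofNat (nat_lit 0), Int.ofNat (nat_lit 16), Int.negSucc (nat_lit 3), Int.ofNat (nat_lit 0), Int.ofNat (nat_lit 0), Int.ofNat (nat_lit 0), Int.ofNat (nat_lit 4), Int.ofNat (nat_lit 0), Int.negSucc (nat_lit 3), Int.ofNat (nat_lit 0), Int.ofNat (nat_lit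 0), Int.ofNat (nat_lit 0), Int.ofNat (nat_lit 4), Int.ofNat (nat_lit 0), Int.ofNat (nat_lit 0), Int.ofNat (nat_lit 0), Int.negSucc (nat_lit 3), Int.ofNat (nat_lit 0), Int.ofNat (nat_lit 0), Int.ofNat (nat_lit 0), Int.ofNat (nat_lit 0), Int.ofNat (nat_lit 0), Int.ofNat (nat_lit 0), Int.ofNat (nat_lit 0), Int.ofNat (nat_lit 0), Int.ofNat (nat_lit 0), Int.ofNat (nat_lit 0), Int.ofNat (nat_lit 0), Int.ofNat (nat_lit 0), Int.ofNat (nat_lit 0), Int.ofNat (nat_lit 0), Int.ofNat (nat_lit 0), Int.ofNat (nat_lit 0), Int.ofNat (nat_lit 0), Int.ofNat (nat_lit 0), Int.ofNat (nat_lit 0), Int.ofNat (nat_lit 0), Int.ofNat (nat_lit 0)],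
  [Int.ofNat (nat_lit 0), Int.negSucc (nat_lit 3), Int.ofNat (nat_lit 0), Int.ofNat (nat_lit 0), Int.ofNat (nat_lit 0), Int.ofNat (nat_lit 0), Int.negSucc (nat_lit 3), Int.ofNat (nat_lit 0), Int.ofNat (nat_lit 0), Int.ofNat (nat_lit 0), Int.ofNat (nat_lit 4), Int.ofNat (nat_lit 0), Int.ofNat (nat_lit 0), Int.negSucc (nat_lit 3), Int.ofNat (nat_lit 0), Int.negSucc (nat_lit 3), Int.ofNat (nat_lit 0), Int.ofNat (nat_lit 0), Int.ofNat (nat_lit 0), Int.negSucc (nat_lit 3), Int.ofNat (nat_lit 16), Int.ofNat (nat_lit 0), Int.ofNat (nat_lit 0), Int.ofNat (nat_lit 0), Int.ofNat (nat_lit 4), Int.ofNat (nat_lit 0), Int.ofNat (nat_lit 0), Int.ofNat (nat_lit 4), Int.ofNat (nat_lit 0), Int.ofNat (nat_lit 0), Int.ofNat (nat_lit 0), Int.negSucc (nat_lit 3), Int.ofNat (nat_lit 4), Int.ofNat (nat_lit 0), Int.ofNat (nat_lit 4), Int.ofNat (nat_lit 0), Int.ofNat (nat_lit 0), Int.negSucc (nat_lit 3), Int.ofNat (nat_lit 0), Int.ofNat (nat_lit 4), Int.ofNat (nat_lit 0), Int.ofNat (nat_lit 0), Int.ofNat (nat_lit 0), Int.ofNat (nat_lit 0), Int.ofNat (nat_lit 4), Int.ofNat (nat_lit 0), Int.negSucc (nat_lit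 3), Int.ofNat (nat_lit 0), Int.ofNat (nat_lit 0), Int.negSucc (nat_lit 3), Int.negSucc (nat_lit 3), Int.ofNat (nat_lit 0), Int.ofNat (nat_lit 0), Int.negSucc (nat_lit 3), Int.ofNat (nat_lit 0), Int.ofNat (nat_lit 0)],
  [Int.ofNat (nat_lit 4), Int.ofNat (nat_lit 0), Int.ofNat (nat_lit 0), Int.ofNat (nat_lit 0), Int.ofNat (nat_lit 0), Int.ofNat (nat_lit 0), Int.ofNat (nat_lit 0), Int.negSucc (nat_lit 3), Int.ofNat (nat_lit 0), Int.ofNat (nat_lit 0), Int.ofNat (nat_lit 0), Int.ofNat (nat_lit 4), Int.ofNat (nat_lit 4), Int.ofNat (nat_lit 0), Int.ofNat (nat_lit 4), Int.ofNat (nat_lit 0), Int.ofNat (nat_lit 0), Int.ofNat (nat_lit 0), Int.ofNat (nat_lit 4), Int.ofNat (nat_lit 0), Int.ofNat (nat_lit 0), Int.ofNat (nat_lit 16), Int.ofNat (nat_lit 0), Int.ofNat (nat_lit 0), Int.ofNat (nat_lit 0), Int.ofNat (nat_lit 4), Int.negSucc (nat_lit 3), Int.ofNat (nat_lit 0), Int.ofNat (nat_lit 0), Int.ofNat (nat_lit 0), Int.ofNat (nat_lit 4), Int.ofNat (nat_lit 0), Int.ofNat (nat_lit 0), Int.ofNat (nat_lit 4), Int.ofNat (nat_lit 0), Int.ofNat (nat_lit 4), Int.ofNat (nat_lit 4), Int.ofNat (nat_lit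 0), Int.negSucc (nat_lit 3), Int.ofNat (nat_lit 0), Int.ofNat (nat_lit 0), Int.ofNat (nat_lit 0), Int.ofNat (nat_lit 0), Int.ofNat (nat_lit 0), Int.ofNat (nat_lit 0), Int.ofNat (nat_lit 4), Int.ofNat (nat_lit 0), Int.negSucc (nat_lit 3), Int.ofNat (nat_lit 4), Int.ofNat (nat_lit 0), Int.ofNat (nat_lit 0), Int.negSucc (nat_lit 3), Int.ofNat (nat_lit 4), Int.ofNat (nat_lit 0), Int.ofNat (nat_lit 0), Int.ofNat (nat_lit 0)],
  [Int.ofNat (nat_lit 0), Int.negSucc (nat_lit 3), Int.ofNat (nat_lit 4), Int.ofNat (nat_lit 0), Int.ofNat (nat_lit 0), Int.negSucc (nat_lit 3), Int.negSucc (nat_lit 3), Int.ofNat (nat_lit 0), Int.ofNat (nat_lit 0), Int.ofNat (nat_lit 0), Int.negSucc (nat_lit 3), Int.ofNat (nat_lit 0), Int.ofNat (nat_lit 0), Int.negSucc (nat_lit 3), Int.ofNat (nat_lit 0), Int.ofNat (nat_lit 4), Int.ofNat (nat_lit 0), Int.ofNat (nat_lit 0), Int.ofNat (nat_lit 0), Int.ofNat (nat_lit 0), Int.ofNat (nat_lit 0), Int.ofNat (nat_lit 0), Int.ofNat (nat_lit 16), Int.ofNat (nat_lit 0), Int.ofNat (nat_lit 0), Int.ofNat (nat_lit 0), Int.negSucc (nat_lit 3), Int.ofNat (nat_lit 0), Int.ofNat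 (nat_lit 0), Int.negSucc (nat_lit 3), Int.ofNat (nat_lit 0), Int.ofNat (nat_lit 0), Int.ofNat (nat_lit 0), Int.ofNat (nat_lit 0), Int.ofNat (nat_lit 0), Int.negSucc (nat_lit 3), Int.ofNat (nat_lit 0), Int.ofNat (nat_lit 0), Int.ofNat (nat_lit 0), Int.ofNat (nat_lit 0), Int.ofNat (nat_lit 0), Int.ofNat (nat_lit 0), Int.negSucc (nat_lit 3), Int.ofNat (nat_lit 0), Int.ofNat (nat_lit 0), Int.ofNat (nat_lit 0), Int.ofNat (nat_lit 0), Int.ofNat (nat_lit 0), Int.ofNat (nat_lit 0), Int.ofNat (nat_lit 0), Int.ofNat (nat_lit 4), Int.ofNat (nat_lit 0), Int.ofNat (nat_lit 0), Int.ofNat (nat_lit 0), Int.ofNat (nat_lit 0), Int.ofNat (nat_lit 0)],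
  [Int.ofNat (nat_lit 4), Int.ofNat (nat_lit 0), Int.ofNat (nat_lit 0), Int.ofNat (nat_lit 4), Int.ofNat (nat_lit 4), Int.ofNat (nat_lit 0), Int.ofNat (nat_lit 0), Int.negSucc (nat_lit 3), Int.ofNat (nat_lit 0), Int.ofNat (nat_lit 0), Int.ofNat (nat_lit 0), Int.negSucc (nat_lit 3), Int.ofNat (nat_lit 4), Int.ofNat (nat_lit 0), Int.negSucc (nat_lit 3), Int.ofNat (nat_lit 0), Int.ofNat (nat_lit 0), Int.ofNat (nat_lit 0), Int.ofNat (nat_lit 0), Int.ofNat (nat_lit 0), Int.ofNat (nat_lit 0), Int.ofNat (nat_lit 0), Int.ofNat (nat_lit 0), Int.ofNat (nat_lit 16), Int.ofNat (nat_lit 0), Int.ofNat (nat_lit 0), Int.ofNat (nat_lit 0), Int.negSucc (nat_lit 3), Int.ofNat (nat_lit 4), Int.ofNat (nat_lit 0), Int.ofNat (nat_lit 0), Int.ofNat (nat_lit 0), Int.ofNat (nat_lit 0), Int.ofNat (nat_lit 0), Int.ofNat (nat_lit 4), Int.ofNat (nat_lit 0), Int.ofNat (nat_lit 0), Int.ofNat (nat_lit 0), Int.ofNat (nat_lit 0), Int.ofNat (nat_lit 0), Int.ofNat (nat_lit 0), Int.ofNat (nat_lit 0), Int.ofNat (nat_lit 0), Int.negSucc (nat_lit 3), Int.ofNat (nat_lit 0), Int.ofNat (nat_lit 0), Int.ofNat (nat_lit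 0), Int.ofNat (nat_lit 0), Int.ofNat (nat_lit 0), Int.ofNat (nat_lit 0), Int.ofNat (nat_lit 0), Int.ofNat (nat_lit 4), Int.ofNat (nat_lit 0), Int.ofNat (nat_lit 0), Int.ofNat (nat_lit 0), Int.ofNat (nat_lit 0)],
  [Int.ofNat (nat_lit 0), Int.negSucc (nat_lit 3), Int.ofNat (nat_lit 4), Int.ofNat (nat_lit 0), Int.ofNat (nat_lit 0), Int.ofNat (nat_lit 0), Int.ofNat (nat_lit 0), Int.ofNat (nat_lit 0), Int.ofNat (nat_lit 0), Int.ofNat (nat_lit 0), Int.ofNat (nat_lit 0), Int.ofNat (nat_lit 4), Int.ofNat (nat_lit 0), Int.ofNat (nat_lit 0), Int.ofNat (nat_lit 0), Int.ofNat (nat_lit 0), Int.ofNat (nat_lit 4), Int.ofNat (nat_lit 0), Int.ofNat (nat_lit 0), Int.ofNat (nat_lit 4), Int.ofNat (nat_lit 4), Int.ofNat (nat_lit 0), Int.ofNat (nat_lit 0), Int.ofNat (nat_lit 0), Int.ofNat (nat_lit 16), Int.ofNat (nat_lit 0), Int.ofNat (nat_lit 0), Int.ofNat (nat_lit 0), Int.ofNat (nat_lit 0), Int.ofNat (nat_lit 0), Int.ofNat (nat_lit 0), Int.negSucc (nat_lit 3), Int.ofNat (nat_lit 0), Int.ofNat (nat_lit 0), Int.ofNat (nat_lit 0), Int.ofNat (nat_lit 0), Int.ofNat (nat_lit 0), Int.negSucc (nat_lit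 3), Int.ofNat (nat_lit 0), Int.ofNat (nat_lit 4), Int.ofNat (nat_lit 4), Int.ofNat (nat_lit 0), Int.ofNat (nat_lit 4), Int.ofNat (nat_lit 0), Int.ofNat (nat_lit 0), Int.ofNat (nat_lit 0), Int.negSucc (nat_lit 3), Int.ofNat (nat_lit 0), Int.ofNat (nat_lit 0), Int.ofNat (nat_lit 0), Int.negSucc (nat_lit 3), Int.ofNat (nat_lit 0), Int.negSucc (nat_lit 3), Int.ofNat (nat_lit 0), Int.ofNat (nat_lit 0), Int.ofNat (nat_lit 0)],
  [Int.ofNat (nat_lit 4), Int.ofNat (nat_lit 0), Int.ofNat (nat_lit 0), Int.ofNat (nat_lit 4), Int.ofNat (nat_lit 0), Int.ofNat (nat_lit 0), Int.ofNat (nat_lit 0), Int.ofNat (nat_lit 0), Int.ofNat (nat_lit 0), Int.ofNat (nat_lit 0), Int.negSucc (nat_lit 3), Int.ofNat (nat_lit 0), Int.ofNat (nat_lit 0), Int.ofNat (nat_lit 0), Int.ofNat (nat_lit 0), Int.ofNat (nat_lit 0), Int.ofNat (nat_lit 0), Int.ofNat (nat_lit 4), Int.negSucc (nat_lit 3), Int.ofNat (nat_lit 0), Int.ofNat (nat_lit 0), Int.ofNat (nat_lit 4), Int.ofNat (nat_lit 0), Int.ofNat (nat_lit 0), Int.ofNat (nat_lit 0), Int.ofNat (nat_lit 16), Int.ofNat (nat_lit 0), Int.ofNat (nat_lit 0), Int.ofNat (nat_lit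 0), Int.ofNat (nat_lit 0), Int.ofNat (nat_lit 4), Int.ofNat (nat_lit 0), Int.ofNat (nat_lit 0), Int.ofNat (nat_lit 0), Int.ofNat (nat_lit 0), Int.ofNat (nat_lit 0), Int.ofNat (nat_lit 4), Int.ofNat (nat_lit 0), Int.negSucc (nat_lit 3), Int.ofNat (nat_lit 0), Int.ofNat (nat_lit 0), Int.ofNat (nat_lit 4), Int.ofNat (nat_lit 0), Int.ofNat (nat_lit 4), Int.ofNat (nat_lit 0), Int.ofNat (nat_lit 0), Int.ofNat (nat_lit 0), Int.negSucc (nat_lit 3), Int.ofNat (nat_lit 0), Int.ofNat (nat_lit 0), Int.ofNat (nat_lit 0), Int.negSucc (nat_lit 3), Int.ofNat (nat_lit 0), Int.negSucc (nat_lit 3), Int.ofNat (nat_lit 0), Int.ofNat (nat_lit 0)],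
  [Int.negSucc (nat_lit 3), Int.ofNat (nat_lit 0), Int.ofNat (nat_lit 0), Int.ofNat (nat_lit 0), Int.negSucc (nat_lit 3), Int.ofNat (nat_lit 0), Int.ofNat (nat_lit 0), Int.ofNat (nat_lit 4), Int.ofNat (nat_lit 0), Int.ofNat (nat_lit 0), Int.ofNat (nat_lit 0), Int.ofNat (nat_lit 0), Int.negSucc (nat_lit 3), Int.ofNat (nat_lit 0), Int.ofNat (nat_lit 0), Int.ofNat (nat_lit 0), Int.ofNat (nat_lit 0), Int.ofNat (nat_lit 0), Int.ofNat (nat_lit 0), Int.negSucc (nat_lit 3), Int.ofNat (nat_lit 0), Int.negSucc (nat_lit 3), Int.negSucc (nat_lit 3), Int.ofNat (nat_lit 0), Int.ofNat (nat_lit 0), Int.ofNat (nat_lit 0), Int.ofNat (nat_lit 16), Int.ofNat (nat_lit 0), Int.ofNat (nat_lit 0), Int.ofNat (nat_lit 4), Int.negSucc (nat_lit 3), Int.ofNat (nat_lit 0), Int.ofNat (nat_lit 0), Int.negSucc (nat_lit 3), Int.ofNat (nat_lit 0), Int.negSucc (nat_lit 3), Int.ofNat (nat_lit 0), Int.ofNat (nat_lit 0), Int.ofNat (nat_lit 4), Int.ofNat (nat_lit 0), Int.ofNat (nat_lit 0), Int.negSucc (nat_lit 3), Int.ofNat (nat_lit 0), Int.negSucc (nat_lit 3), Int.ofNat (nat_lit 0), Int.negSucc (nat_lit 3), Int.negSucc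 (nat_lit 3), Int.ofNat (nat_lit 0), Int.ofNat (nat_lit 0), Int.ofNat (nat_lit 0), Int.ofNat (nat_lit 0), Int.negSucc (nat_lit 3), Int.ofNat (nat_lit 0), Int.ofNat (nat_lit 4), Int.ofNat (nat_lit 4), Int.ofNat (nat_lit 0)],
  [Int.ofNat (nat_lit 0), Int.negSucc (nat_lit 3), Int.ofNat (nat_lit 0), Int.ofNat (nat_lit 0), Int.ofNat (nat_lit 0), Int.negSucc (nat_lit 3), Int.negSucc (nat_lit 3), Int.ofNat (nat_lit 0), Int.ofNat (nat_lit 0), Int.ofNat (nat_lit 0), Int.ofNat (nat_lit 0), Int.ofNat (nat_lit 0), Int.ofNat (nat_lit 0), Int.negSucc (nat_lit 3), Int.ofNat (nat_lit 0), Int.ofNat (nat_lit 0), Int.ofNat (nat_lit 0), Int.ofNat (nat_lit 0), Int.ofNat (nat_lit 4), Int.ofNat (nat_lit 0), Int.ofNat (nat_lit 4), Int.ofNat (nat_lit 0), Int.ofNat (nat_lit 0), Int.negSucc (nat_lit 3), Int.ofNat (nat_lit 0), Int.ofNat (nat_lit 0), Int.ofNat (nat_lit 0), Int.ofNat (nat_lit 16), Int.negSucc (nat_lit 3), Int.ofNat (nat_lit 0), Int.ofNat (nat_lit 0), Int.negSucc (nat_lit 3), Int.ofNat (nat_lit 4), Int.ofNat (nat_lit 0), Int.ofNat (nat_lit 4), Int.ofNat (nat_lit 0), Int.ofNat (nat_lit 0),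 Int.ofNat (nat_lit 0), Int.ofNat (nat_lit 0), Int.ofNat (nat_lit 4), Int.ofNat (nat_lit 4), Int.ofNat (nat_lit 0), Int.ofNat (nat_lit 4), Int.ofNat (nat_lit 0), Int.ofNat (nat_lit 4), Int.ofNat (nat_lit 0), Int.ofNat (nat_lit 0), Int.negSucc (nat_lit 3), Int.ofNat (nat_lit 0), Int.ofNat (nat_lit 0), Int.ofNat (nat_lit 4), Int.ofNat (nat_lit 0), Int.negSucc (nat_lit 3), Int.ofNat (nat_lit 0), Int.ofNat (nat_lit 0), Int.ofNat (nat_lit 4)],
  [Int.ofNat (nat_lit 0), Int.ofNat (nat_lit 0), Int.ofNat (nat_lit 0), Int.negSucc (nat_lit 3), Int.ofNat (nat_lit 0), Int.ofNat (nat_lit 0), Int.ofNat (nat_lit 0), Int.negSucc (nat_lit 3), Int.ofNat (nat_lit 0), Int.ofNat (nat_lit 4), Int.ofNat (nat_lit 0), Int.ofNat (nat_lit 0), Int.ofNat (nat_lit 0), Int.ofNat (nat_lit 0), Int.ofNat (nat_lit 0), Int.ofNat (nat_lit 0), Int.negSucc (nat_lit 3), Int.ofNat (nat_lit 0), Int.ofNat (nat_lit 0), Int.ofNat (nat_lit 0), Int.ofNat (nat_lit 0), Int.ofNat (nat_lit 0), Int.ofNat (nat_lit 0), Int.ofNat (nat_lit 4), Int.ofNat (nat_lit 0), Int.ofNat (nat_lit 0), Int.ofNat (nat_lit 0), Int.negSucc (nat_lit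 3), Int.ofNat (nat_lit 16), Int.ofNat (nat_lit 0), Int.ofNat (nat_lit 0), Int.ofNat (nat_lit 4), Int.negSucc (nat_lit 3), Int.ofNat (nat_lit 0), Int.ofNat (nat_lit 0), Int.ofNat (nat_lit 0), Int.ofNat (nat_lit 0), Int.ofNat (nat_lit 0), Int.ofNat (nat_lit 0), Int.negSucc (nat_lit 3), Int.ofNat (nat_lit 0), Int.negSucc (nat_lit 3), Int.ofNat (nat_lit 0), Int.ofNat (nat_lit 0), Int.ofNat (nat_lit 0), Int.ofNat (nat_lit 0), Int.ofNat (nat_lit 0), Int.ofNat (nat_lit 0), Int.ofNat (nat_lit 0), Int.ofNat (nat_lit 0), Int.negSucc (nat_lit 3), Int.ofNat (nat_lit 0), Int.negSucc (nat_lit 3), Int.ofNat (nat_lit 0), Int.ofNat (nat_lit 0), Int.ofNat (nat_lit 0)],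
  [Int.ofNat (nat_lit 0), Int.ofNat (nat_lit 0), Int.ofNat (nat_lit 4), Int.ofNat (nat_lit 0), Int.ofNat (nat_lit 0), Int.ofNat (nat_lit 0), Int.ofNat (nat_lit 4), Int.ofNat (nat_lit 0), Int.negSucc (nat_lit 3), Int.ofNat (nat_lit 0), Int.ofNat (nat_lit 0), Int.ofNat (nat_lit 0), Int.ofNat (nat_lit 0), Int.ofNat (nat_lit 0), Int.ofNat (nat_lit 0), Int.ofNat (nat_lit 0), Int.ofNat (nat_lit 0), Int.negSucc (nat_lit 3), Int.ofNat (nat_lit 0), Int.ofNat (nat_lit 0), Int.ofNat (nat_lit 0), Int.ofNat (nat_lit 0), Int.negSucc (nat_lit 3), Int.ofNat (nat_lit 0), Int.ofNat (nat_lit 0), Int.ofNat (nat_lit 0), Int.ofNat (nat_lit 4), Int.ofNat (nat_lit 0), Int.ofNat (nat_lit 0), Int.ofNat (nat_lit 16), Int.negSucc (nat_lit 3), Int.ofNat (nat_lit 0), Int.ofNat (nat_lit 0), Int.negSucc (nat_lit 3), Int.ofNat (nat_lit 0), Int.ofNat (nat_lit 0), Int.ofNat (nat_lit 0), Int.ofNat (nat_lit 0), Int.ofNat (nat_lit 4), Int.ofNat (nat_lit 0), Int.ofNat (nat_lit 4), Int.ofNat (nat_lit 0), Int.ofNat (nat_lit 0), Int.ofNat (nat_lit 0), Int.ofNat (nat_lit 0), Int.ofNat (nat_lit 0), Int.ofNat (nat_lit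 0), Int.ofNat (nat_lit 0), Int.ofNat (nat_lit 0), Int.ofNat (nat_lit 0), Int.ofNat (nat_lit 0), Int.negSucc (nat_lit 3), Int.ofNat (nat_lit 0), Int.negSucc (nat_lit 3), Int.ofNat (nat_lit 0), Int.ofNat (nat_lit 0)],
  [Int.ofNat (nat_lit 4), Int.ofNat (nat_lit 0), Int.ofNat (nat_lit 0), Int.ofNat (nat_lit 0), Int.ofNat (nat_lit 0), Int.ofNat (nat_lit 4), Int.ofNat (nat_lit 0), Int.negSucc (nat_lit 3), Int.ofNat (nat_lit 0), Int.ofNat (nat_lit 0), Int.ofNat (nat_lit 0), Int.ofNat (nat_lit 0), Int.ofNat (nat_lit 4), Int.ofNat (nat_lit 0), Int.ofNat (nat_lit 0), Int.ofNat (nat_lit 4), Int.ofNat (nat_lit 0), Int.ofNat (nat_lit 0), Int.ofNat (nat_lit 0), Int.ofNat (nat_lit 4), Int.ofNat (nat_lit 0), Int.ofNat (nat_lit 4), Int.ofNat (nat_lit 0), Int.ofNat (nat_lit 0), Int.ofNat (nat_lit 0), Int.ofNat (nat_lit 4), Int.negSucc (nat_lit 3), Int.ofNat (nat_lit 0), Int.ofNat (nat_lit 0), Int.negSucc (nat_lit 3), Int.ofNat (nat_lit 16), Int.ofNat (nat_lit 0), Int.negSucc (nat_lit 3), Int.ofNat (nat_lit 0), Int.ofNat (nat_lit 0), Int.ofNat (nat_lit 0), Int.ofNat (nat_lit 0), Int.negSucc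 (nat_lit 3), Int.ofNat (nat_lit 0), Int.ofNat (nat_lit 0), Int.ofNat (nat_lit 0), Int.ofNat (nat_lit 0), Int.ofNat (nat_lit 0), Int.ofNat (nat_lit 4), Int.ofNat (nat_lit 0), Int.ofNat (nat_lit 0), Int.negSucc (nat_lit 3), Int.ofNat (nat_lit 0), Int.ofNat (nat_lit 4), Int.ofNat (nat_lit 0), Int.ofNat (nat_lit 0), Int.ofNat (nat_lit 0), Int.ofNat (nat_lit 4), Int.ofNat (nat_lit 0), Int.negSucc (nat_lit 3), Int.ofNat (nat_lit 0)],
  [Int.ofNat (nat_lit 0), Int.ofNat (nat_lit 4), Int.ofNat (nat_lit 0), Int.ofNat (nat_lit 0), Int.negSucc (nat_lit 3), Int.ofNat (nat_lit 0), Int.ofNat (nat_lit 4), Int.ofNat (nat_lit 0), Int.ofNat (nat_lit 0), Int.ofNat (nat_lit 0), Int.ofNat (nat_lit 0), Int.ofNat (nat_lit 0), Int.ofNat (nat_lit 0), Int.ofNat (nat_lit 4), Int.negSucc (nat_lit 3), Int.ofNat (nat_lit 0), Int.ofNat (nat_lit 0), Int.ofNat (nat_lit 0), Int.negSucc (nat_lit 3), Int.ofNat (nat_lit 0), Int.negSucc (nat_lit 3), Int.ofNat (nat_lit 0), Int.ofNat (nat_lit 0), Int.ofNat (nat_lit 0), Int.negSucc (nat_lit 3), Int.ofNat (nat_lit 0), Int.ofNat (nat_lit 0), Int.negSucc (nat_lit 3),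 Int.ofNat (nat_lit 4), Int.ofNat (nat_lit 0), Int.ofNat (nat_lit 0), Int.ofNat (nat_lit 16), Int.ofNat (nat_lit 0), Int.negSucc (nat_lit 3), Int.ofNat (nat_lit 0), Int.ofNat (nat_lit 0), Int.ofNat (nat_lit 4), Int.ofNat (nat_lit 0), Int.ofNat (nat_lit 0), Int.ofNat (nat_lit 0), Int.ofNat (nat_lit 0), Int.ofNat (nat_lit 0), Int.negSucc (nat_lit 3), Int.ofNat (nat_lit 0), Int.ofNat (nat_lit 0), Int.ofNat (nat_lit 0), Int.ofNat (nat_lit 0), Int.negSucc (nat_lit 3), Int.ofNat (nat_lit 0), Int.ofNat (nat_lit 4), Int.ofNat (nat_lit 0), Int.ofNat (nat_lit 0), Int.ofNat (nat_lit 0), Int.ofNat (nat_lit 4), Int.ofNat (nat_lit 0), Int.negSucc (nat_lit 3)],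
  [Int.ofNat (nat_lit 0), Int.negSucc (nat_lit 3), Int.ofNat (nat_lit 0), Int.ofNat (nat_lit 4), Int.ofNat (nat_lit 0), Int.negSucc (nat_lit 3), Int.ofNat (nat_lit 0), Int.ofNat (nat_lit 4), Int.ofNat (nat_lit 0), Int.negSucc (nat_lit 3), Int.ofNat (nat_lit 4), Int.ofNat (nat_lit 0), Int.ofNat (nat_lit 0), Int.negSucc (nat_lit 3), Int.ofNat (nat_lit 0), Int.ofNat (nat_lit 0), Int.ofNat (nat_lit 0), Int.negSucc (nat_lit 3), Int.ofNat (nat_lit 0), Int.ofNat (nat_lit 0), Int.ofNat (nat_lit 4), Int.ofNat (nat_lit 0), Int.ofNat (nat_lit 0), Int.ofNat (nat_lit 0), Int.ofNat (nat_lit 0), Int.ofNat (nat_lit 0), Int.ofNat (nat_lit 0), Int.ofNat (nat_lit 4), Int.negSucc (nat_lit 3), Int.ofNat (nat_lit 0), Int.negSucc (nat_lit 3), Int.ofNat (nat_lit 0), Int.ofNat (nat_lit 16), Int.ofNat (nat_lit 0), Int.ofNat (nat_lit 0), Int.ofNat (nat_lit 0), Int.ofNat (nat_lit 0), Int.ofNat (nat_lit 0), Int.ofNat (nat_lit 0), Int.ofNat (nat_lit 0), Int.ofNat (nat_lit 0), Int.ofNat (nat_lit 0), Int.ofNat (nat_lit 0), Int.negSucc (nat_lit 3), Int.ofNat (nat_lit 0), Int.ofNat (nat_lit 0), Int.ofNat (nat_lit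 0), Int.negSucc (nat_lit 3), Int.negSucc (nat_lit 3), Int.ofNat (nat_lit 0), Int.ofNat (nat_lit 0), Int.ofNat (nat_lit 0), Int.ofNat (nat_lit 0), Int.ofNat (nat_lit 0), Int.ofNat (nat_lit 0), Int.ofNat (nat_lit 0)],
  [Int.ofNat (nat_lit 4), Int.ofNat (nat_lit 0), Int.negSucc (nat_lit 3), Int.ofNat (nat_lit 0), Int.ofNat (nat_lit 4), Int.ofNat (nat_lit 0), Int.negSucc (nat_lit 3), Int.ofNat (nat_lit 0), Int.ofNat (nat_lit 4), Int.ofNat (nat_lit 0), Int.ofNat (nat_lit 0), Int.ofNat (nat_lit 4), Int.ofNat (nat_lit 4), Int.ofNat (nat_lit 0), Int.ofNat (nat_lit 0), Int.ofNat (nat_lit 0), Int.ofNat (nat_lit 4), Int.ofNat (nat_lit 0), Int.ofNat (nat_lit 0), Int.ofNat (nat_lit 0), Int.ofNat (nat_lit 0), Int.ofNat (nat_lit 4), Int.ofNat (nat_lit 0), Int.ofNat (nat_lit 0), Int.ofNat (nat_lit 0), Int.ofNat (nat_lit 0), Int.negSucc (nat_lit 3), Int.ofNat (nat_lit 0), Int.ofNat (nat_lit 0), Int.negSucc (nat_lit 3), Int.ofNat (nat_lit 0), Int.negSucc (nat_lit 3), Int.ofNat (nat_lit 0), Int.ofNat (nat_lit 16), Int.ofNat (nat_lit 0), Int.ofNat (nat_lit 0), Int.ofNat (nat_lit 0), Int.ofNat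 (nat_lit 0), Int.ofNat (nat_lit 0), Int.ofNat (nat_lit 0), Int.ofNat (nat_lit 0), Int.ofNat (nat_lit 0), Int.ofNat (nat_lit 4), Int.ofNat (nat_lit 0), Int.ofNat (nat_lit 0), Int.ofNat (nat_lit 0), Int.ofNat (nat_lit 4), Int.ofNat (nat_lit 0), Int.ofNat (nat_lit 0), Int.negSucc (nat_lit 3), Int.ofNat (nat_lit 0), Int.ofNat (nat_lit 0), Int.ofNat (nat_lit 0), Int.ofNat (nat_lit 0), Int.ofNat (nat_lit 0), Int.ofNat (nat_lit 0)],
  [Int.ofNat (nat_lit 0), Int.negSucc (nat_lit 3), Int.negSucc (nat_lit 3), Int.ofNat (nat_lit 0), Int.ofNat (nat_lit 0), Int.ofNat (nat_lit 0), Int.ofNat (nat_lit 0), Int.ofNat (nat_lit 0), Int.ofNat (nat_lit 0), Int.ofNat (nat_lit 0), Int.ofNat (nat_lit 0), Int.ofNat (nat_lit 0), Int.ofNat (nat_lit 0), Int.ofNat (nat_lit 0), Int.negSucc (nat_lit 3), Int.ofNat (nat_lit 0), Int.ofNat (nat_lit 0), Int.ofNat (nat_lit 0), Int.ofNat (nat_lit 0), Int.negSucc (nat_lit 3), Int.ofNat (nat_lit 4), Int.ofNat (nat_lit 0), Int.ofNat (nat_lit 0), Int.ofNat (nat_lit 4), Int.ofNat (nat_lit 0), Int.ofNat (nat_lit 0), Int.ofNat (nat_lit 0), Int.ofNat (nat_lit 4), Int.ofNat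 (nat_lit 0), Int.ofNat (nat_lit 0), Int.ofNat (nat_lit 0), Int.ofNat (nat_lit 0), Int.ofNat (nat_lit 0), Int.ofNat (nat_lit 0), Int.ofNat (nat_lit 16), Int.ofNat (nat_lit 0), Int.ofNat (nat_lit 0), Int.ofNat (nat_lit 0), Int.ofNat (nat_lit 0), Int.ofNat (nat_lit 4), Int.ofNat (nat_lit 4), Int.ofNat (nat_lit 0), Int.ofNat (nat_lit 0), Int.ofNat (nat_lit 0), Int.ofNat (nat_lit 0), Int.ofNat (nat_lit 0), Int.negSucc (nat_lit 3), Int.ofNat (nat_lit 0), Int.ofNat (nat_lit 0), Int.ofNat (nat_lit 0), Int.ofNat (nat_lit 0), Int.ofNat (nat_lit 4), Int.ofNat (nat_lit 0), Int.ofNat (nat_lit 0), Int.ofNat (nat_lit 0), Int.ofNat (nat_lit 4)],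
  [Int.ofNat (nat_lit 4), Int.ofNat (nat_lit 0), Int.ofNat (nat_lit 0), Int.negSucc (nat_lit 3), Int.ofNat (nat_lit 0), Int.ofNat (nat_lit 0), Int.ofNat (nat_lit 0), Int.ofNat (nat_lit 0), Int.ofNat (nat_lit 0), Int.ofNat (nat_lit 0), Int.ofNat (nat_lit 0), Int.ofNat (nat_lit 0), Int.ofNat (nat_lit 0), Int.ofNat (nat_lit 0), Int.ofNat (nat_lit 0), Int.negSucc (nat_lit 3), Int.ofNat (nat_lit 0), Int.ofNat (nat_lit 0), Int.ofNat (nat_lit 4), Int.ofNat (nat_lit 0), Int.ofNat (nat_lit 0), Int.ofNat (nat_lit 4), Int.negSucc (nat_lit 3), Int.ofNat (nat_lit 0), Int.ofNat (nat_lit 0), Int.ofNat (nat_lit 0), Int.negSucc (nat_lit 3), Int.ofNat (nat_lit 0), Int.ofNat (nat_lit 0), Int.ofNat (nat_lit 0), Int.ofNat (nat_lit 0), Int.ofNat (nat_lit 0), Int.ofNat (nat_lit 0), Int.ofNat (nat_lit 0), Int.ofNat (nat_lit 0), Int.ofNat (nat_lit 16), Int.ofNat (nat_lit 0), Int.ofNat (nat_lit 0), Int.negSucc (nat_lit 3), Int.ofNat (nat_lit 0), Int.ofNat (nat_lit 0), Int.ofNat (nat_lit 4), Int.ofNat (nat_lit 0), Int.ofNat (nat_lit 0), Int.ofNat (nat_lit 0), Int.ofNat (nat_lit 0), Int.ofNat (nat_lit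 0), Int.negSucc (nat_lit 3), Int.ofNat (nat_lit 0), Int.ofNat (nat_lit 0), Int.negSucc (nat_lit 3), Int.ofNat (nat_lit 0), Int.ofNat (nat_lit 0), Int.ofNat (nat_lit 0), Int.negSucc (nat_lit 3), Int.ofNat (nat_lit 0)],
  [Int.ofNat (nat_lit 4), Int.ofNat (nat_lit 0), Int.ofNat (nat_lit 0), Int.ofNat (nat_lit 0), Int.ofNat (nat_lit 0), Int.negSucc (nat_lit 3), Int.ofNat (nat_lit 0), Int.ofNat (nat_lit 4), Int.ofNat (nat_lit 0), Int.negSucc (nat_lit 3), Int.ofNat (nat_lit 0), Int.ofNat (nat_lit 4), Int.ofNat (nat_lit 0), Int.ofNat (nat_lit 4), Int.ofNat (nat_lit 0), Int.negSucc (nat_lit 3), Int.ofNat (nat_lit 0), Int.ofNat (nat_lit 0), Int.ofNat (nat_lit 0), Int.ofNat (nat_lit 0), Int.ofNat (nat_lit 0), Int.ofNat (nat_lit 4), Int.ofNat (nat_lit 0), Int.ofNat (nat_lit 0), Int.ofNat (nat_lit 0), Int.ofNat (nat_lit 4), Int.ofNat (nat_lit 0), Int.ofNat (nat_lit 0), Int.ofNat (nat_lit 0), Int.ofNat (nat_lit 0), Int.ofNat (nat_lit 0), Int.ofNat (nat_lit 4), Int.ofNat (nat_lit 0), Int.ofNat (nat_lit 0), Int.ofNat (nat_lit 0), Int.ofNat (nat_lit 0), Int.ofNat (nat_lit 16), Int.ofNat (nat_lit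 0), Int.ofNat (nat_lit 0), Int.ofNat (nat_lit 0), Int.ofNat (nat_lit 0), Int.ofNat (nat_lit 0), Int.negSucc (nat_lit 3), Int.ofNat (nat_lit 0), Int.ofNat (nat_lit 0), Int.ofNat (nat_lit 0), Int.ofNat (nat_lit 0), Int.negSucc (nat_lit 3), Int.ofNat (nat_lit 0), Int.ofNat (nat_lit 0), Int.ofNat (nat_lit 0), Int.negSucc (nat_lit 3), Int.ofNat (nat_lit 0), Int.ofNat (nat_lit 0), Int.ofNat (nat_lit 0), Int.ofNat (nat_lit 0)],
  [Int.ofNat (nat_lit 0), Int.ofNat (nat_lit 4), Int.ofNat (nat_lit 0), Int.ofNat (nat_lit 0), Int.ofNat (nat_lit 4), Int.ofNat (nat_lit 0), Int.negSucc (nat_lit 3), Int.ofNat (nat_lit 0), Int.ofNat (nat_lit 4), Int.ofNat (nat_lit 0), Int.negSucc (nat_lit 3), Int.ofNat (nat_lit 0), Int.negSucc (nat_lit 3), Int.ofNat (nat_lit 0), Int.ofNat (nat_lit 4), Int.ofNat (nat_lit 0), Int.ofNat (nat_lit 0), Int.ofNat (nat_lit 0), Int.ofNat (nat_lit 0), Int.ofNat (nat_lit 0), Int.negSucc (nat_lit 3), Int.ofNat (nat_lit 0), Int.ofNat (nat_lit 0), Int.ofNat (nat_lit 0), Int.negSucc (nat_lit 3), Int.ofNat (nat_lit 0), Int.ofNat (nat_lit 0), Int.ofNat (nat_lit 0), Int.ofNat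 (nat_lit 0), Int.ofNat (nat_lit 0), Int.negSucc (nat_lit 3), Int.ofNat (nat_lit 0), Int.ofNat (nat_lit 0), Int.ofNat (nat_lit 0), Int.ofNat (nat_lit 0), Int.ofNat (nat_lit 0), Int.ofNat (nat_lit 0), Int.ofNat (nat_lit 16), Int.ofNat (nat_lit 0), Int.ofNat (nat_lit 0), Int.ofNat (nat_lit 0), Int.ofNat (nat_lit 0), Int.ofNat (nat_lit 0), Int.negSucc (nat_lit 3), Int.ofNat (nat_lit 0), Int.ofNat (nat_lit 0), Int.ofNat (nat_lit 4), Int.ofNat (nat_lit 0), Int.ofNat (nat_lit 0), Int.ofNat (nat_lit 0), Int.ofNat (nat_lit 4), Int.ofNat (nat_lit 0), Int.ofNat (nat_lit 0), Int.ofNat (nat_lit 0), Int.ofNat (nat_lit 0), Int.ofNat (nat_lit 0)],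
  [Int.ofNat (nat_lit 0), Int.ofNat (nat_lit 0), Int.ofNat (nat_lit 0), Int.ofNat (nat_lit 0), Int.ofNat (nat_lit 0), Int.ofNat (nat_lit 4), Int.ofNat (nat_lit 0), Int.ofNat (nat_lit 4), Int.ofNat (nat_lit 0), Int.ofNat (nat_lit 0), Int.ofNat (nat_lit 0), Int.ofNat (nat_lit 0), Int.ofNat (nat_lit 0), Int.negSucc (nat_lit 3), Int.negSucc (nat_lit 3), Int.ofNat (nat_lit 0), Int.ofNat (nat_lit 0), Int.negSucc (nat_lit 3), Int.ofNat (nat_lit 0), Int.ofNat (nat_lit 0), Int.ofNat (nat_lit 0), Int.negSucc (nat_lit 3), Int.ofNat (nat_lit 0), Int.ofNat (nat_lit 0), Int.ofNat (nat_lit 0), Int.negSucc (nat_lit 3), Int.ofNat (nat_lit 4), Int.ofNat (nat_lit 0), Int.ofNat (nat_lit 0), Int.ofNat (nat_lit 4), Int.ofNat (nat_lit 0), Int.ofNat (nat_lit 0), Int.ofNat (nat_lit 0), Int.ofNat (nat_lit 0), Int.ofNat (nat_lit 0), Int.negSucc (nat_lit 3), Int.ofNat (nat_lit 0), Int.ofNat (nat_lit 0), Int.ofNat (nat_lit 16), Int.ofNat (nat_lit 0), Int.ofNat (nat_lit 0), Int.ofNat (nat_lit 0), Int.ofNat (nat_lit 0), Int.negSucc (nat_lit 3), Int.ofNat (nat_lit 0), Int.ofNat (nat_lit 0), Int.ofNat (nat_lit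 0), Int.ofNat (nat_lit 4), Int.ofNat (nat_lit 0), Int.ofNat (nat_lit 4), Int.ofNat (nat_lit 0), Int.ofNat (nat_lit 0), Int.ofNat (nat_lit 0), Int.ofNat (nat_lit 0), Int.ofNat (nat_lit 0), Int.ofNat (nat_lit 0)],
  [Int.ofNat (nat_lit 0), Int.ofNat (nat_lit 0), Int.ofNat (nat_lit 0), Int.ofNat (nat_lit 0), Int.negSucc (nat_lit 3), Int.ofNat (nat_lit 0), Int.negSucc (nat_lit 3), Int.ofNat (nat_lit 0), Int.ofNat (nat_lit 0), Int.ofNat (nat_lit 0), Int.ofNat (nat_lit 0), Int.ofNat (nat_lit 0), Int.ofNat (nat_lit 4), Int.ofNat (nat_lit 0), Int.ofNat (nat_lit 0), Int.negSucc (nat_lit 3), Int.ofNat (nat_lit 4), Int.ofNat (nat_lit 0), Int.ofNat (nat_lit 0), Int.ofNat (nat_lit 0), Int.ofNat (nat_lit 4), Int.ofNat (nat_lit 0), Int.ofNat (nat_lit 0), Int.ofNat (nat_lit 0), Int.ofNat (nat_lit 4), Int.ofNat (nat_lit 0), Int.ofNat (nat_lit 0), Int.ofNat (nat_lit 4), Int.negSucc (nat_lit 3), Int.ofNat (nat_lit 0), Int.ofNat (nat_lit 0), Int.ofNat (nat_lit 0), Int.ofNat (nat_lit 0), Int.ofNat (nat_lit 0), Int.ofNat (nat_lit 4), Int.ofNat (nat_lit 0), Int.ofNat (nat_lit 0), Int.ofNat (nat_lit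 0), Int.ofNat (nat_lit 0), Int.ofNat (nat_lit 16), Int.ofNat (nat_lit 0), Int.ofNat (nat_lit 0), Int.ofNat (nat_lit 4), Int.ofNat (nat_lit 0), Int.ofNat (nat_lit 0), Int.ofNat (nat_lit 0), Int.negSucc (nat_lit 3), Int.ofNat (nat_lit 0), Int.negSucc (nat_lit 3), Int.ofNat (nat_lit 0), Int.ofNat (nat_lit 0), Int.ofNat (nat_lit 0), Int.ofNat (nat_lit 0), Int.ofNat (nat_lit 0), Int.ofNat (nat_lit 0), Int.ofNat (nat_lit 0)],
  [Int.ofNat (nat_lit 0), Int.negSucc (nat_lit 3), Int.ofNat (nat_lit 0), Int.ofNat (nat_lit 0), Int.ofNat (nat_lit 4), Int.ofNat (nat_lit 0), Int.ofNat (nat_lit 4), Int.ofNat (nat_lit 0), Int.ofNat (nat_lit 0), Int.negSucc (nat_lit 3), Int.ofNat (nat_lit 0), Int.ofNat (nat_lit 0), Int.negSucc (nat_lit 3), Int.ofNat (nat_lit 0), Int.ofNat (nat_lit 0), Int.ofNat (nat_lit 4), Int.ofNat (nat_lit 4), Int.ofNat (nat_lit 0), Int.ofNat (nat_lit 0), Int.ofNat (nat_lit 0), Int.ofNat (nat_lit 0), Int.ofNat (nat_lit 0), Int.ofNat (nat_lit 0), Int.ofNat (nat_lit 0), Int.ofNat (nat_lit 4), Int.ofNat (nat_lit 0), Int.ofNat (nat_lit 0), Int.ofNat (nat_lit 4), Int.ofNat (nat_lit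 0), Int.ofNat (nat_lit 4), Int.ofNat (nat_lit 0), Int.ofNat (nat_lit 0), Int.ofNat (nat_lit 0), Int.ofNat (nat_lit 0), Int.ofNat (nat_lit 4), Int.ofNat (nat_lit 0), Int.ofNat (nat_lit 0), Int.ofNat (nat_lit 0), Int.ofNat (nat_lit 0), Int.ofNat (nat_lit 0), Int.ofNat (nat_lit 16), Int.ofNat (nat_lit 0), Int.ofNat (nat_lit 4), Int.ofNat (nat_lit 0), Int.ofNat (nat_lit 0), Int.ofNat (nat_lit 0), Int.ofNat (nat_lit 0), Int.negSucc (nat_lit 3), Int.ofNat (nat_lit 0), Int.negSucc (nat_lit 3), Int.ofNat (nat_lit 4), Int.ofNat (nat_lit 0), Int.ofNat (nat_lit 0), Int.ofNat (nat_lit 0), Int.ofNat (nat_lit 0), Int.ofNat (nat_lit 0)],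
  [Int.ofNat (nat_lit 4), Int.ofNat (nat_lit 0), Int.ofNat (nat_lit 0), Int.ofNat (nat_lit 0), Int.ofNat (nat_lit 0), Int.ofNat (nat_lit 4), Int.ofNat (nat_lit 0), Int.ofNat (nat_lit 4), Int.ofNat (nat_lit 4), Int.ofNat (nat_lit 0), Int.ofNat (nat_lit 0), Int.ofNat (nat_lit 0), Int.ofNat (nat_lit 0), Int.negSucc (nat_lit 3), Int.negSucc (nat_lit 3), Int.ofNat (nat_lit 0), Int.ofNat (nat_lit 0), Int.ofNat (nat_lit 4), Int.ofNat (nat_lit 0), Int.ofNat (nat_lit 0), Int.ofNat (nat_lit 0), Int.ofNat (nat_lit 0), Int.ofNat (nat_lit 0), Int.ofNat (nat_lit 0), Int.ofNat (nat_lit 0), Int.ofNat (nat_lit 4), Int.negSucc (nat_lit 3), Int.ofNat (nat_lit 0), Int.negSucc (nat_lit 3), Int.ofNat (nat_lit 0), Int.ofNat (nat_lit 0), Int.ofNat (nat_lit 0), Int.ofNat (nat_lit 0), Int.ofNat (nat_lit 0), Int.ofNat (nat_lit 0), Int.ofNat (nat_lit 4), Int.ofNat (nat_lit 0), Int.ofNat (nat_lit 0), Int.ofNat (nat_lit 0), Int.ofNat (nat_lit 0), Int.ofNat (nat_lit 0), Int.ofNat (nat_lit 16), Int.ofNat (nat_lit 0), Int.ofNat (nat_lit 4), Int.ofNat (nat_lit 0), Int.ofNat (nat_lit 0), Int.ofNat (nat_lit 4),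 Int.ofNat (nat_lit 0), Int.ofNat (nat_lit 4), Int.ofNat (nat_lit 0), Int.ofNat (nat_lit 0), Int.ofNat (nat_lit 4), Int.ofNat (nat_lit 0), Int.ofNat (nat_lit 0), Int.ofNat (nat_lit 0), Int.ofNat (nat_lit 0)],
  [Int.ofNat (nat_lit 0), Int.ofNat (nat_lit 0), Int.ofNat (nat_lit 0), Int.ofNat (nat_lit 0), Int.ofNat (nat_lit 0), Int.ofNat (nat_lit 4), Int.ofNat (nat_lit 0), Int.ofNat (nat_lit 0), Int.ofNat (nat_lit 4), Int.ofNat (nat_lit 0), Int.negSucc (nat_lit 3), Int.ofNat (nat_lit 0), Int.ofNat (nat_lit 0), Int.ofNat (nat_lit 0), Int.ofNat (nat_lit 0), Int.ofNat (nat_lit 0), Int.ofNat (nat_lit 4), Int.ofNat (nat_lit 0), Int.ofNat (nat_lit 0), Int.ofNat (nat_lit 0), Int.ofNat (nat_lit 0), Int.ofNat (nat_lit 0), Int.negSucc (nat_lit 3), Int.ofNat (nat_lit 0), Int.ofNat (nat_lit 4), Int.ofNat (nat_lit 0), Int.ofNat (nat_lit 0), Int.ofNat (nat_lit 4), Int.ofNat (nat_lit 0), Int.ofNat (nat_lit 0), Int.ofNat (nat_lit 0), Int.negSucc (nat_lit 3), Int.ofNat (nat_lit 0), Int.ofNat (nat_lit 4), Int.ofNat (nat_lit 0), Int.ofNat (nat_lit 0), Int.negSucc (nat_lit 3), Int.ofNat (nat_lit 0),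 Int.ofNat (nat_lit 0), Int.ofNat (nat_lit 4), Int.ofNat (nat_lit 4), Int.ofNat (nat_lit 0), Int.ofNat (nat_lit 16), Int.ofNat (nat_lit 0), Int.ofNat (nat_lit 0), Int.ofNat (nat_lit 0), Int.ofNat (nat_lit 0), Int.ofNat (nat_lit 0), Int.ofNat (nat_lit 4), Int.ofNat (nat_lit 0), Int.ofNat (nat_lit 0), Int.ofNat (nat_lit 4), Int.negSucc (nat_lit 3), Int.ofNat (nat_lit 0), Int.ofNat (nat_lit 0), Int.ofNat (nat_lit 4)],
  [Int.ofNat (nat_lit 0), Int.ofNat (nat_lit 0), Int.ofNat (nat_lit 0), Int.ofNat (nat_lit 0), Int.negSucc (nat_lit 3), Int.ofNat (nat_lit 0), Int.ofNat (nat_lit 0), Int.ofNat (nat_lit 0), Int.ofNat (nat_lit 0), Int.ofNat (nat_lit 4), Int.ofNat (nat_lit 0), Int.negSucc (nat_lit 3), Int.ofNat (nat_lit 0), Int.ofNat (nat_lit 0), Int.ofNat (nat_lit 0), Int.ofNat (nat_lit 0), Int.ofNat (nat_lit 0), Int.ofNat (nat_lit 4), Int.ofNat (nat_lit 0), Int.ofNat (nat_lit 0), Int.ofNat (nat_lit 0), Int.ofNat (nat_lit 0), Int.ofNat (nat_lit 0), Int.negSucc (nat_lit 3), Int.ofNat (nat_lit 0), Int.ofNat (nat_lit 4), Int.negSucc (nat_lit 3), Int.ofNat (nat_lit 0), Int.ofNat (nat_lit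 0), Int.ofNat (nat_lit 0), Int.ofNat (nat_lit 4), Int.ofNat (nat_lit 0), Int.negSucc (nat_lit 3), Int.ofNat (nat_lit 0), Int.ofNat (nat_lit 0), Int.ofNat (nat_lit 0), Int.ofNat (nat_lit 0), Int.negSucc (nat_lit 3), Int.negSucc (nat_lit 3), Int.ofNat (nat_lit 0), Int.ofNat (nat_lit 0), Int.ofNat (nat_lit 4), Int.ofNat (nat_lit 0), Int.ofNat (nat_lit 16), Int.ofNat (nat_lit 0), Int.ofNat (nat_lit 0), Int.ofNat (nat_lit 0), Int.ofNat (nat_lit 0), Int.ofNat (nat_lit 0), Int.ofNat (nat_lit 4), Int.negSucc (nat_lit 3), Int.ofNat (nat_lit 0), Int.ofNat (nat_lit 0), Int.negSucc (nat_lit 3), Int.negSucc (nat_lit 3), Int.ofNat (nat_lit 0)],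
  [Int.ofNat (nat_lit 0), Int.ofNat (nat_lit 4), Int.ofNat (nat_lit 4), Int.ofNat (nat_lit 0), Int.ofNat (nat_lit 0), Int.ofNat (nat_lit 0), Int.ofNat (nat_lit 0), Int.ofNat (nat_lit 0), Int.ofNat (nat_lit 0), Int.ofNat (nat_lit 4), Int.ofNat (nat_lit 0), Int.negSucc (nat_lit 3), Int.ofNat (nat_lit 4), Int.ofNat (nat_lit 0), Int.negSucc (nat_lit 3), Int.ofNat (nat_lit 0), Int.negSucc (nat_lit 3), Int.ofNat (nat_lit 0), Int.ofNat (nat_lit 0), Int.ofNat (nat_lit 0), Int.ofNat (nat_lit 4), Int.ofNat (nat_lit 0), Int.ofNat (nat_lit 0), Int.ofNat (nat_lit 0), Int.ofNat (nat_lit 0), Int.ofNat (nat_lit 0), Int.ofNat (nat_lit 0), Int.ofNat (nat_lit 4), Int.ofNat (nat_lit 0), Int.ofNat (nat_lit 0), Int.ofNat (nat_lit 0), Int.ofNat (nat_lit 0), Int.ofNat (nat_lit 0), Int.ofNat (nat_lit 0), Int.ofNat (nat_lit 0), Int.ofNat (nat_lit 0), Int.ofNat (nat_lit 0), Int.ofNat (nat_lit 0), Int.ofNat (nat_lit 0), Int.ofNat (nat_lit 0), Int.ofNat (nat_lit 0), Int.ofNat (nat_lit 0), Int.ofNat (nat_lit 0), Int.ofNat (nat_lit 0), Int.ofNat (nat_lit 16), Int.ofNat (nat_lit 0), Int.ofNat (nat_lit 0),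 Int.negSucc (nat_lit 3), Int.ofNat (nat_lit 0), Int.ofNat (nat_lit 0), Int.ofNat (nat_lit 0), Int.negSucc (nat_lit 3), Int.ofNat (nat_lit 0), Int.ofNat (nat_lit 0), Int.ofNat (nat_lit 0), Int.ofNat (nat_lit 0)],
  [Int.negSucc (nat_lit 3), Int.ofNat (nat_lit 0), Int.ofNat (nat_lit 0), Int.ofNat (nat_lit 4), Int.ofNat (nat_lit 0), Int.ofNat (nat_lit 0), Int.ofNat (nat_lit 0), Int.ofNat (nat_lit 0), Int.negSucc (nat_lit 3), Int.ofNat (nat_lit 0), Int.ofNat (nat_lit 4), Int.ofNat (nat_lit 0), Int.ofNat (nat_lit 0), Int.ofNat (nat_lit 4), Int.ofNat (nat_lit 0), Int.negSucc (nat_lit 3), Int.ofNat (nat_lit 0), Int.negSucc (nat_lit 3), Int.ofNat (nat_lit 0), Int.ofNat (nat_lit 0), Int.ofNat (nat_lit 0), Int.ofNat (nat_lit 4), Int.ofNat (nat_lit 0), Int.ofNat (nat_lit 0), Int.ofNat (nat_lit 0), Int.ofNat (nat_lit 0), Int.negSucc (nat_lit 3), Int.ofNat (nat_lit 0), Int.ofNat (nat_lit 0), Int.ofNat (nat_lit 0), Int.ofNat (nat_lit 0), Int.ofNat (nat_lit 0), Int.ofNat (nat_lit 0), Int.ofNat (nat_lit 0), Int.ofNat (nat_lit 0), Int.ofNat (nat_lit 0), Int.ofNat (nat_lit 0), Int.ofNat (nat_lit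 0), Int.ofNat (nat_lit 0), Int.ofNat (nat_lit 0), Int.ofNat (nat_lit 0), Int.ofNat (nat_lit 0), Int.ofNat (nat_lit 0), Int.ofNat (nat_lit 0), Int.ofNat (nat_lit 0), Int.ofNat (nat_lit 16), Int.ofNat (nat_lit 4), Int.ofNat (nat_lit 0), Int.ofNat (nat_lit 0), Int.ofNat (nat_lit 0), Int.ofNat (nat_lit 4), Int.ofNat (nat_lit 0), Int.ofNat (nat_lit 0), Int.ofNat (nat_lit 0), Int.ofNat (nat_lit 0), Int.ofNat (nat_lit 0)],
  [Int.ofNat (nat_lit 0), Int.ofNat (nat_lit 4), Int.ofNat (nat_lit 0), Int.ofNat (nat_lit 0), Int.ofNat (nat_lit 4), Int.ofNat (nat_lit 0), Int.negSucc (nat_lit 3), Int.ofNat (nat_lit 0), Int.ofNat (nat_lit 0), Int.negSucc (nat_lit 3), Int.ofNat (nat_lit 0), Int.ofNat (nat_lit 0), Int.negSucc (nat_lit 3), Int.ofNat (nat_lit 0), Int.ofNat (nat_lit 0), Int.ofNat (nat_lit 0), Int.ofNat (nat_lit 4), Int.ofNat (nat_lit 0), Int.ofNat (nat_lit 0), Int.ofNat (nat_lit 0), Int.negSucc (nat_lit 3), Int.ofNat (nat_lit 0), Int.ofNat (nat_lit 0), Int.ofNat (nat_lit 0), Int.negSucc (nat_lit 3), Int.ofNat (nat_lit 0), Int.negSucc (nat_lit 3), Int.ofNat (nat_lit 0), Int.ofNat (nat_lit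 0), Int.ofNat (nat_lit 0), Int.negSucc (nat_lit 3), Int.ofNat (nat_lit 0), Int.ofNat (nat_lit 0), Int.ofNat (nat_lit 4), Int.negSucc (nat_lit 3), Int.ofNat (nat_lit 0), Int.ofNat (nat_lit 0), Int.ofNat (nat_lit 4), Int.ofNat (nat_lit 0), Int.negSucc (nat_lit 3), Int.ofNat (nat_lit 0), Int.ofNat (nat_lit 4), Int.ofNat (nat_lit 0), Int.ofNat (nat_lit 0), Int.ofNat (nat_lit 0), Int.ofNat (nat_lit 4), Int.ofNat (nat_lit 16), Int.ofNat (nat_lit 0), Int.ofNat (nat_lit 0), Int.ofNat (nat_lit 0), Int.ofNat (nat_lit 0), Int.ofNat (nat_lit 0), Int.ofNat (nat_lit 0), Int.ofNat (nat_lit 0), Int.ofNat (nat_lit 0), Int.negSucc (nat_lit 3)],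
  [Int.negSucc (nat_lit 3), Int.ofNat (nat_lit 0), Int.ofNat (nat_lit 0), Int.ofNat (nat_lit 0), Int.ofNat (nat_lit 0), Int.ofNat (nat_lit 4), Int.ofNat (nat_lit 0), Int.negSucc (nat_lit 3), Int.ofNat (nat_lit 4), Int.ofNat (nat_lit 0), Int.ofNat (nat_lit 0), Int.ofNat (nat_lit 0), Int.ofNat (nat_lit 0), Int.negSucc (nat_lit 3), Int.ofNat (nat_lit 0), Int.ofNat (nat_lit 0), Int.ofNat (nat_lit 0), Int.ofNat (nat_lit 4), Int.ofNat (nat_lit 0), Int.ofNat (nat_lit 0), Int.ofNat (nat_lit 0), Int.negSucc (nat_lit 3), Int.ofNat (nat_lit 0), Int.ofNat (nat_lit 0), Int.ofNat (nat_lit 0), Int.negSucc (nat_lit 3), Int.ofNat (nat_lit 0), Int.negSucc (nat_lit 3), Int.ofNat (nat_lit 0), Int.ofNat (nat_lit 0), Int.ofNat (nat_lit 0), Int.negSucc (nat_lit 3), Int.negSucc (nat_lit 3), Int.ofNat (nat_lit 0), Int.ofNat (nat_lit 0), Int.negSucc (nat_lit 3), Int.negSucc (nat_lit 3), Int.ofNat (nat_lit 0), Int.ofNat (nat_lit 4), Int.ofNat (nat_lit 0), Int.negSucc (nat_lit 3), Int.ofNat (nat_lit 0), Int.ofNat (nat_lit 0), Int.ofNat (nat_lit 0), Int.negSucc (nat_lit 3), Int.ofNat (nat_lit 0), Int.ofNat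 (nat_lit 0), Int.ofNat (nat_lit 16), Int.ofNat (nat_lit 0), Int.ofNat (nat_lit 0), Int.ofNat (nat_lit 0), Int.ofNat (nat_lit 0), Int.ofNat (nat_lit 0), Int.ofNat (nat_lit 0), Int.ofNat (nat_lit 4), Int.ofNat (nat_lit 0)],
  [Int.ofNat (nat_lit 4), Int.ofNat (nat_lit 0), Int.ofNat (nat_lit 0), Int.ofNat (nat_lit 0), Int.ofNat (nat_lit 0), Int.ofNat (nat_lit 4), Int.ofNat (nat_lit 0), Int.ofNat (nat_lit 0), Int.ofNat (nat_lit 4), Int.ofNat (nat_lit 0), Int.negSucc (nat_lit 3), Int.ofNat (nat_lit 0), Int.ofNat (nat_lit 0), Int.ofNat (nat_lit 0), Int.ofNat (nat_lit 0), Int.ofNat (nat_lit 4), Int.ofNat (nat_lit 0), Int.ofNat (nat_lit 0), Int.ofNat (nat_lit 0), Int.ofNat (nat_lit 0), Int.ofNat (nat_lit 0), Int.ofNat (nat_lit 4), Int.ofNat (nat_lit 0), Int.ofNat (nat_lit 0), Int.ofNat (nat_lit 0), Int.ofNat (nat_lit 0), Int.ofNat (nat_lit 0), Int.ofNat (nat_lit 0), Int.ofNat (nat_lit 0), Int.ofNat (nat_lit 0), Int.ofNat (nat_lit 4), Int.ofNat (nat_lit 0), Int.negSucc (nat_lit 3), Int.ofNat (nat_lit 0), Int.ofNat (nat_lit 0), Int.ofNat (nat_lit 0), Int.ofNat (nat_lit 0), Int.ofNat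 (nat_lit 0), Int.ofNat (nat_lit 0), Int.negSucc (nat_lit 3), Int.ofNat (nat_lit 0), Int.ofNat (nat_lit 4), Int.ofNat (nat_lit 4), Int.ofNat (nat_lit 0), Int.ofNat (nat_lit 0), Int.ofNat (nat_lit 0), Int.ofNat (nat_lit 0), Int.ofNat (nat_lit 0), Int.ofNat (nat_lit 16), Int.ofNat (nat_lit 0), Int.ofNat (nat_lit 0), Int.ofNat (nat_lit 4), Int.ofNat (nat_lit 0), Int.ofNat (nat_lit 4), Int.ofNat (nat_lit 0), Int.ofNat (nat_lit 0)],
  [Int.ofNat (nat_lit 0), Int.ofNat (nat_lit 4), Int.ofNat (nat_lit 0), Int.ofNat (nat_lit 0), Int.negSucc (nat_lit 3), Int.ofNat (nat_lit 0), Int.ofNat (nat_lit 0), Int.ofNat (nat_lit 0), Int.ofNat (nat_lit 0), Int.ofNat (nat_lit 4), Int.ofNat (nat_lit 0), Int.negSucc (nat_lit 3), Int.ofNat (nat_lit 0), Int.ofNat (nat_lit 0), Int.negSucc (nat_lit 3), Int.ofNat (nat_lit 0), Int.ofNat (nat_lit 0), Int.ofNat (nat_lit 0), Int.ofNat (nat_lit 0), Int.ofNat (nat_lit 0), Int.negSucc (nat_lit 3), Int.ofNat (nat_lit 0), Int.ofNat (nat_lit 0), Int.ofNat (nat_lit 0), Int.ofNat (nat_lit 0), Int.ofNat (nat_lit 0), Int.ofNat (nat_lit 0), Int.ofNat (nat_lit 0), Int.ofNat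 (nat_lit 0), Int.ofNat (nat_lit 0), Int.ofNat (nat_lit 0), Int.ofNat (nat_lit 4), Int.ofNat (nat_lit 0), Int.negSucc (nat_lit 3), Int.ofNat (nat_lit 0), Int.ofNat (nat_lit 0), Int.ofNat (nat_lit 0), Int.ofNat (nat_lit 0), Int.ofNat (nat_lit 4), Int.ofNat (nat_lit 0), Int.negSucc (nat_lit 3), Int.ofNat (nat_lit 0), Int.ofNat (nat_lit 0), Int.ofNat (nat_lit 4), Int.ofNat (nat_lit 0), Int.ofNat (nat_lit 0), Int.ofNat (nat_lit 0), Int.ofNat (nat_lit 0), Int.ofNat (nat_lit 0), Int.ofNat (nat_lit 16), Int.negSucc (nat_lit 3), Int.ofNat (nat_lit 0), Int.negSucc (nat_lit 3), Int.ofNat (nat_lit 0), Int.ofNat (nat_lit 0), Int.ofNat (nat_lit 0)],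
  [Int.negSucc (nat_lit 3), Int.ofNat (nat_lit 0), Int.ofNat (nat_lit 0), Int.ofNat (nat_lit 4), Int.ofNat (nat_lit 4), Int.ofNat (nat_lit 0), Int.ofNat (nat_lit 0), Int.ofNat (nat_lit 0), Int.ofNat (nat_lit 0), Int.ofNat (nat_lit 0), Int.ofNat (nat_lit 0), Int.ofNat (nat_lit 0), Int.ofNat (nat_lit 0), Int.ofNat (nat_lit 0), Int.ofNat (nat_lit 0), Int.ofNat (nat_lit 4), Int.ofNat (nat_lit 0), Int.ofNat (nat_lit 0), Int.ofNat (nat_lit 0), Int.ofNat (nat_lit 0), Int.negSucc (nat_lit 3), Int.ofNat (nat_lit 0), Int.ofNat (nat_lit 4), Int.ofNat (nat_lit 0), Int.negSucc (nat_lit 3), Int.ofNat (nat_lit 0), Int.ofNat (nat_lit 0), Int.ofNat (nat_lit 4), Int.negSucc (nat_lit 3), Int.ofNat (nat_lit 0), Int.ofNat (nat_lit 0), Int.ofNat (nat_lit 0), Int.ofNat (nat_lit 0), Int.ofNat (nat_lit 0), Int.ofNat (nat_lit 0), Int.negSucc (nat_lit 3), Int.ofNat (nat_lit 0), Int.ofNat (nat_lit 4), Int.ofNat (nat_lit 0), Int.ofNat (nat_lit 0), Int.ofNat (nat_lit 4), Int.ofNat (nat_lit 0), Int.ofNat (nat_lit 0), Int.negSucc (nat_lit 3), Int.ofNat (nat_lit 0), Int.ofNat (nat_lit 4), Int.ofNat (nat_lit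 0), Int.ofNat (nat_lit 0), Int.ofNat (nat_lit 0), Int.negSucc (nat_lit 3), Int.ofNat (nat_lit 16), Int.ofNat (nat_lit 0), Int.ofNat (nat_lit 0), Int.ofNat (nat_lit 4), Int.ofNat (nat_lit 0), Int.ofNat (nat_lit 4)],
  [Int.ofNat (nat_lit 0), Int.negSucc (nat_lit 3), Int.negSucc (nat_lit 3), Int.ofNat (nat_lit 0), Int.ofNat (nat_lit 0), Int.ofNat (nat_lit 4), Int.ofNat (nat_lit 0), Int.ofNat (nat_lit 0), Int.ofNat (nat_lit 0), Int.ofNat (nat_lit 0), Int.ofNat (nat_lit 0), Int.ofNat (nat_lit 0), Int.ofNat (nat_lit 0), Int.ofNat (nat_lit 0), Int.negSucc (nat_lit 3), Int.ofNat (nat_lit 0), Int.ofNat (nat_lit 0), Int.ofNat (nat_lit 0), Int.ofNat (nat_lit 0), Int.ofNat (nat_lit 0), Int.ofNat (nat_lit 0), Int.negSucc (nat_lit 3), Int.ofNat (nat_lit 0), Int.ofNat (nat_lit 4), Int.ofNat (nat_lit 0), Int.negSucc (nat_lit 3), Int.negSucc (nat_lit 3), Int.ofNat (nat_lit 0), Int.ofNat (nat_lit 0), Int.negSucc (nat_lit 3), Int.ofNat (nat_lit 0), Int.ofNat (nat_lit 0), Int.ofNat (nat_lit 0), Int.ofNat (nat_lit 0), Int.ofNat (nat_lit 4), Int.ofNat (nat_lit 0), Int.negSucc (nat_lit 3), Int.ofNat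 (nat_lit 0), Int.ofNat (nat_lit 0), Int.ofNat (nat_lit 0), Int.ofNat (nat_lit 0), Int.ofNat (nat_lit 4), Int.ofNat (nat_lit 4), Int.ofNat (nat_lit 0), Int.negSucc (nat_lit 3), Int.ofNat (nat_lit 0), Int.ofNat (nat_lit 0), Int.ofNat (nat_lit 0), Int.ofNat (nat_lit 4), Int.ofNat (nat_lit 0), Int.ofNat (nat_lit 0), Int.ofNat (nat_lit 16), Int.negSucc (nat_lit 3), Int.ofNat (nat_lit 0), Int.negSucc (nat_lit 3), Int.ofNat (nat_lit 0)],
  [Int.ofNat (nat_lit 4), Int.ofNat (nat_lit 0), Int.ofNat (nat_lit 0), Int.ofNat (nat_lit 0), Int.ofNat (nat_lit 0), Int.ofNat (nat_lit 4), Int.ofNat (nat_lit 4), Int.ofNat (nat_lit 0), Int.ofNat (nat_lit 0), Int.negSucc (nat_lit 3), Int.ofNat (nat_lit 0), Int.ofNat (nat_lit 0), Int.ofNat (nat_lit 0), Int.ofNat (nat_lit 0), Int.ofNat (nat_lit 4), Int.ofNat (nat_lit 0), Int.ofNat (nat_lit 0), Int.ofNat (nat_lit 0), Int.ofNat (nat_lit 0), Int.ofNat (nat_lit 0), Int.ofNat (nat_lit 0), Int.ofNat (nat_lit 4), Int.ofNat (nat_lit 0), Int.ofNat (nat_lit 0), Int.negSucc (nat_lit 3), Int.ofNat (nat_lit 0), Int.ofNat (nat_lit 0), Int.negSucc (nat_lit 3), Int.negSucc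 (nat_lit 3), Int.ofNat (nat_lit 0), Int.ofNat (nat_lit 4), Int.ofNat (nat_lit 0), Int.ofNat (nat_lit 0), Int.ofNat (nat_lit 0), Int.ofNat (nat_lit 0), Int.ofNat (nat_lit 0), Int.ofNat (nat_lit 0), Int.ofNat (nat_lit 0), Int.ofNat (nat_lit 0), Int.ofNat (nat_lit 0), Int.ofNat (nat_lit 0), Int.ofNat (nat_lit 0), Int.negSucc (nat_lit 3), Int.ofNat (nat_lit 0), Int.ofNat (nat_lit 0), Int.ofNat (nat_lit 0), Int.ofNat (nat_lit 0), Int.ofNat (nat_lit 0), Int.ofNat (nat_lit 0), Int.negSucc (nat_lit 3), Int.ofNat (nat_lit 0), Int.negSucc (nat_lit 3), Int.ofNat (nat_lit 16), Int.ofNat (nat_lit 0), Int.ofNat (nat_lit 0), Int.ofNat (nat_lit 0)],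
  [Int.ofNat (nat_lit 0), Int.ofNat (nat_lit 4), Int.ofNat (nat_lit 0), Int.ofNat (nat_lit 0), Int.negSucc (nat_lit 3), Int.ofNat (nat_lit 0), Int.ofNat (nat_lit 0), Int.ofNat (nat_lit 4), Int.ofNat (nat_lit 4), Int.ofNat (nat_lit 0), Int.ofNat (nat_lit 0), Int.ofNat (nat_lit 0), Int.ofNat (nat_lit 0), Int.ofNat (nat_lit 0), Int.ofNat (nat_lit 0), Int.ofNat (nat_lit 4), Int.ofNat (nat_lit 0), Int.ofNat (nat_lit 0), Int.ofNat (nat_lit 0), Int.ofNat (nat_lit 0), Int.negSucc (nat_lit 3), Int.ofNat (nat_lit 0), Int.ofNat (nat_lit 0), Int.ofNat (nat_lit 0), Int.ofNat (nat_lit 0), Int.negSucc (nat_lit 3), Int.ofNat (nat_lit 4), Int.ofNat (nat_lit 0), Int.ofNat (nat_lit 0), Int.negSucc (nat_lit 3), Int.ofNat (nat_lit 0), Int.ofNat (nat_lit 4), Int.ofNat (nat_lit 0), Int.ofNat (nat_lit 0), Int.ofNat (nat_lit 0), Int.ofNat (nat_lit 0), Int.ofNat (nat_lit 0), Int.ofNat (nat_lit 0), Int.ofNat (nat_lit 0), Int.ofNat (nat_lit 0), Int.ofNat (nat_lit 0), Int.ofNat (nat_lit 0), Int.ofNat (nat_lit 0), Int.negSucc (nat_lit 3), Int.ofNat (nat_lit 0), Int.ofNat (nat_lit 0), Int.ofNat (nat_lit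 0), Int.ofNat (nat_lit 0), Int.ofNat (nat_lit 4), Int.ofNat (nat_lit 0), Int.ofNat (nat_lit 4), Int.ofNat (nat_lit 0), Int.ofNat (nat_lit 0), Int.ofNat (nat_lit 16), Int.ofNat (nat_lit 0), Int.ofNat (nat_lit 0)],
  [Int.ofNat (nat_lit 0), Int.ofNat (nat_lit 0), Int.ofNat (nat_lit 0), Int.ofNat (nat_lit 0), Int.negSucc (nat_lit 3), Int.ofNat (nat_lit 0), Int.ofNat (nat_lit 0), Int.ofNat (nat_lit 0), Int.ofNat (nat_lit 4), Int.ofNat (nat_lit 0), Int.ofNat (nat_lit 0), Int.ofNat (nat_lit 4), Int.ofNat (nat_lit 0), Int.ofNat (nat_lit 0), Int.ofNat (nat_lit 0), Int.ofNat (nat_lit 0), Int.ofNat (nat_lit 0), Int.ofNat (nat_lit 0), Int.ofNat (nat_lit 0), Int.ofNat (nat_lit 0), Int.ofNat (nat_lit 0), Int.ofNat (nat_lit 0), Int.ofNat (nat_lit 0), Int.ofNat (nat_lit 0), Int.ofNat (nat_lit 0), Int.ofNat (nat_lit 0), Int.ofNat (nat_lit 4), Int.ofNat (nat_lit 0), Int.ofNat (nat_lit 0), Int.ofNat (nat_lit 0), Int.negSucc (nat_lit 3), Int.ofNat (nat_lit 0), Int.ofNat (nat_lit 0), Int.ofNat (nat_lit 0), Int.ofNat (nat_lit 0), Int.negSucc (nat_lit 3), Int.ofNat (nat_lit 0), Int.ofNat (nat_lit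 0), Int.ofNat (nat_lit 0), Int.ofNat (nat_lit 0), Int.ofNat (nat_lit 0), Int.ofNat (nat_lit 0), Int.ofNat (nat_lit 0), Int.negSucc (nat_lit 3), Int.ofNat (nat_lit 0), Int.ofNat (nat_lit 0), Int.ofNat (nat_lit 0), Int.ofNat (nat_lit 4), Int.ofNat (nat_lit 0), Int.ofNat (nat_lit 0), Int.ofNat (nat_lit 0), Int.negSucc (nat_lit 3), Int.ofNat (nat_lit 0), Int.ofNat (nat_lit 0), Int.ofNat (nat_lit 16), Int.ofNat (nat_lit 0)],
  [Int.ofNat (nat_lit 0), Int.ofNat (nat_lit 0), Int.ofNat (nat_lit 0), Int.ofNat (nat_lit 0), Int.ofNat (nat_lit 0), Int.negSucc (nat_lit 3), Int.ofNat (nat_lit 0), Int.ofNat (nat_lit 0), Int.ofNat (nat_lit 0), Int.ofNat (nat_lit 4), Int.negSucc (nat_lit 3), Int.ofNat (nat_lit 0), Int.ofNat (nat_lit 0), Int.ofNat (nat_lit 0), Int.ofNat (nat_lit 0), Int.ofNat (nat_lit 0), Int.ofNat (nat_lit 0), Int.ofNat (nat_lit 0), Int.ofNat (nat_lit 0), Int.ofNat (nat_lit 0), Int.ofNat (nat_lit 0), Int.ofNat (nat_lit 0), Int.ofNat (nat_lit 0), Int.ofNat (nat_lit 0), Int.ofNat (nat_lit 0), Int.ofNat (nat_lit 0), Int.ofNat (nat_lit 0), Int.ofNat (nat_lit 4), Int.ofNat (nat_lit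 0), Int.ofNat (nat_lit 0), Int.ofNat (nat_lit 0), Int.negSucc (nat_lit 3), Int.ofNat (nat_lit 0), Int.ofNat (nat_lit 0), Int.ofNat (nat_lit 4), Int.ofNat (nat_lit 0), Int.ofNat (nat_lit 0), Int.ofNat (nat_lit 0), Int.ofNat (nat_lit 0), Int.ofNat (nat_lit 0), Int.ofNat (nat_lit 0), Int.ofNat (nat_lit 0), Int.ofNat (nat_lit 4), Int.ofNat (nat_lit 0), Int.ofNat (nat_lit 0), Int.ofNat (nat_lit 0), Int.negSucc (nat_lit 3), Int.ofNat (nat_lit 0), Int.ofNat (nat_lit 0), Int.ofNat (nat_lit 0), Int.ofNat (nat_lit 4), Int.ofNat (nat_lit 0), Int.ofNat (nat_lit 0), Int.ofNat (nat_lit 0), Int.ofNat (nat_lit 0), Int.ofNat (nat_lit 16)]]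

def DL : List (List ℤ) := [[Int.ofNat (nat_lit 30926), Int.ofNat (nat_lit 0), Int.negSucc (nat_lit 11591), Int.ofNat (nat_lit 23054), Int.ofNat (nat_lit 29079), Int.ofNat (nat_lit 21153), Int.ofNat (nat_lit 8110), Int.ofNat (nat_lit 53470), Int.ofNat (nat_lit 11944), Int.negSucc (nat_lit 24184), Int.ofNat (nat_lit 36062), Int.ofNat (nat_lit 41549), Int.ofNat (nat_lit 2154), Int.negSucc (nat_lit 1712), Int.ofNat (nat_lit 8670), Int.ofNat (nat_lit 17525), Int.negSucc (nat_lit 26624), Int.negSucc (nat_lit 39868), Int.negSucc (nat_lit 11477), Int.ofNat (nat_lit 8739), Int.ofNat (nat_lit 2630), Int.ofNat (nat_lit 43276), Int.ofNat (nat_lit 27536), Int.ofNat (nat_lit 33796), Int.negSucc (nat_lit 6055), Int.ofNat (nat_lit 27795), Int.ofNat (nat_lit 51071), Int.ofNat (nat_lit 36305), Int.negSucc (nat_lit 22733), Int.negSucc (nat_lit 25500), Int.negSucc (nat_lit 27378), Int.ofNat (nat_lit 60492), Int.negSucc (nat_lit 31809), Int.negSucc (nat_lit 11576), Int.negSucc (nat_lit 49228), Int.ofNat (nat_lit 25740), Int.negSucc (nat_lit 42729), Int.ofNat (nat_lit 1277), Int.negSucc (nat_lit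 20404), Int.ofNat (nat_lit 35548), Int.ofNat (nat_lit 35611), Int.negSucc (nat_lit 47164), Int.negSucc (nat_lit 34271), Int.ofNat (nat_lit 33058), Int.ofNat (nat_lit 30734), Int.negSucc (nat_lit 5714), Int.ofNat (nat_lit 29205), Int.ofNat (nat_lit 80036), Int.ofNat (nat_lit 5914), Int.negSucc (nat_lit 1651), Int.negSucc (nat_lit 35426), Int.ofNat (nat_lit 24618), Int.negSucc (nat_lit 28182), Int.negSucc (nat_lit 24481), Int.negSucc (nat_lit 24870), Int.ofNat (nat_lit 63430)],
  [Int.ofNat (nat_lit 0), Int.ofNat (nat_lit 30926), Int.negSucc (nat_lit 23053), Int.negSucc (nat_lit 11591), Int.negSucc (nat_lit 21152), Int.ofNat (nat_lit 29079), Int.negSucc (nat_lit 53469), Int.ofNat (nat_lit 8110), Int.ofNat (nat_lit 24185), Int.ofNat (nat_lit 11944), Int.negSucc (nat_lit 41548), Int.ofNat (nat_lit 36062), Int.ofNat (nat_lit 1713), Int.ofNat (nat_lit 2154), Int.negSucc (nat_lit 17524), Int.ofNat (nat_lit 8670), Int.ofNat (nat_lit 39869), Int.negSucc (nat_lit 26624), Int.negSucc (nat_lit 8738), Int.negSucc (nat_lit 11477), Int.negSucc (nat_lit 43275), Int.ofNat (nat_lit 2630), Int.negSucc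 (nat_lit 33795), Int.ofNat (nat_lit 27536), Int.negSucc (nat_lit 27794), Int.negSucc (nat_lit 6055), Int.negSucc (nat_lit 36304), Int.ofNat (nat_lit 51071), Int.ofNat (nat_lit 25501), Int.negSucc (nat_lit 22733), Int.negSucc (nat_lit 60491), Int.negSucc (nat_lit 27378), Int.ofNat (nat_lit 11577), Int.negSucc (nat_lit 31809), Int.negSucc (nat_lit 25739), Int.negSucc (nat_lit 49228), Int.negSucc (nat_lit 1276), Int.negSucc (nat_lit 42729), Int.negSucc (nat_lit 35547), Int.negSucc (nat_lit 20404), Int.ofNat (nat_lit 47165), Int.ofNat (nat_lit 35611), Int.negSucc (nat_lit 33057), Int.negSucc (nat_lit 34271), Int.ofNat (nat_lit 5715), Int.ofNat (nat_lit 30734), Int.negSucc (nat_lit 80035), Int.ofNat (nat_lit 29205), Int.ofNat (nat_lit 1652), Int.ofNat (nat_lit 5914), Int.negSucc (nat_lit 24617), Int.negSucc (nat_lit 35426), Int.ofNat (nat_lit 24482), Int.negSucc (nat_lit 28182), Int.negSucc (nat_lit 63429), Int.negSucc (nat_lit 24870)],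
  [Int.negSucc (nat_lit 11591), Int.negSucc (nat_lit 23053), Int.ofNat (nat_lit 21536), Int.ofNat (nat_lit 0), Int.ofNat (nat_lit 4872), Int.negSucc (nat_lit 29606), Int.ofNat (nat_lit 36825), Int.negSucc (nat_lit 26090), Int.negSucc (nat_lit 22507), Int.ofNat (nat_lit 161), Int.ofNat (nat_lit 17457), Int.negSucc (nat_lit 42465), Int.negSucc (nat_lit 2083), Int.negSucc (nat_lit 966), Int.ofNat (nat_lit 9818), Int.negSucc (nat_lit 13034), Int.negSucc (nat_lit 19741), Int.ofNat (nat_lit 34799), Int.ofNat (nat_lit 10818), Int.ofNat (nat_lit 5279), Int.ofNat (nat_lit 31275), Int.negSucc (nat_lit 18184), Int.ofNat (nat_lit 14875), Int.negSucc (nat_lit 33202), Int.ofNat (nat_lit 22996), Int.negSucc (nat_lit 5906), Int.ofNat (nat_lit 7925), Int.negSucc (nat_lit 51686), Int.negSucc (nat_lit 10487), Int.ofNat (nat_lit 26512), Int.ofNat (nat_lit 55368), Int.negSucc (nat_lit 2264), Int.ofNat (nat_lit 3297), Int.ofNat (nat_lit 28058), Int.ofNat (nat_lit 37648), Int.ofNat (nat_lit 27055), Int.ofNat (nat_lit 16973), Int.ofNat (nat_lit 31377), Int.ofNat (nat_lit 34151), Int.ofNat (nat_lit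 1888), Int.negSucc (nat_lit 48515), Int.negSucc (nat_lit 8870), Int.ofNat (nat_lit 37491), Int.ofNat (nat_lit 13159), Int.negSucc (nat_lit 15781), Int.negSucc (nat_lit 20768), Int.ofNat (nat_lit 48724), Int.negSucc (nat_lit 51779), Int.negSucc (nat_lit 3448), Int.negSucc (nat_lit 3790), Int.ofNat (nat_lit 31636), Int.ofNat (nat_lit 17189), Int.negSucc (nat_lit 7688), Int.ofNat (nat_lit 30188), Int.ofNat (nat_lit 56618), Int.negSucc (nat_lit 5234)],
  [Int.ofNat (nat_lit 23054), Int.negSucc (nat_lit 11591), Int.ofNat (nat_lit 0), Int.ofNat (nat_lit 21536), Int.ofNat (nat_lit 29607), Int.ofNat (nat_lit 4872), Int.ofNat (nat_lit 26091), Int.ofNat (nat_lit 36825), Int.negSucc (nat_lit 160), Int.negSucc (nat_lit 22507), Int.ofNat (nat_lit 42466), Int.ofNat (nat_lit 17457), Int.ofNat (nat_lit 967), Int.negSucc (nat_lit 2083), Int.ofNat (nat_lit 13035), Int.ofNat (nat_lit 9818), Int.negSucc (nat_lit 34798), Int.negSucc (nat_lit 19741), Int.negSucc (nat_lit 5278), Int.ofNat (nat_lit 10818), Int.ofNat (nat_lit 18185), Int.ofNat (nat_lit 31275), Int.ofNat (nat_lit 33203), Int.ofNat (nat_lit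 14875), Int.ofNat (nat_lit 5907), Int.ofNat (nat_lit 22996), Int.ofNat (nat_lit 51687), Int.ofNat (nat_lit 7925), Int.negSucc (nat_lit 26511), Int.negSucc (nat_lit 10487), Int.ofNat (nat_lit 2265), Int.ofNat (nat_lit 55368), Int.negSucc (nat_lit 28057), Int.ofNat (nat_lit 3297), Int.negSucc (nat_lit 27054), Int.ofNat (nat_lit 37648), Int.negSucc (nat_lit 31376), Int.ofNat (nat_lit 16973), Int.negSucc (nat_lit 1887), Int.ofNat (nat_lit 34151), Int.ofNat (nat_lit 8871), Int.negSucc (nat_lit 48515), Int.negSucc (nat_lit 13158), Int.ofNat (nat_lit 37491), Int.ofNat (nat_lit 20769), Int.negSucc (nat_lit 15781), Int.ofNat (nat_lit 51780), Int.ofNat (nat_lit 48724), Int.ofNat (nat_lit 3791), Int.negSucc (nat_lit 3448), Int.negSucc (nat_lit 17188), Int.ofNat (nat_lit 31636), Int.negSucc (nat_lit 30187), Int.negSucc (nat_lit 7688), Int.ofNat (nat_lit 5235), Int.ofNat (nat_lit 56618)],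
  [Int.ofNat (nat_lit 29079), Int.negSucc (nat_lit 21152), Int.ofNat (nat_lit 4872), Int.ofNat (nat_lit 29607), Int.ofNat (nat_lit 41820), Int.ofNat (nat_lit 0), Int.ofNat (nat_lit 44204), Int.ofNat (nat_lit 44726), Int.negSucc (nat_lit 5314), Int.negSucc (nat_lit 30908), Int.ofNat (nat_lit 62326), Int.ofNat (nat_lit 14395), Int.ofNat (nat_lit 855), Int.negSucc (nat_lit 3084), Int.ofNat (nat_lit 20140), Int.ofNat (nat_lit 10547), Int.negSucc (nat_lit 52300), Int.negSucc (nat_lit 19276), Int.negSucc (nat_lit 4815), Int.ofNat (nat_lit 16068), Int.ofNat (nat_lit 32075), Int.ofNat (nat_lit 38894), Int.ofNat (nat_lit 49012), Int.ofNat (nat_lit 12935), Int.ofNat (nat_lit 13319), Int.ofNat (nat_lit 30275), Int.ofNat (nat_lit 72860), Int.negSucc (nat_lit 796), Int.negSucc (nat_lit 38814), Int.negSucc (nat_lit 8424), Int.ofNat (nat_lit 15638), Int.ofNat (nat_lit 75604), Int.negSucc (nat_lit 37825), Int.ofNat (nat_lit 10873), Int.negSucc (nat_lit 28678), Int.ofNat (nat_lit 57880), Int.negSucc (nat_lit 39298), Int.ofNat (nat_lit 30430), Int.ofNat (nat_lit 5130), Int.ofNat (nat_lit 47382),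 Int.ofNat (nat_lit 1216), Int.negSucc (nat_lit 68704), Int.negSucc (nat_lit 9610), Int.ofNat (nat_lit 54531), Int.ofNat (nat_lit 24989), Int.negSucc (nat_lit 26395), Int.ofNat (nat_lit 82207), Int.ofNat (nat_lit 55277), Int.ofNat (nat_lit 4426), Int.negSucc (nat_lit 5599), Int.negSucc (nat_lit 16470), Int.ofNat (nat_lit 47388), Int.negSucc (nat_lit 43244), Int.negSucc (nat_lit 3736), Int.ofNat (nat_lit 20010), Int.ofNat (nat_lit 76651)],
  [Int.ofNat (nat_lit 21153), Int.ofNat (nat_lit 29079), Int.negSucc (nat_lit 29606), Int.ofNat (nat_lit 4872), Int.ofNat (nat_lit 0), Int.ofNat (nat_lit 41820), Int.negSucc (nat_lit 44725), Int.ofNat (nat_lit 44204), Int.ofNat (nat_lit 30909), Int.negSucc (nat_lit 5314), Int.negSucc (nat_lit 14394), Int.ofNat (nat_lit 62326), Int.ofNat (nat_lit 3085), Int.ofNat (nat_lit 855), Int.negSucc (nat_lit 10546), Int.ofNat (nat_lit 20140), Int.ofNat (nat_lit 19277), Int.negSucc (nat_lit 52300), Int.negSucc (nat_lit 16067), Int.negSucc (nat_lit 4815), Int.negSucc (nat_lit 38893), Int.ofNat (nat_lit 32075), Int.negSucc (nat_lit 12934), Int.ofNat (nat_lit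 49012), Int.negSucc (nat_lit 30274), Int.ofNat (nat_lit 13319), Int.ofNat (nat_lit 797), Int.ofNat (nat_lit 72860), Int.ofNat (nat_lit 8425), Int.negSucc (nat_lit 38814), Int.negSucc (nat_lit 75603), Int.ofNat (nat_lit 15638), Int.negSucc (nat_lit 10872), Int.negSucc (nat_lit 37825), Int.negSucc (nat_lit 57879), Int.negSucc (nat_lit 28678), Int.negSucc (nat_lit 30429), Int.negSucc (nat_lit 39298), Int.negSucc (nat_lit 47381), Int.ofNat (nat_lit 5130), Int.ofNat (nat_lit 68705), Int.ofNat (nat_lit 1216), Int.negSucc (nat_lit 54530), Int.negSucc (nat_lit 9610), Int.ofNat (nat_lit 26396), Int.ofNat (nat_lit 24989), Int.negSucc (nat_lit 55276), Int.ofNat (nat_lit 82207), Int.ofNat (nat_lit 5600), Int.ofNat (nat_lit 4426), Int.negSucc (nat_lit 47387), Int.negSucc (nat_lit 16470), Int.ofNat (nat_lit 3737), Int.negSucc (nat_lit 43244), Int.negSucc (nat_lit 76650), Int.ofNat (nat_lit 20010)],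
  [Int.ofNat (nat_lit 8110), Int.negSucc (nat_lit 53469), Int.ofNat (nat_lit 36825), Int.ofNat (nat_lit 26091), Int.ofNat (nat_lit 44204), Int.negSucc (nat_lit 44725), Int.ofNat (nat_lit 94590), Int.ofNat (nat_lit 0), Int.negSucc (nat_lit 38688), Int.negSucc (nat_lit 26996), Int.ofNat (nat_lit 81301), Int.negSucc (nat_lit 51468), Int.negSucc (nat_lit 2394), Int.negSucc (nat_lit 4174), Int.ofNat (nat_lit 32578), Int.negSucc (nat_lit 10396), Int.negSucc (nat_lit 75914), Int.ofNat (nat_lit 35590), Int.ofNat (nat_lit 12100), Int.ofNat (nat_lit 22135), Int.ofNat (nat_lit 75516), Int.ofNat (nat_lit 6801), Int.ofNat (nat_lit 65667), Int.negSucc (nat_lit 38754), Int.ofNat (nat_lit 46480), Int.ofNat (nat_lit 17756), Int.ofNat (nat_lit 76174), Int.negSucc (nat_lit 78782), Int.negSucc (nat_lit 50051), Int.ofNat (nat_lit 32630), Int.ofNat (nat_lit 97428), Int.ofNat (nat_lit 63204), Int.negSucc (nat_lit 28353), Int.ofNat (nat_lit 51972), Int.ofNat (nat_lit 31600), Int.ofNat (nat_lit 91879), Int.negSucc (nat_lit 8992), Int.ofNat (nat_lit 74225), Int.ofNat (nat_lit 56116), Int.ofNat (nat_lit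 44605), Int.negSucc (nat_lit 72223), Int.negSucc (nat_lit 73948), Int.ofNat (nat_lit 48169), Int.ofNat (nat_lit 67933), Int.negSucc (nat_lit 1823), Int.negSucc (nat_lit 54639), Int.ofNat (nat_lit 146054), Int.negSucc (nat_lit 29514), Int.negSucc (nat_lit 1306), Int.negSucc (nat_lit 10664), Int.ofNat (nat_lit 33276), Int.ofNat (nat_lit 67721), Int.negSucc (nat_lit 49726), Int.ofNat (nat_lit 42312), Int.ofNat (nat_lit 103166), Int.ofNat (nat_lit 59642)],
  [Int.ofNat (nat_lit 53470), Int.ofNat (nat_lit 8110), Int.negSucc (nat_lit 26090), Int.ofNat (nat_lit 36825), Int.ofNat (nat_lit 44726), Int.ofNat (nat_lit 44204), Int.ofNat (nat_lit 0), Int.ofNat (nat_lit 94590), Int.ofNat (nat_lit 26997), Int.negSucc (nat_lit 38688), Int.ofNat (nat_lit 51469), Int.ofNat (nat_lit 81301), Int.ofNat (nat_lit 4175), Int.negSucc (nat_lit 2394), Int.ofNat (nat_lit 10397), Int.ofNat (nat_lit 32578), Int.negSucc (nat_lit 35589), Int.negSucc (nat_lit 75914), Int.negSucc (nat_lit 22134), Int.ofNat (nat_lit 12100), Int.negSucc (nat_lit 6800), Int.ofNat (nat_lit 75516), Int.ofNat (nat_lit 38755), Int.ofNat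 (nat_lit 65667), Int.negSucc (nat_lit 17755), Int.ofNat (nat_lit 46480), Int.ofNat (nat_lit 78783), Int.ofNat (nat_lit 76174), Int.negSucc (nat_lit 32629), Int.negSucc (nat_lit 50051), Int.negSucc (nat_lit 63203), Int.ofNat (nat_lit 97428), Int.negSucc (nat_lit 51971), Int.negSucc (nat_lit 28353), Int.negSucc (nat_lit 91878), Int.ofNat (nat_lit 31600), Int.negSucc (nat_lit 74224), Int.negSucc (nat_lit 8992), Int.negSucc (nat_lit 44604), Int.ofNat (nat_lit 56116), Int.ofNat (nat_lit 73949), Int.negSucc (nat_lit 72223), Int.negSucc (nat_lit 67932), Int.ofNat (nat_lit 48169), Int.ofNat (nat_lit 54640), Int.negSucc (nat_lit 1823), Int.ofNat (nat_lit 29515), Int.ofNat (nat_lit 146054), Int.ofNat (nat_lit 10665), Int.negSucc (nat_lit 1306), Int.negSucc (nat_lit 67720), Int.ofNat (nat_lit 33276), Int.negSucc (nat_lit 42311), Int.negSucc (nat_lit 49726), Int.negSucc (nat_lit 59641), Int.ofNat (nat_lit 103166)],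
  [Int.ofNat (nat_lit 11944), Int.ofNat (nat_lit 24185), Int.negSucc (nat_lit 22507), Int.negSucc (nat_lit 160), Int.negSucc (nat_lit 5314), Int.ofNat (nat_lit 30909), Int.negSucc (nat_lit 38688), Int.ofNat (nat_lit 26997), Int.ofNat (nat_lit 23532), Int.ofNat (nat_lit 0), Int.negSucc (nat_lit 18561), Int.ofNat (nat_lit 44256), Int.ofNat (nat_lit 2172), Int.ofNat (nat_lit 1022), Int.negSucc (nat_lit 10355), Int.ofNat (nat_lit 13552), Int.ofNat (nat_lit 20890), Int.negSucc (nat_lit 36224), Int.negSucc (nat_lit 11265), Int.negSucc (nat_lit 5599), Int.negSucc (nat_lit 32827), Int.ofNat (nat_lit 18770), Int.negSucc (nat_lit 15797), Int.ofNat (nat_lit 34593), Int.negSucc (nat_lit 24077), Int.ofNat (nat_lit 6005), Int.negSucc (nat_lit 8668), Int.ofNat (nat_lit 53963), Int.ofNat (nat_lit 11157), Int.negSucc (nat_lit 27631), Int.negSucc (nat_lit 57888), Int.ofNat (nat_lit 1958), Int.negSucc (nat_lit 3237), Int.negSucc (nat_lit 29348), Int.negSucc (nat_lit 39147), Int.negSucc (nat_lit 28559), Int.negSucc (nat_lit 17505), Int.negSucc (nat_lit 32926), Int.negSucc (nat_lit 35683), Int.negSucc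 (nat_lit 2226), Int.ofNat (nat_lit 50648), Int.ofNat (nat_lit 9631), Int.negSucc (nat_lit 39090), Int.negSucc (nat_lit 14038), Int.ofNat (nat_lit 16341), Int.ofNat (nat_lit 21829), Int.negSucc (nat_lit 51311), Int.ofNat (nat_lit 53758), Int.ofNat (nat_lit 3579), Int.ofNat (nat_lit 3990), Int.negSucc (nat_lit 32938), Int.negSucc (nat_lit 18199), Int.ofNat (nat_lit 8263), Int.negSucc (nat_lit 31500), Int.negSucc (nat_lit 59219), Int.ofNat (nat_lit 5052)],
  [Int.negSucc (nat_lit 24184), Int.ofNat (nat_lit 11944), Int.ofNat (nat_lit 161), Int.negSucc (nat_lit 22507), Int.negSucc (nat_lit 30908), Int.negSucc (nat_lit 5314), Int.negSucc (nat_lit 26996), Int.negSucc (nat_lit 38688), Int.ofNat (nat_lit 0), Int.ofNat (nat_lit 23532), Int.negSucc (nat_lit 44255), Int.negSucc (nat_lit 18561), Int.negSucc (nat_lit 1021), Int.ofNat (nat_lit 2172), Int.negSucc (nat_lit 13551), Int.negSucc (nat_lit 10355), Int.ofNat (nat_lit 36225), Int.ofNat (nat_lit 20890), Int.ofNat (nat_lit 5600), Int.negSucc (nat_lit 11265), Int.negSucc (nat_lit 18769), Int.negSucc (nat_lit 32827), Int.negSucc (nat_lit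 34592), Int.negSucc (nat_lit 15797), Int.negSucc (nat_lit 6004), Int.negSucc (nat_lit 24077), Int.negSucc (nat_lit 53962), Int.negSucc (nat_lit 8668), Int.ofNat (nat_lit 27632), Int.ofNat (nat_lit 11157), Int.negSucc (nat_lit 1957), Int.negSucc (nat_lit 57888), Int.ofNat (nat_lit 29349), Int.negSucc (nat_lit 3237), Int.ofNat (nat_lit 28560), Int.negSucc (nat_lit 39147), Int.ofNat (nat_lit 32927), Int.negSucc (nat_lit 17505), Int.ofNat (nat_lit 2227), Int.negSucc (nat_lit 35683), Int.negSucc (nat_lit 9630), Int.ofNat (nat_lit 50648), Int.ofNat (nat_lit 14039), Int.negSucc (nat_lit 39090), Int.negSucc (nat_lit 21828), Int.ofNat (nat_lit 16341), Int.negSucc (nat_lit 53757), Int.negSucc (nat_lit 51311), Int.negSucc (nat_lit 3989), Int.ofNat (nat_lit 3579), Int.ofNat (nat_lit 18200), Int.negSucc (nat_lit 32938), Int.ofNat (nat_lit 31501), Int.ofNat (nat_lit 8263), Int.negSucc (nat_lit 5051), Int.negSucc (nat_lit 59219)],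
  [Int.ofNat (nat_lit 36062), Int.negSucc (nat_lit 41548), Int.ofNat (nat_lit 17457), Int.ofNat (nat_lit 42466), Int.ofNat (nat_lit 62326), Int.negSucc (nat_lit 14394), Int.ofNat (nat_lit 81301), Int.ofNat (nat_lit 51469), Int.negSucc (nat_lit 18561), Int.negSucc (nat_lit 44255), Int.ofNat (nat_lit 97898), Int.ofNat (nat_lit 0), Int.ofNat (nat_lit 216), Int.negSucc (nat_lit 4891), Int.ofNat (nat_lit 33663), Int.ofNat (nat_lit 8794), Int.negSucc (nat_lit 84629), Int.negSucc (nat_lit 10715), Int.negSucc (nat_lit 1637), Int.ofNat (nat_lit 25612), Int.ofNat (nat_lit 61213), Int.ofNat (nat_lit 46929), Int.ofNat (nat_lit 77533), Int.ofNat (nat_lit 2423), Int.ofNat (nat_lit 30292), Int.ofNat (nat_lit 40563), Int.ofNat (nat_lit 108342), Int.negSucc (nat_lit 26271), Int.negSucc (nat_lit 60787), Int.ofNat (nat_lit 812), Int.ofNat (nat_lit 49350), Int.ofNat (nat_lit 107351), Int.negSucc (nat_lit 52658), Int.ofNat (nat_lit 29249), Int.negSucc (nat_lit 22833), Int.ofNat (nat_lit 96171), Int.negSucc (nat_lit 48118), Int.ofNat (nat_lit 58908), Int.ofNat (nat_lit 23964), Int.ofNat (nat_lit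 68874), Int.negSucc (nat_lit 21834), Int.negSucc (nat_lit 102866), Int.ofNat (nat_lit 4443), Int.ofNat (nat_lit 84595), Int.ofNat (nat_lit 28161), Int.negSucc (nat_lit 47958), Int.ofNat (nat_lit 141607), Int.ofNat (nat_lit 54105), Int.ofNat (nat_lit 4684), Int.negSucc (nat_lit 9875), Int.negSucc (nat_lit 8251), Int.ofNat (nat_lit 76315), Int.negSucc (nat_lit 65762), Int.ofNat (nat_lit 9308), Int.ofNat (nat_lit 56218), Int.ofNat (nat_lit 107408)],
  [Int.ofNat (nat_lit 41549), Int.ofNat (nat_lit 36062), Int.negSucc (nat_lit 42465), Int.ofNat (nat_lit 17457), Int.ofNat (nat_lit 14395), Int.ofNat (nat_lit 62326), Int.negSucc (nat_lit 51468), Int.ofNat (nat_lit 81301), Int.ofNat (nat_lit 44256), Int.negSucc (nat_lit 18561), Int.ofNat (nat_lit 0), Int.ofNat (nat_lit 97898), Int.ofNat (nat_lit 4892), Int.ofNat (nat_lit 216), Int.negSucc (nat_lit 8793), Int.ofNat (nat_lit 33663), Int.ofNat (nat_lit 10716), Int.negSucc (nat_lit 84629), Int.negSucc (nat_lit 25611), Int.negSucc (nat_lit 1637), Int.negSucc (nat_lit 46928), Int.ofNat (nat_lit 61213), Int.negSucc (nat_lit 2422), Int.ofNat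 (nat_lit 77533), Int.negSucc (nat_lit 40562), Int.ofNat (nat_lit 30292), Int.ofNat (nat_lit 26272), Int.ofNat (nat_lit 108342), Int.negSucc (nat_lit 811), Int.negSucc (nat_lit 60787), Int.negSucc (nat_lit 107350), Int.ofNat (nat_lit 49350), Int.negSucc (nat_lit 29248), Int.negSucc (nat_lit 52658), Int.negSucc (nat_lit 96170), Int.negSucc (nat_lit 22833), Int.negSucc (nat_lit 58907), Int.negSucc (nat_lit 48118), Int.negSucc (nat_lit 68873), Int.ofNat (nat_lit 23964), Int.ofNat (nat_lit 102867), Int.negSucc (nat_lit 21834), Int.negSucc (nat_lit 84594), Int.ofNat (nat_lit 4443), Int.ofNat (nat_lit 47959), Int.ofNat (nat_lit 28161), Int.negSucc (nat_lit 54104), Int.ofNat (nat_lit 141607), Int.ofNat (nat_lit 9876), Int.ofNat (nat_lit 4684), Int.negSucc (nat_lit 76314), Int.negSucc (nat_lit 8251), Int.negSucc (nat_lit 9307), Int.negSucc (nat_lit 65762), Int.negSucc (nat_lit 107407), Int.ofNat (nat_lit 56218)],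
  [Int.ofNat (nat_lit 2154), Int.ofNat (nat_lit 1713), Int.negSucc (nat_lit 2083), Int.ofNat (nat_lit 967), Int.ofNat (nat_lit 855), Int.ofNat (nat_lit 3085), Int.negSucc (nat_lit 2394), Int.ofNat (nat_lit 4175), Int.ofNat (nat_lit 2172), Int.negSucc (nat_lit 1021), Int.ofNat (nat_lit 216), Int.ofNat (nat_lit 4892), Int.ofNat (nat_lit 250), Int.ofNat (nat_lit 0), Int.negSucc (nat_lit 364), Int.ofNat (nat_lit 1705), Int.ofNat (nat_lit 350), Int.negSucc (nat_lit 4254), Int.negSucc (nat_lit 1281), Int.negSucc (nat_lit 25), Int.negSucc (nat_lit 2209), Int.ofNat (nat_lit 3159), Int.ofNat (nat_lit 51), Int.ofNat (nat_lit 3879), Int.negSucc (nat_lit 1959), Int.ofNat (nat_lit 1605), Int.ofNat (nat_lit 1553), Int.ofNat (nat_lit 5360), Int.negSucc (nat_lit 174), Int.negSucc (nat_lit 3036), Int.negSucc (nat_lit 5258), Int.ofNat (nat_lit 2704), Int.negSucc (nat_lit 1578), Int.negSucc (nat_lit 2566), Int.negSucc (nat_lit 4856), Int.negSucc (nat_lit 928), Int.negSucc (nat_lit 3045), Int.negSucc (nat_lit 2274), Int.negSucc (nat_lit 3391), Int.ofNat (nat_lit 1346), Int.ofNat (nat_lit 5096),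 Int.negSucc (nat_lit 1315), Int.negSucc (nat_lit 4216), Int.ofNat (nat_lit 404), Int.ofNat (nat_lit 2456), Int.ofNat (nat_lit 1304), Int.negSucc (nat_lit 2392), Int.ofNat (nat_lit 7198), Int.ofNat (nat_lit 503), Int.ofNat (nat_lit 213), Int.negSucc (nat_lit 3835), Int.negSucc (nat_lit 243), Int.negSucc (nat_lit 605), Int.negSucc (nat_lit 3267), Int.negSucc (nat_lit 5246), Int.ofNat (nat_lit 3046)],
  [Int.negSucc (nat_lit 1712), Int.ofNat (nat_lit 2154), Int.negSucc (nat_lit 966), Int.negSucc (nat_lit 2083), Int.negSucc (nat_lit 3084), Int.ofNat (nat_lit 855), Int.negSucc (nat_lit 4174), Int.negSucc (nat_lit 2394), Int.ofNat (nat_lit 1022), Int.ofNat (nat_lit 2172), Int.negSucc (nat_lit 4891), Int.ofNat (nat_lit 216), Int.ofNat (nat_lit 0), Int.ofNat (nat_lit 250), Int.negSucc (nat_lit 1704), Int.negSucc (nat_lit 364), Int.ofNat (nat_lit 4255), Int.ofNat (nat_lit 350), Int.ofNat (nat_lit 26), Int.negSucc (nat_lit 1281), Int.negSucc (nat_lit 3158), Int.negSucc (nat_lit 2209), Int.negSucc (nat_lit 3878), Int.ofNat (nat_lit 51), Int.negSucc (nat_lit 1604), Int.negSucc (nat_lit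 1959), Int.negSucc (nat_lit 5359), Int.ofNat (nat_lit 1553), Int.ofNat (nat_lit 3037), Int.negSucc (nat_lit 174), Int.negSucc (nat_lit 2703), Int.negSucc (nat_lit 5258), Int.ofNat (nat_lit 2567), Int.negSucc (nat_lit 1578), Int.ofNat (nat_lit 929), Int.negSucc (nat_lit 4856), Int.ofNat (nat_lit 2275), Int.negSucc (nat_lit 3045), Int.negSucc (nat_lit 1345), Int.negSucc (nat_lit 3391), Int.ofNat (nat_lit 1316), Int.ofNat (nat_lit 5096), Int.negSucc (nat_lit 403), Int.negSucc (nat_lit 4216), Int.negSucc (nat_lit 1303), Int.ofNat (nat_lit 2456), Int.negSucc (nat_lit 7197), Int.negSucc (nat_lit 2392), Int.negSucc (nat_lit 212), Int.ofNat (nat_lit 503), Int.ofNat (nat_lit 244), Int.negSucc (nat_lit 3835), Int.ofNat (nat_lit 3268), Int.negSucc (nat_lit 605), Int.negSucc (nat_lit 3045), Int.negSucc (nat_lit 5246)],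
  [Int.ofNat (nat_lit 8670), Int.negSucc (nat_lit 17524), Int.ofNat (nat_lit 9818), Int.ofNat (nat_lit 13035), Int.ofNat (nat_lit 20140), Int.negSucc (nat_lit 10546), Int.ofNat (nat_lit 32578), Int.ofNat (nat_lit 10397), Int.negSucc (nat_lit 10355), Int.negSucc (nat_lit 13551), Int.ofNat (nat_lit 33663), Int.negSucc (nat_lit 8793), Int.negSucc (nat_lit 364), Int.negSucc (nat_lit 1704), Int.ofNat (nat_lit 12370), Int.ofNat (nat_lit 0), Int.negSucc (nat_lit 30066), Int.ofNat (nat_lit 3916), Int.ofNat (nat_lit 1737), Int.ofNat (nat_lit 8953), Int.ofNat (nat_lit 25262), Int.ofNat (nat_lit 10638), Int.ofNat (nat_lit 26878), Int.negSucc (nat_lit 6131), Int.ofNat (nat_lit 14062), Int.ofNat (nat_lit 11227), Int.ofNat (nat_lit 34899), Int.negSucc (nat_lit 18766), Int.negSucc (nat_lit 20830), Int.ofNat (nat_lit 5740), Int.ofNat (nat_lit 26614), Int.ofNat (nat_lit 32485), Int.negSucc (nat_lit 15479), Int.ofNat (nat_lit 14790), Int.ofNat (nat_lit 787), Int.ofNat (nat_lit 35122), Int.negSucc (nat_lit 11254), Int.ofNat (nat_lit 24575), Int.ofNat (nat_lit 14424), Int.ofNat (nat_lit 21533),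 Int.negSucc (nat_lit 16745), Int.negSucc (nat_lit 33412), Int.ofNat (nat_lit 9123), Int.ofNat (nat_lit 28689), Int.ofNat (nat_lit 5378), Int.negSucc (nat_lit 19018), Int.ofNat (nat_lit 53556), Int.ofNat (nat_lit 5887), Int.ofNat (nat_lit 724), Int.negSucc (nat_lit 3814), Int.ofNat (nat_lit 4018), Int.ofNat (nat_lit 26987), Int.negSucc (nat_lit 21778), Int.ofNat (nat_lit 9104), Int.ofNat (nat_lit 28979), Int.ofNat (nat_lit 31887)],
  [Int.ofNat (nat_lit 17525), Int.ofNat (nat_lit 8670), Int.negSucc (nat_lit 13034), Int.ofNat (nat_lit 9818), Int.ofNat (nat_lit 10547), Int.ofNat (nat_lit 20140), Int.negSucc (nat_lit 10396), Int.ofNat (nat_lit 32578), Int.ofNat (nat_lit 13552), Int.negSucc (nat_lit 10355), Int.ofNat (nat_lit 8794), Int.ofNat (nat_lit 33663), Int.ofNat (nat_lit 1705), Int.negSucc (nat_lit 364), Int.ofNat (nat_lit 0), Int.ofNat (nat_lit 12370), Int.negSucc (nat_lit 3915), Int.negSucc (nat_lit 30066), Int.negSucc (nat_lit 8952), Int.ofNat (nat_lit 1737), Int.negSucc (nat_lit 10637), Int.ofNat (nat_lit 25262), Int.ofNat (nat_lit 6132), Int.ofNat (nat_lit 26878), Int.negSucc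 (nat_lit 11226), Int.ofNat (nat_lit 14062), Int.ofNat (nat_lit 18767), Int.ofNat (nat_lit 34899), Int.negSucc (nat_lit 5739), Int.negSucc (nat_lit 20830), Int.negSucc (nat_lit 32484), Int.ofNat (nat_lit 26614), Int.negSucc (nat_lit 14789), Int.negSucc (nat_lit 15479), Int.negSucc (nat_lit 35121), Int.ofNat (nat_lit 787), Int.negSucc (nat_lit 24574), Int.negSucc (nat_lit 11254), Int.negSucc (nat_lit 21532), Int.ofNat (nat_lit 14424), Int.ofNat (nat_lit 33413), Int.negSucc (nat_lit 16745), Int.negSucc (nat_lit 28688), Int.ofNat (nat_lit 9123), Int.ofNat (nat_lit 19019), Int.ofNat (nat_lit 5378), Int.negSucc (nat_lit 5886), Int.ofNat (nat_lit 53556), Int.ofNat (nat_lit 3815), Int.ofNat (nat_lit 724), Int.negSucc (nat_lit 26986), Int.ofNat (nat_lit 4018), Int.negSucc (nat_lit 9103), Int.negSucc (nat_lit 21778), Int.negSucc (nat_lit 31886), Int.ofNat (nat_lit 28979)],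
  [Int.negSucc (nat_lit 26624), Int.ofNat (nat_lit 39869), Int.negSucc (nat_lit 19741), Int.negSucc (nat_lit 34798), Int.negSucc (nat_lit 52300), Int.ofNat (nat_lit 19277), Int.negSucc (nat_lit 75914), Int.negSucc (nat_lit 35589), Int.ofNat (nat_lit 20890), Int.ofNat (nat_lit 36225), Int.negSucc (nat_lit 84629), Int.ofNat (nat_lit 10716), Int.ofNat (nat_lit 350), Int.ofNat (nat_lit 4255), Int.negSucc (nat_lit 30066), Int.negSucc (nat_lit 3915), Int.ofNat (nat_lit 74344), Int.ofNat (nat_lit 0), Int.negSucc (nat_lit 1389), Int.negSucc (nat_lit 22321), Int.negSucc (nat_lit 58058), Int.negSucc (nat_lit 33862), Int.negSucc (nat_lit 67284), Int.ofNat (nat_lit 6395), Int.negSucc (nat_lit 30627), Int.negSucc (nat_lit 31750), Int.negSucc (nat_lit 90782), Int.ofNat (nat_lit 34583), Int.ofNat (nat_lit 52465), Int.negSucc (nat_lit 7354), Int.negSucc (nat_lit 54415), Int.negSucc (nat_lit 87401), Int.ofNat (nat_lit 42323), Int.negSucc (nat_lit 31052), Int.ofNat (nat_lit 9207), Int.negSucc (nat_lit 85636), Int.ofNat (nat_lit 35149), Int.negSucc (nat_lit 56188), Int.negSucc (nat_lit 28256),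 Int.negSucc (nat_lit 56917), Int.ofNat (nat_lit 30134), Int.ofNat (nat_lit 86534), Int.negSucc (nat_lit 13106), Int.negSucc (nat_lit 72639), Int.negSucc (nat_lit 19093), Int.ofNat (nat_lit 44544), Int.negSucc (nat_lit 128344), Int.negSucc (nat_lit 31267), Int.negSucc (nat_lit 2969), Int.ofNat (nat_lit 9044), Int.negSucc (nat_lit 1227), Int.negSucc (nat_lit 66874), Int.ofNat (nat_lit 55829), Int.negSucc (nat_lit 15243), Int.negSucc (nat_lit 60355), Int.negSucc (nat_lit 86694)],
  [Int.negSucc (nat_lit 39868), Int.negSucc (nat_lit 26624), Int.ofNat (nat_lit 34799), Int.negSucc (nat_lit 19741), Int.negSucc (nat_lit 19276), Int.negSucc (nat_lit 52300), Int.ofNat (nat_lit 35590), Int.negSucc (nat_lit 75914), Int.negSucc (nat_lit 36224), Int.ofNat (nat_lit 20890), Int.negSucc (nat_lit 10715), Int.negSucc (nat_lit 84629), Int.negSucc (nat_lit 4254), Int.ofNat (nat_lit 350), Int.ofNat (nat_lit 3916), Int.negSucc (nat_lit 30066), Int.ofNat (nat_lit 0), Int.ofNat (nat_lit 74344), Int.ofNat (nat_lit 22322), Int.negSucc (nat_lit 1389), Int.ofNat (nat_lit 33863), Int.negSucc (nat_lit 58058),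 Int.negSucc (nat_lit 6394), Int.negSucc (nat_lit 67284), Int.ofNat (nat_lit 31751), Int.negSucc (nat_lit 30627), Int.negSucc (nat_lit 34582), Int.negSucc (nat_lit 90782), Int.ofNat (nat_lit 7355), Int.ofNat (nat_lit 52465), Int.ofNat (nat_lit 87402), Int.negSucc (nat_lit 54415), Int.ofNat (nat_lit 31053), Int.ofNat (nat_lit 42323), Int.ofNat (nat_lit 85637), Int.ofNat (nat_lit 9207), Int.ofNat (nat_lit 56189), Int.ofNat (nat_lit 35149), Int.ofNat (nat_lit 56918), Int.negSucc (nat_lit 28256), Int.negSucc (nat_lit 86533), Int.ofNat (nat_lit 30134), Int.ofNat (nat_lit 72640), Int.negSucc (nat_lit 13106), Int.negSucc (nat_lit 44543), Int.negSucc (nat_lit 19093), Int.ofNat (nat_lit 31268), Int.negSucc (nat_lit 128344), Int.negSucc (nat_lit 9043), Int.negSucc (nat_lit 2969), Int.ofNat (nat_lit 66875), Int.negSucc (nat_lit 1227), Int.ofNat (nat_lit 15244), Int.ofNat (nat_lit 55829), Int.ofNat (nat_lit 86695), Int.negSucc (nat_lit 60355)],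
  [Int.negSucc (nat_lit 11477), Int.negSucc (nat_lit 8738), Int.ofNat (nat_lit 10818), Int.negSucc (nat_lit 5278), Int.negSucc (nat_lit 4815), Int.negSucc (nat_lit 16067), Int.ofNat (nat_lit 12100), Int.negSucc (nat_lit 22134), Int.negSucc (nat_lit 11265), Int.ofNat (nat_lit 5600), Int.negSucc (nat_lit 1637), Int.negSucc (nat_lit 25611), Int.negSucc (nat_lit 1281), Int.ofNat (nat_lit 26), Int.ofNat (nat_lit 1737), Int.negSucc (nat_lit 8952), Int.negSucc (nat_lit 1389), Int.ofNat (nat_lit 22322), Int.ofNat (nat_lit 6732), Int.ofNat (nat_lit 0), Int.ofNat (nat_lit 11254), Int.negSucc (nat_lit 16806), Int.negSucc (nat_lit 666), Int.negSucc (nat_lit 20323), Int.ofNat (nat_lit 10105), Int.negSucc (nat_lit 8600), Int.negSucc (nat_lit 8692), Int.negSucc (nat_lit 27906), Int.ofNat (nat_lit 1227), Int.ofNat (nat_lit 15890), Int.ofNat (nat_lit 27257), Int.negSucc (nat_lit 14707), Int.ofNat (nat_lit 8532), Int.ofNat (nat_lit 13289), Int.ofNat (nat_lit 25544), Int.ofNat (nat_lit 4361), Int.ofNat (nat_lit 16219), Int.ofNat (nat_lit 11602), Int.ofNat (nat_lit 17618), Int.negSucc (nat_lit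 7425), Int.negSucc (nat_lit 26542), Int.ofNat (nat_lit 7437), Int.ofNat (nat_lit 22061), Int.negSucc (nat_lit 2585), Int.negSucc (nat_lit 13021), Int.negSucc (nat_lit 6563), Int.ofNat (nat_lit 11783), Int.negSucc (nat_lit 37955), Int.negSucc (nat_lit 2659), Int.negSucc (nat_lit 1057), Int.ofNat (nat_lit 20103), Int.ofNat (nat_lit 877), Int.ofNat (nat_lit 3541), Int.ofNat (nat_lit 17048), Int.ofNat (nat_lit 27155), Int.negSucc (nat_lit 16507)],
  [Int.ofNat (nat_lit 8739), Int.negSucc (nat_lit 11477), Int.ofNat (nat_lit 5279), Int.ofNat (nat_lit 10818), Int.ofNat (nat_lit 16068), Int.negSucc (nat_lit 4815), Int.ofNat (nat_lit 22135), Int.ofNat (nat_lit 12100), Int.negSucc (nat_lit 5599), Int.negSucc (nat_lit 11265), Int.ofNat (nat_lit 25612), Int.negSucc (nat_lit 1637), Int.negSucc (nat_lit 25), Int.negSucc (nat_lit 1281), Int.ofNat (nat_lit 8953), Int.ofNat (nat_lit 1737), Int.negSucc (nat_lit 22321), Int.negSucc (nat_lit 1389), Int.ofNat (nat_lit 0), Int.ofNat (nat_lit 6732), Int.ofNat (nat_lit 16807), Int.ofNat (nat_lit 11254), Int.ofNat (nat_lit 20324), Int.negSucc (nat_lit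 666), Int.ofNat (nat_lit 8601), Int.ofNat (nat_lit 10105), Int.ofNat (nat_lit 27907), Int.negSucc (nat_lit 8692), Int.negSucc (nat_lit 15889), Int.ofNat (nat_lit 1227), Int.ofNat (nat_lit 14708), Int.ofNat (nat_lit 27257), Int.negSucc (nat_lit 13288), Int.ofNat (nat_lit 8532), Int.negSucc (nat_lit 4360), Int.ofNat (nat_lit 25544), Int.negSucc (nat_lit 11601), Int.ofNat (nat_lit 16219), Int.ofNat (nat_lit 7426), Int.ofNat (nat_lit 17618), Int.negSucc (nat_lit 7436), Int.negSucc (nat_lit 26542), Int.ofNat (nat_lit 2586), Int.ofNat (nat_lit 22061), Int.ofNat (nat_lit 6564), Int.negSucc (nat_lit 13021), Int.ofNat (nat_lit 37956), Int.ofNat (nat_lit 11783), Int.ofNat (nat_lit 1058), Int.negSucc (nat_lit 2659), Int.negSucc (nat_lit 876), Int.ofNat (nat_lit 20103), Int.negSucc (nat_lit 17047), Int.ofNat (nat_lit 3541), Int.ofNat (nat_lit 16508), Int.ofNat (nat_lit 27155)],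
  [Int.ofNat (nat_lit 2630), Int.negSucc (nat_lit 43275), Int.ofNat (nat_lit 31275), Int.ofNat (nat_lit 18185), Int.ofNat (nat_lit 32075), Int.negSucc (nat_lit 38893), Int.ofNat (nat_lit 75516), Int.negSucc (nat_lit 6800), Int.negSucc (nat_lit 32827), Int.negSucc (nat_lit 18769), Int.ofNat (nat_lit 61213), Int.negSucc (nat_lit 46928), Int.negSucc (nat_lit 2209), Int.negSucc (nat_lit 3158), Int.ofNat (nat_lit 25262), Int.negSucc (nat_lit 10637), Int.negSucc (nat_lit 58058), Int.ofNat (nat_lit 33863), Int.ofNat (nat_lit 11254), Int.ofNat (nat_lit 16807), Int.ofNat (nat_lit 60788), Int.ofNat (nat_lit 0), Int.ofNat (nat_lit 49639), Int.negSucc (nat_lit 35658), Int.ofNat (nat_lit 38381), Int.ofNat (nat_lit 10842), Int.ofNat (nat_lit 55154), Int.negSucc (nat_lit 68376), Int.negSucc (nat_lit 37620), Int.ofNat (nat_lit 29642), Int.ofNat (nat_lit 82320), Int.ofNat (nat_lit 43463), Int.negSucc (nat_lit 18909), Int.ofNat (nat_lit 43530), Int.ofNat (nat_lit 31831), Int.ofNat (nat_lit 71083), Int.negSucc (nat_lit 1845), Int.ofNat (nat_lit 59906), Int.ofNat (nat_lit 48008), Int.ofNat (nat_lit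 31577), Int.negSucc (nat_lit 62969), Int.negSucc (nat_lit 53844), Int.ofNat (nat_lit 43348), Int.ofNat (nat_lit 50771), Int.negSucc (nat_lit 5384), Int.negSucc (nat_lit 43494), Int.ofNat (nat_lit 114488), Int.negSucc (nat_lit 34055), Int.negSucc (nat_lit 1809), Int.negSucc (nat_lit 8414), Int.ofNat (nat_lit 31434), Int.ofNat (nat_lit 51672), Int.negSucc (nat_lit 36653), Int.ofNat (nat_lit 37355), Int.ofNat (nat_lit 86645), Int.ofNat (nat_lit 40201)],
  [Int.ofNat (nat_lit 43276), Int.ofNat (nat_lit 2630), Int.negSucc (nat_lit 18184), Int.ofNat (nat_lit 31275), Int.ofNat (nat_lit 38894), Int.ofNat (nat_lit 32075), Int.ofNat (nat_lit 6801), Int.ofNat (nat_lit 75516), Int.ofNat (nat_lit 18770), Int.negSucc (nat_lit 32827), Int.ofNat (nat_lit 46929), Int.ofNat (nat_lit 61213), Int.ofNat (nat_lit 3159), Int.negSucc (nat_lit 2209), Int.ofNat (nat_lit 10638), Int.ofNat (nat_lit 25262), Int.negSucc (nat_lit 33862), Int.negSucc (nat_lit 58058), Int.negSucc (nat_lit 16806), Int.ofNat (nat_lit 11254), Int.ofNat (nat_lit 0), Int.ofNat (nat_lit 60788), Int.ofNat (nat_lit 35659), Int.ofNat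 (nat_lit 49639), Int.negSucc (nat_lit 10841), Int.ofNat (nat_lit 38381), Int.ofNat (nat_lit 68377), Int.ofNat (nat_lit 55154), Int.negSucc (nat_lit 29641), Int.negSucc (nat_lit 37620), Int.negSucc (nat_lit 43462), Int.ofNat (nat_lit 82320), Int.negSucc (nat_lit 43529), Int.negSucc (nat_lit 18909), Int.negSucc (nat_lit 71082), Int.ofNat (nat_lit 31831), Int.negSucc (nat_lit 59905), Int.negSucc (nat_lit 1845), Int.negSucc (nat_lit 31576), Int.ofNat (nat_lit 48008), Int.ofNat (nat_lit 53845), Int.negSucc (nat_lit 62969), Int.negSucc (nat_lit 50770), Int.ofNat (nat_lit 43348), Int.ofNat (nat_lit 43495), Int.negSucc (nat_lit 5384), Int.ofNat (nat_lit 34056), Int.ofNat (nat_lit 114488), Int.ofNat (nat_lit 8415), Int.negSucc (nat_lit 1809), Int.negSucc (nat_lit 51671), Int.ofNat (nat_lit 31434), Int.negSucc (nat_lit 37354), Int.negSucc (nat_lit 36653), Int.negSucc (nat_lit 40200), Int.ofNat (nat_lit 86645)],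
  [Int.ofNat (nat_lit 27536), Int.negSucc (nat_lit 33795), Int.ofNat (nat_lit 14875), Int.ofNat (nat_lit 33203), Int.ofNat (nat_lit 49012), Int.negSucc (nat_lit 12934), Int.ofNat (nat_lit 65667), Int.ofNat (nat_lit 38755), Int.negSucc (nat_lit 15797), Int.negSucc (nat_lit 34592), Int.ofNat (nat_lit 77533), Int.negSucc (nat_lit 2422), Int.ofNat (nat_lit 51), Int.negSucc (nat_lit 3878), Int.ofNat (nat_lit 26878), Int.ofNat (nat_lit 6132), Int.negSucc (nat_lit 67284), Int.negSucc (nat_lit 6394), Int.negSucc (nat_lit 666), Int.ofNat (nat_lit 20324), Int.ofNat (nat_lit 49639), Int.ofNat (nat_lit 35659), Int.ofNat (nat_lit 61472), Int.ofNat (nat_lit 0), Int.ofNat (nat_lit 24995), Int.ofNat (nat_lit 31373), Int.ofNat (nat_lit 85163), Int.negSucc (nat_lit 23479), Int.negSucc (nat_lit 48118), Int.ofNat (nat_lit 2148), Int.ofNat (nat_lit 41742), Int.ofNat (nat_lit 83800), Int.negSucc (nat_lit 40978), Int.ofNat (nat_lit 24466), Int.negSucc (nat_lit 15707), Int.ofNat (nat_lit 76735), Int.negSucc (nat_lit 36651), Int.ofNat (nat_lit 47847), Int.ofNat (nat_lit 20681), Int.ofNat (nat_lit 53956),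 Int.negSucc (nat_lit 19840), Int.negSucc (nat_lit 80930), Int.ofNat (nat_lit 5607), Int.ofNat (nat_lit 66895), Int.ofNat (nat_lit 21119), Int.negSucc (nat_lit 38678), Int.ofNat (nat_lit 113489), Int.ofNat (nat_lit 39352), Int.ofNat (nat_lit 3462), Int.negSucc (nat_lit 7940), Int.negSucc (nat_lit 4650), Int.ofNat (nat_lit 60650), Int.negSucc (nat_lit 51856), Int.ofNat (nat_lit 9000), Int.ofNat (nat_lit 47185), Int.ofNat (nat_lit 83678)],
  [Int.ofNat (nat_lit 33796), Int.ofNat (nat_lit 27536), Int.negSucc (nat_lit 33202), Int.ofNat (nat_lit 14875), Int.ofNat (nat_lit 12935), Int.ofNat (nat_lit 49012), Int.negSucc (nat_lit 38754), Int.ofNat (nat_lit 65667), Int.ofNat (nat_lit 34593), Int.negSucc (nat_lit 15797), Int.ofNat (nat_lit 2423), Int.ofNat (nat_lit 77533), Int.ofNat (nat_lit 3879), Int.ofNat (nat_lit 51), Int.negSucc (nat_lit 6131), Int.ofNat (nat_lit 26878), Int.ofNat (nat_lit 6395), Int.negSucc (nat_lit 67284), Int.negSucc (nat_lit 20323), Int.negSucc (nat_lit 666), Int.negSucc (nat_lit 35658), Int.ofNat (nat_lit 49639), Int.ofNat (nat_lit 0), Int.ofNat (nat_lit 61472),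 Int.negSucc (nat_lit 31372), Int.ofNat (nat_lit 24995), Int.ofNat (nat_lit 23480), Int.ofNat (nat_lit 85163), Int.negSucc (nat_lit 2147), Int.negSucc (nat_lit 48118), Int.negSucc (nat_lit 83799), Int.ofNat (nat_lit 41742), Int.negSucc (nat_lit 24465), Int.negSucc (nat_lit 40978), Int.negSucc (nat_lit 76734), Int.negSucc (nat_lit 15707), Int.negSucc (nat_lit 47846), Int.negSucc (nat_lit 36651), Int.negSucc (nat_lit 53955), Int.ofNat (nat_lit 20681), Int.ofNat (nat_lit 80931), Int.negSucc (nat_lit 19840), Int.negSucc (nat_lit 66894), Int.ofNat (nat_lit 5607), Int.ofNat (nat_lit 38679), Int.ofNat (nat_lit 21119), Int.negSucc (nat_lit 39351), Int.ofNat (nat_lit 113489), Int.ofNat (nat_lit 7941), Int.ofNat (nat_lit 3462), Int.negSucc (nat_lit 60649), Int.negSucc (nat_lit 4650), Int.negSucc (nat_lit 8999), Int.negSucc (nat_lit 51856), Int.negSucc (nat_lit 83677), Int.ofNat (nat_lit 47185)],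
  [Int.negSucc (nat_lit 6055), Int.negSucc (nat_lit 27794), Int.ofNat (nat_lit 22996), Int.ofNat (nat_lit 5907), Int.ofNat (nat_lit 13319), Int.negSucc (nat_lit 30274), Int.ofNat (nat_lit 46480), Int.negSucc (nat_lit 17755), Int.negSucc (nat_lit 24077), Int.negSucc (nat_lit 6004), Int.ofNat (nat_lit 30292), Int.negSucc (nat_lit 40562), Int.negSucc (nat_lit 1959), Int.negSucc (nat_lit 1604), Int.ofNat (nat_lit 14062), Int.negSucc (nat_lit 11226), Int.negSucc (nat_lit 30627), Int.ofNat (nat_lit 31751), Int.ofNat (nat_lit 10105), Int.ofNat (nat_lit 8601), Int.ofNat (nat_lit 38381), Int.negSucc (nat_lit 10841), Int.ofNat (nat_lit 24995), Int.negSucc (nat_lit 31372), Int.ofNat (nat_lit 26184), Int.ofNat (nat_lit 0), Int.ofNat (nat_lit 22639), Int.negSucc (nat_lit 53015), Int.negSucc (nat_lit 18472), Int.ofNat (nat_lit 25440), Int.ofNat (nat_lit 59751), Int.ofNat (nat_lit 12773), Int.negSucc (nat_lit 4173), Int.ofNat (nat_lit 30871), Int.ofNat (nat_lit 32780), Int.ofNat (nat_lit 39219), Int.ofNat (nat_lit 9517), Int.ofNat (nat_lit 38163), Int.ofNat (nat_lit 35949), Int.ofNat (nat_lit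 11383), Int.negSucc (nat_lit 49375), Int.negSucc (nat_lit 22785), Int.ofNat (nat_lit 36420), Int.ofNat (nat_lit 24333), Int.negSucc (nat_lit 11155), Int.negSucc (nat_lit 26505), Int.ofNat (nat_lit 66235), Int.negSucc (nat_lit 41928), Int.negSucc (nat_lit 2640), Int.negSucc (nat_lit 4996), Int.ofNat (nat_lit 29066), Int.ofNat (nat_lit 27035), Int.negSucc (nat_lit 16492), Int.ofNat (nat_lit 30123), Int.ofNat (nat_lit 61897), Int.ofNat (nat_lit 9945)],
  [Int.ofNat (nat_lit 27795), Int.negSucc (nat_lit 6055), Int.negSucc (nat_lit 5906), Int.ofNat (nat_lit 22996), Int.ofNat (nat_lit 30275), Int.ofNat (nat_lit 13319), Int.ofNat (nat_lit 17756), Int.ofNat (nat_lit 46480), Int.ofNat (nat_lit 6005), Int.negSucc (nat_lit 24077), Int.ofNat (nat_lit 40563), Int.ofNat (nat_lit 30292), Int.ofNat (nat_lit 1605), Int.negSucc (nat_lit 1959), Int.ofNat (nat_lit 11227), Int.ofNat (nat_lit 14062), Int.negSucc (nat_lit 31750), Int.negSucc (nat_lit 30627), Int.negSucc (nat_lit 8600), Int.ofNat (nat_lit 10105), Int.ofNat (nat_lit 10842), Int.ofNat (nat_lit 38381), Int.ofNat (nat_lit 31373), Int.ofNat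 (nat_lit 24995), Int.ofNat (nat_lit 0), Int.ofNat (nat_lit 26184), Int.ofNat (nat_lit 53016), Int.ofNat (nat_lit 22639), Int.negSucc (nat_lit 25439), Int.negSucc (nat_lit 18472), Int.negSucc (nat_lit 12772), Int.ofNat (nat_lit 59751), Int.negSucc (nat_lit 30870), Int.negSucc (nat_lit 4173), Int.negSucc (nat_lit 39218), Int.ofNat (nat_lit 32780), Int.negSucc (nat_lit 38162), Int.ofNat (nat_lit 9517), Int.negSucc (nat_lit 11382), Int.ofNat (nat_lit 35949), Int.ofNat (nat_lit 22786), Int.negSucc (nat_lit 49375), Int.negSucc (nat_lit 24332), Int.ofNat (nat_lit 36420), Int.ofNat (nat_lit 26506), Int.negSucc (nat_lit 11155), Int.ofNat (nat_lit 41929), Int.ofNat (nat_lit 66235), Int.ofNat (nat_lit 4997), Int.negSucc (nat_lit 2640), Int.negSucc (nat_lit 27034), Int.ofNat (nat_lit 29066), Int.negSucc (nat_lit 30122), Int.negSucc (nat_lit 16492), Int.negSucc (nat_lit 9944), Int.ofNat (nat_lit 61897)],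
  [Int.ofNat (nat_lit 51071), Int.negSucc (nat_lit 36304), Int.ofNat (nat_lit 7925), Int.ofNat (nat_lit 51687), Int.ofNat (nat_lit 72860), Int.ofNat (nat_lit 797), Int.ofNat (nat_lit 76174), Int.ofNat (nat_lit 78783), Int.negSucc (nat_lit 8668), Int.negSucc (nat_lit 53962), Int.ofNat (nat_lit 108342), Int.ofNat (nat_lit 26272), Int.ofNat (nat_lit 1553), Int.negSucc (nat_lit 5359), Int.ofNat (nat_lit 34899), Int.ofNat (nat_lit 18767), Int.negSucc (nat_lit 90782), Int.negSucc (nat_lit 34582), Int.negSucc (nat_lit 8692), Int.ofNat (nat_lit 27907), Int.ofNat (nat_lit 55154), Int.ofNat (nat_lit 68377), Int.ofNat (nat_lit 85163), Int.ofNat (nat_lit 23480), Int.ofNat (nat_lit 22639), Int.ofNat (nat_lit 53016), Int.ofNat (nat_lit 126978), Int.ofNat (nat_lit 0), Int.negSucc (nat_lit 67486), Int.negSucc (nat_lit 15418), Int.ofNat (nat_lit 25811), Int.ofNat (nat_lit 132054), Int.negSucc (nat_lit 66126), Int.ofNat (nat_lit 18235), Int.negSucc (nat_lit 51079), Int.ofNat (nat_lit 100316), Int.negSucc (nat_lit 69061), Int.ofNat (nat_lit 52280), Int.ofNat (nat_lit 8034), Int.ofNat (nat_lit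 82663), Int.ofNat (nat_lit 3436), Int.negSucc (nat_lit 119705), Int.negSucc (nat_lit 17787), Int.ofNat (nat_lit 94830), Int.ofNat (nat_lit 44044), Int.negSucc (nat_lit 45519), Int.ofNat (nat_lit 142207), Int.ofNat (nat_lit 97892), Int.ofNat (nat_lit 7826), Int.negSucc (nat_lit 9671), Int.negSucc (nat_lit 29608), Int.ofNat (nat_lit 82260), Int.negSucc (nat_lit 75284), Int.negSucc (nat_lit 7345), Int.ofNat (nat_lit 33401), Int.ofNat (nat_lit 133960)],
  [Int.ofNat (nat_lit 36305), Int.ofNat (nat_lit 51071), Int.negSucc (nat_lit 51686), Int.ofNat (nat_lit 7925), Int.negSucc (nat_lit 796), Int.ofNat (nat_lit 72860), Int.negSucc (nat_lit 78782), Int.ofNat (nat_lit 76174), Int.ofNat (nat_lit 53963), Int.negSucc (nat_lit 8668), Int.negSucc (nat_lit 26271), Int.ofNat (nat_lit 108342), Int.ofNat (nat_lit 5360), Int.ofNat (nat_lit 1553), Int.negSucc (nat_lit 18766), Int.ofNat (nat_lit 34899), Int.ofNat (nat_lit 34583), Int.negSucc (nat_lit 90782), Int.negSucc (nat_lit 27906), Int.negSucc (nat_lit 8692), Int.negSucc (nat_lit 68376), Int.ofNat (nat_lit 55154), Int.negSucc (nat_lit 23479),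 Int.ofNat (nat_lit 85163), Int.negSucc (nat_lit 53015), Int.ofNat (nat_lit 22639), Int.ofNat (nat_lit 0), Int.ofNat (nat_lit 126978), Int.ofNat (nat_lit 15419), Int.negSucc (nat_lit 67486), Int.negSucc (nat_lit 132053), Int.ofNat (nat_lit 25811), Int.negSucc (nat_lit 18234), Int.negSucc (nat_lit 66126), Int.negSucc (nat_lit 100315), Int.negSucc (nat_lit 51079), Int.negSucc (nat_lit 52279), Int.negSucc (nat_lit 69061), Int.negSucc (nat_lit 82662), Int.ofNat (nat_lit 8034), Int.ofNat (nat_lit 119706), Int.ofNat (nat_lit 3436), Int.negSucc (nat_lit 94829), Int.negSucc (nat_lit 17787), Int.ofNat (nat_lit 45520), Int.ofNat (nat_lit 44044), Int.negSucc (nat_lit 97891), Int.ofNat (nat_lit 142207), Int.ofNat (nat_lit 9672), Int.ofNat (nat_lit 7826), Int.negSucc (nat_lit 82259), Int.negSucc (nat_lit 29608), Int.ofNat (nat_lit 7346), Int.negSucc (nat_lit 75284), Int.negSucc (nat_lit 133959), Int.ofNat (nat_lit 33401)],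
  [Int.negSucc (nat_lit 22733), Int.ofNat (nat_lit 25501), Int.negSucc (nat_lit 10487), Int.negSucc (nat_lit 26511), Int.negSucc (nat_lit 38814), Int.ofNat (nat_lit 8425), Int.negSucc (nat_lit 50051), Int.negSucc (nat_lit 32629), Int.ofNat (nat_lit 11157), Int.ofNat (nat_lit 27632), Int.negSucc (nat_lit 60787), Int.negSucc (nat_lit 811), Int.negSucc (nat_lit 174), Int.ofNat (nat_lit 3037), Int.negSucc (nat_lit 20830), Int.negSucc (nat_lit 5739), Int.ofNat (nat_lit 52465), Int.ofNat (nat_lit 7355), Int.ofNat (nat_lit 1227), Int.negSucc (nat_lit 15889), Int.negSucc (nat_lit 37620), Int.negSucc (nat_lit 29641), Int.negSucc (nat_lit 48118), Int.negSucc (nat_lit 2147), Int.negSucc (nat_lit 18472), Int.negSucc (nat_lit 25439), Int.negSucc (nat_lit 67486), Int.ofNat (nat_lit 15419), Int.ofNat (nat_lit 37756), Int.ofNat (nat_lit 0), Int.negSucc (nat_lit 29751), Int.negSucc (nat_lit 67067), Int.ofNat (nat_lit 32942), Int.negSucc (nat_lit 17726), Int.ofNat (nat_lit 14974), Int.negSucc (nat_lit 59523), Int.ofNat (nat_lit 30366), Int.negSucc (nat_lit 36176), Int.negSucc (nat_lit 14308),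 Int.negSucc (nat_lit 42962), Int.ofNat (nat_lit 12702), Int.ofNat (nat_lit 64053), Int.negSucc (nat_lit 2059), Int.negSucc (nat_lit 52558), Int.negSucc (nat_lit 17881), Int.ofNat (nat_lit 29545), Int.negSucc (nat_lit 87479), Int.negSucc (nat_lit 34766), Int.negSucc (nat_lit 2991), Int.ofNat (nat_lit 6091), Int.ofNat (nat_lit 5756), Int.negSucc (nat_lit 47314), Int.ofNat (nat_lit 40909), Int.negSucc (nat_lit 5232), Int.negSucc (nat_lit 34013), Int.negSucc (nat_lit 67157)],
  [Int.negSucc (nat_lit 25500), Int.negSucc (nat_lit 22733), Int.ofNat (nat_lit 26512), Int.negSucc (nat_lit 10487), Int.negSucc (nat_lit 8424), Int.negSucc (nat_lit 38814), Int.ofNat (nat_lit 32630), Int.negSucc (nat_lit 50051), Int.negSucc (nat_lit 27631), Int.ofNat (nat_lit 11157), Int.ofNat (nat_lit 812), Int.negSucc (nat_lit 60787), Int.negSucc (nat_lit 3036), Int.negSucc (nat_lit 174), Int.ofNat (nat_lit 5740), Int.negSucc (nat_lit 20830), Int.negSucc (nat_lit 7354), Int.ofNat (nat_lit 52465), Int.ofNat (nat_lit 15890), Int.ofNat (nat_lit 1227), Int.ofNat (nat_lit 29642), Int.negSucc (nat_lit 37620),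 Int.ofNat (nat_lit 2148), Int.negSucc (nat_lit 48118), Int.ofNat (nat_lit 25440), Int.negSucc (nat_lit 18472), Int.negSucc (nat_lit 15418), Int.negSucc (nat_lit 67486), Int.ofNat (nat_lit 0), Int.ofNat (nat_lit 37756), Int.ofNat (nat_lit 67068), Int.negSucc (nat_lit 29751), Int.ofNat (nat_lit 17727), Int.ofNat (nat_lit 32942), Int.ofNat (nat_lit 59524), Int.ofNat (nat_lit 14974), Int.ofNat (nat_lit 36177), Int.ofNat (nat_lit 30366), Int.ofNat (nat_lit 42963), Int.negSucc (nat_lit 14308), Int.negSucc (nat_lit 64052), Int.ofNat (nat_lit 12702), Int.ofNat (nat_lit 52559), Int.negSucc (nat_lit 2059), Int.negSucc (nat_lit 29544), Int.negSucc (nat_lit 17881), Int.ofNat (nat_lit 34767), Int.negSucc (nat_lit 87479), Int.negSucc (nat_lit 6090), Int.negSucc (nat_lit 2991), Int.ofNat (nat_lit 47315), Int.ofNat (nat_lit 5756), Int.ofNat (nat_lit 5233), Int.ofNat (nat_lit 40909), Int.ofNat (nat_lit 67158), Int.negSucc (nat_lit 34013)],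
  [Int.negSucc (nat_lit 27378), Int.negSucc (nat_lit 60491), Int.ofNat (nat_lit 55368), Int.ofNat (nat_lit 2265), Int.ofNat (nat_lit 15638), Int.negSucc (nat_lit 75603), Int.ofNat (nat_lit 97428), Int.negSucc (nat_lit 63203), Int.negSucc (nat_lit 57888), Int.negSucc (nat_lit 1957), Int.ofNat (nat_lit 49350), Int.negSucc (nat_lit 107350), Int.negSucc (nat_lit 5258), Int.negSucc (nat_lit 2703), Int.ofNat (nat_lit 26614), Int.negSucc (nat_lit 32484), Int.negSucc (nat_lit 54415), Int.ofNat (nat_lit 87402), Int.ofNat (nat_lit 27257), Int.ofNat (nat_lit 14708), Int.ofNat (nat_lit 82320), Int.negSucc (nat_lit 43462), Int.ofNat (nat_lit 41742), Int.negSucc (nat_lit 83799), Int.ofNat (nat_lit 59751), Int.negSucc (nat_lit 12772), Int.ofNat (nat_lit 25811), Int.negSucc (nat_lit 132053), Int.negSucc (nat_lit 29751), Int.ofNat (nat_lit 67068), Int.ofNat (nat_lit 142602), Int.ofNat (nat_lit 0), Int.ofNat (nat_lit 5530), Int.ofNat (nat_lit 72489), Int.ofNat (nat_lit 93949), Int.ofNat (nat_lit 73522), Int.ofNat (nat_lit 40336), Int.ofNat (nat_lit 82462), Int.ofNat (nat_lit 87607), Int.ofNat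 (nat_lit 8447), Int.negSucc (nat_lit 123810), Int.negSucc (nat_lit 27914), Int.ofNat (nat_lit 95003), Int.ofNat (nat_lit 37779), Int.negSucc (nat_lit 38390), Int.negSucc (nat_lit 55059), Int.ofNat (nat_lit 130721), Int.negSucc (nat_lit 128007), Int.negSucc (nat_lit 8467), Int.negSucc (nat_lit 10113), Int.ofNat (nat_lit 79531), Int.ofNat (nat_lit 47522), Int.negSucc (nat_lit 22949), Int.ofNat (nat_lit 76807), Int.ofNat (nat_lit 146125), Int.negSucc (nat_lit 7500)],
  [Int.ofNat (nat_lit 60492), Int.negSucc (nat_lit 27378), Int.negSucc (nat_lit 2264), Int.ofNat (nat_lit 55368), Int.ofNat (nat_lit 75604), Int.ofNat (nat_lit 15638), Int.ofNat (nat_lit 63204), Int.ofNat (nat_lit 97428), Int.ofNat (nat_lit 1958), Int.negSucc (nat_lit 57888), Int.ofNat (nat_lit 107351), Int.ofNat (nat_lit 49350), Int.ofNat (nat_lit 2704), Int.negSucc (nat_lit 5258), Int.ofNat (nat_lit 32485), Int.ofNat (nat_lit 26614), Int.negSucc (nat_lit 87401), Int.negSucc (nat_lit 54415), Int.negSucc (nat_lit 14707), Int.ofNat (nat_lit 27257), Int.ofNat (nat_lit 43463), Int.ofNat (nat_lit 82320), Int.ofNat (nat_lit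 83800), Int.ofNat (nat_lit 41742), Int.ofNat (nat_lit 12773), Int.ofNat (nat_lit 59751), Int.ofNat (nat_lit 132054), Int.ofNat (nat_lit 25811), Int.negSucc (nat_lit 67067), Int.negSucc (nat_lit 29751), Int.ofNat (nat_lit 0), Int.ofNat (nat_lit 142602), Int.negSucc (nat_lit 72488), Int.ofNat (nat_lit 5530), Int.negSucc (nat_lit 73521), Int.ofNat (nat_lit 93949), Int.negSucc (nat_lit 82461), Int.ofNat (nat_lit 40336), Int.negSucc (nat_lit 8446), Int.ofNat (nat_lit 87607), Int.ofNat (nat_lit 27915), Int.negSucc (nat_lit 123810), Int.negSucc (nat_lit 37778), Int.ofNat (nat_lit 95003), Int.ofNat (nat_lit 55060), Int.negSucc (nat_lit 38390), Int.ofNat (nat_lit 128008), Int.ofNat (nat_lit 130721), Int.ofNat (nat_lit 10114), Int.negSucc (nat_lit 8467), Int.negSucc (nat_lit 47521), Int.ofNat (nat_lit 79531), Int.negSucc (nat_lit 76806), Int.negSucc (nat_lit 22949), Int.ofNat (nat_lit 7501), Int.ofNat (nat_lit 146125)],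
  [Int.negSucc (nat_lit 31809), Int.ofNat (nat_lit 11577), Int.ofNat (nat_lit 3297), Int.negSucc (nat_lit 28057), Int.negSucc (nat_lit 37825), Int.negSucc (nat_lit 10872), Int.negSucc (nat_lit 28353), Int.negSucc (nat_lit 51971), Int.negSucc (nat_lit 3237), Int.ofNat (nat_lit 29349), Int.negSucc (nat_lit 52658), Int.negSucc (nat_lit 29248), Int.negSucc (nat_lit 1578), Int.ofNat (nat_lit 2567), Int.negSucc (nat_lit 15479), Int.negSucc (nat_lit 14789), Int.ofNat (nat_lit 42323), Int.ofNat (nat_lit 31053), Int.ofNat (nat_lit 8532), Int.negSucc (nat_lit 13288), Int.negSucc (nat_lit 18909), Int.negSucc (nat_lit 43529), Int.negSucc (nat_lit 40978), Int.negSucc (nat_lit 24465), Int.negSucc (nat_lit 4173), Int.negSucc (nat_lit 30870), Int.negSucc (nat_lit 66126), Int.negSucc (nat_lit 18234), Int.ofNat (nat_lit 32942), Int.ofNat (nat_lit 17727), Int.ofNat (nat_lit 5530), Int.negSucc (nat_lit 72488), Int.ofNat (nat_lit 37068), Int.ofNat (nat_lit 0), Int.ofNat (nat_lit 41014), Int.negSucc (nat_lit 44907), Int.ofNat (nat_lit 43481), Int.negSucc (nat_lit 17309), Int.ofNat (nat_lit 7687),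 Int.negSucc (nat_lit 44204), Int.negSucc (nat_lit 18988), Int.ofNat (nat_lit 61852), Int.ofNat (nat_lit 22879), Int.negSucc (nat_lit 46828), Int.negSucc (nat_lit 29474), Int.ofNat (nat_lit 17384), Int.negSucc (nat_lit 60005), Int.negSucc (nat_lit 71410), Int.negSucc (nat_lit 5467), Int.ofNat (nat_lit 3910), Int.ofNat (nat_lit 27238), Int.negSucc (nat_lit 38583), Int.ofNat (nat_lit 38151), Int.ofNat (nat_lit 14640), Int.ofNat (nat_lit 1852), Int.negSucc (nat_lit 74567)],
  [Int.negSucc (nat_lit 11576), Int.negSucc (nat_lit 31809), Int.ofNat (nat_lit 28058), Int.ofNat (nat_lit 3297), Int.ofNat (nat_lit 10873), Int.negSucc (nat_lit 37825), Int.ofNat (nat_lit 51972), Int.negSucc (nat_lit 28353), Int.negSucc (nat_lit 29348), Int.negSucc (nat_lit 3237), Int.ofNat (nat_lit 29249), Int.negSucc (nat_lit 52658), Int.negSucc (nat_lit 2566), Int.negSucc (nat_lit 1578), Int.ofNat (nat_lit 14790), Int.negSucc (nat_lit 15479), Int.negSucc (nat_lit 31052), Int.ofNat (nat_lit 42323), Int.ofNat (nat_lit 13289), Int.ofNat (nat_lit 8532), Int.ofNat (nat_lit 43530), Int.negSucc (nat_lit 18909),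 Int.ofNat (nat_lit 24466), Int.negSucc (nat_lit 40978), Int.ofNat (nat_lit 30871), Int.negSucc (nat_lit 4173), Int.ofNat (nat_lit 18235), Int.negSucc (nat_lit 66126), Int.negSucc (nat_lit 17726), Int.ofNat (nat_lit 32942), Int.ofNat (nat_lit 72489), Int.ofNat (nat_lit 5530), Int.ofNat (nat_lit 0), Int.ofNat (nat_lit 37068), Int.ofNat (nat_lit 44908), Int.ofNat (nat_lit 41014), Int.ofNat (nat_lit 17310), Int.ofNat (nat_lit 43481), Int.ofNat (nat_lit 44205), Int.ofNat (nat_lit 7687), Int.negSucc (nat_lit 61851), Int.negSucc (nat_lit 18988), Int.ofNat (nat_lit 46829), Int.ofNat (nat_lit 22879), Int.negSucc (nat_lit 17383), Int.negSucc (nat_lit 29474), Int.ofNat (nat_lit 71411), Int.negSucc (nat_lit 60005), Int.negSucc (nat_lit 3909), Int.negSucc (nat_lit 5467), Int.ofNat (nat_lit 38584), Int.ofNat (nat_lit 27238), Int.negSucc (nat_lit 14639), Int.ofNat (nat_lit 38151), Int.ofNat (nat_lit 74568), Int.ofNat (nat_lit 1852)],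
  [Int.negSucc (nat_lit 49228), Int.negSucc (nat_lit 25739), Int.ofNat (nat_lit 37648), Int.negSucc (nat_lit 27054), Int.negSucc (nat_lit 28678), Int.negSucc (nat_lit 57879), Int.ofNat (nat_lit 31600), Int.negSucc (nat_lit 91878), Int.negSucc (nat_lit 39147), Int.ofNat (nat_lit 28560), Int.negSucc (nat_lit 22833), Int.negSucc (nat_lit 96170), Int.negSucc (nat_lit 4856), Int.ofNat (nat_lit 929), Int.ofNat (nat_lit 787), Int.negSucc (nat_lit 35121), Int.ofNat (nat_lit 9207), Int.ofNat (nat_lit 85637), Int.ofNat (nat_lit 25544), Int.negSucc (nat_lit 4360), Int.ofNat (nat_lit 31831), Int.negSucc (nat_lit 71082), Int.negSucc (nat_lit 15707), Int.negSucc (nat_lit 76734), Int.ofNat (nat_lit 32780), Int.negSucc (nat_lit 39218), Int.negSucc (nat_lit 51079), Int.negSucc (nat_lit 100315), Int.ofNat (nat_lit 14974), Int.ofNat (nat_lit 59524), Int.ofNat (nat_lit 93949), Int.negSucc (nat_lit 73521), Int.ofNat (nat_lit 41014), Int.ofNat (nat_lit 44908), Int.ofNat (nat_lit 99808), Int.ofNat (nat_lit 0), Int.ofNat (nat_lit 69094), Int.ofNat (nat_lit 33531), Int.ofNat (nat_lit 62075), Int.negSucc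 (nat_lit 39605), Int.negSucc (nat_lit 95961), Int.ofNat (nat_lit 45447), Int.ofNat (nat_lit 82077), Int.negSucc (nat_lit 24095), Int.negSucc (nat_lit 53683), Int.negSucc (nat_lit 16481), Int.ofNat (nat_lit 20127), Int.negSucc (nat_lit 151735), Int.negSucc (nat_lit 10793), Int.negSucc (nat_lit 2293), Int.ofNat (nat_lit 76902), Int.negSucc (nat_lit 9696), Int.ofNat (nat_lit 24485), Int.ofNat (nat_lit 62436), Int.ofNat (nat_lit 92403), Int.negSucc (nat_lit 80284)],
  [Int.ofNat (nat_lit 25740), Int.negSucc (nat_lit 49228), Int.ofNat (nat_lit 27055), Int.ofNat (nat_lit 37648), Int.ofNat (nat_lit 57880), Int.negSucc (nat_lit 28678), Int.ofNat (nat_lit 91879), Int.ofNat (nat_lit 31600), Int.negSucc (nat_lit 28559), Int.negSucc (nat_lit 39147), Int.ofNat (nat_lit 96171), Int.negSucc (nat_lit 22833), Int.negSucc (nat_lit 928), Int.negSucc (nat_lit 4856), Int.ofNat (nat_lit 35122), Int.ofNat (nat_lit 787), Int.negSucc (nat_lit 85636), Int.ofNat (nat_lit 9207), Int.ofNat (nat_lit 4361), Int.ofNat (nat_lit 25544), Int.ofNat (nat_lit 71083), Int.ofNat (nat_lit 31831), Int.ofNat (nat_lit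 76735), Int.negSucc (nat_lit 15707), Int.ofNat (nat_lit 39219), Int.ofNat (nat_lit 32780), Int.ofNat (nat_lit 100316), Int.negSucc (nat_lit 51079), Int.negSucc (nat_lit 59523), Int.ofNat (nat_lit 14974), Int.ofNat (nat_lit 73522), Int.ofNat (nat_lit 93949), Int.negSucc (nat_lit 44907), Int.ofNat (nat_lit 41014), Int.ofNat (nat_lit 0), Int.ofNat (nat_lit 99808), Int.negSucc (nat_lit 33530), Int.ofNat (nat_lit 69094), Int.ofNat (nat_lit 39606), Int.ofNat (nat_lit 62075), Int.negSucc (nat_lit 45446), Int.negSucc (nat_lit 95961), Int.ofNat (nat_lit 24096), Int.ofNat (nat_lit 82077), Int.ofNat (nat_lit 16482), Int.negSucc (nat_lit 53683), Int.ofNat (nat_lit 151736), Int.ofNat (nat_lit 20127), Int.ofNat (nat_lit 2294), Int.negSucc (nat_lit 10793), Int.ofNat (nat_lit 9697), Int.ofNat (nat_lit 76902), Int.negSucc (nat_lit 62435), Int.ofNat (nat_lit 24485), Int.ofNat (nat_lit 80285), Int.ofNat (nat_lit 92403)],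
  [Int.negSucc (nat_lit 42729), Int.negSucc (nat_lit 1276), Int.ofNat (nat_lit 16973), Int.negSucc (nat_lit 31376), Int.negSucc (nat_lit 39298), Int.negSucc (nat_lit 30429), Int.negSucc (nat_lit 8992), Int.negSucc (nat_lit 74224), Int.negSucc (nat_lit 17505), Int.ofNat (nat_lit 32927), Int.negSucc (nat_lit 48118), Int.negSucc (nat_lit 58907), Int.negSucc (nat_lit 3045), Int.ofNat (nat_lit 2275), Int.negSucc (nat_lit 11254), Int.negSucc (nat_lit 24574), Int.ofNat (nat_lit 35149), Int.ofNat (nat_lit 56189), Int.ofNat (nat_lit 16219), Int.negSucc (nat_lit 11601), Int.negSucc (nat_lit 1845), Int.negSucc (nat_lit 59905), Int.negSucc (nat_lit 36651), Int.negSucc (nat_lit 47846), Int.ofNat (nat_lit 9517), Int.negSucc (nat_lit 38162), Int.negSucc (nat_lit 69061), Int.negSucc (nat_lit 52279), Int.ofNat (nat_lit 30366), Int.ofNat (nat_lit 36177), Int.ofNat (nat_lit 40336), Int.negSucc (nat_lit 82461), Int.ofNat (nat_lit 43481), Int.ofNat (nat_lit 17310), Int.ofNat (nat_lit 69094), Int.negSucc (nat_lit 33530), Int.ofNat (nat_lit 59104), Int.ofNat (nat_lit 0), Int.ofNat (nat_lit 29664),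 Int.negSucc (nat_lit 48276), Int.negSucc (nat_lit 51162), Int.ofNat (nat_lit 63705), Int.ofNat (nat_lit 48725), Int.negSucc (nat_lit 44258), Int.negSucc (nat_lit 42703), Int.ofNat (nat_lit 6629), Int.negSucc (nat_lit 37047), Int.negSucc (nat_lit 111803), Int.negSucc (nat_lit 8245), Int.ofNat (nat_lit 2038), Int.ofNat (nat_lit 49975), Int.negSucc (nat_lit 32546), Int.ofNat (nat_lit 37931), Int.ofNat (nat_lit 34997), Int.ofNat (nat_lit 36995), Int.negSucc (nat_lit 86624)],
  [Int.ofNat (nat_lit 1277), Int.negSucc (nat_lit 42729), Int.ofNat (nat_lit 31377), Int.ofNat (nat_lit 16973), Int.ofNat (nat_lit 30430), Int.negSucc (nat_lit 39298), Int.ofNat (nat_lit 74225), Int.negSucc (nat_lit 8992), Int.negSucc (nat_lit 32926), Int.negSucc (nat_lit 17505), Int.ofNat (nat_lit 58908), Int.negSucc (nat_lit 48118), Int.negSucc (nat_lit 2274), Int.negSucc (nat_lit 3045), Int.ofNat (nat_lit 24575), Int.negSucc (nat_lit 11254), Int.negSucc (nat_lit 56188), Int.ofNat (nat_lit 35149), Int.ofNat (nat_lit 11602), Int.ofNat (nat_lit 16219), Int.ofNat (nat_lit 59906), Int.negSucc (nat_lit 1845),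 Int.ofNat (nat_lit 47847), Int.negSucc (nat_lit 36651), Int.ofNat (nat_lit 38163), Int.ofNat (nat_lit 9517), Int.ofNat (nat_lit 52280), Int.negSucc (nat_lit 69061), Int.negSucc (nat_lit 36176), Int.ofNat (nat_lit 30366), Int.ofNat (nat_lit 82462), Int.ofNat (nat_lit 40336), Int.negSucc (nat_lit 17309), Int.ofNat (nat_lit 43481), Int.ofNat (nat_lit 33531), Int.ofNat (nat_lit 69094), Int.ofNat (nat_lit 0), Int.ofNat (nat_lit 59104), Int.ofNat (nat_lit 48277), Int.ofNat (nat_lit 29664), Int.negSucc (nat_lit 63704), Int.negSucc (nat_lit 51162), Int.ofNat (nat_lit 44259), Int.ofNat (nat_lit 48725), Int.negSucc (nat_lit 6628), Int.negSucc (nat_lit 42703), Int.ofNat (nat_lit 111804), Int.negSucc (nat_lit 37047), Int.negSucc (nat_lit 2037), Int.negSucc (nat_lit 8245), Int.ofNat (nat_lit 32547), Int.ofNat (nat_lit 49975), Int.negSucc (nat_lit 34996), Int.ofNat (nat_lit 37931), Int.ofNat (nat_lit 86625), Int.ofNat (nat_lit 36995)],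
  [Int.negSucc (nat_lit 20404), Int.negSucc (nat_lit 35547), Int.ofNat (nat_lit 34151), Int.negSucc (nat_lit 1887), Int.ofNat (nat_lit 5130), Int.negSucc (nat_lit 47381), Int.ofNat (nat_lit 56116), Int.negSucc (nat_lit 44604), Int.negSucc (nat_lit 35683), Int.ofNat (nat_lit 2227), Int.ofNat (nat_lit 23964), Int.negSucc (nat_lit 68873), Int.negSucc (nat_lit 3391), Int.negSucc (nat_lit 1345), Int.ofNat (nat_lit 14424), Int.negSucc (nat_lit 21532), Int.negSucc (nat_lit 28256), Int.ofNat (nat_lit 56918), Int.ofNat (nat_lit 17618), Int.ofNat (nat_lit 7426), Int.ofNat (nat_lit 48008), Int.negSucc (nat_lit 31576), Int.ofNat (nat_lit 20681), Int.negSucc (nat_lit 53955), Int.ofNat (nat_lit 35949), Int.negSucc (nat_lit 11382), Int.ofNat (nat_lit 8034), Int.negSucc (nat_lit 82662), Int.negSucc (nat_lit 14308), Int.ofNat (nat_lit 42963), Int.ofNat (nat_lit 87607), Int.negSucc (nat_lit 8446), Int.ofNat (nat_lit 7687), Int.ofNat (nat_lit 44205), Int.ofNat (nat_lit 62075), Int.ofNat (nat_lit 39606), Int.ofNat (nat_lit 29664), Int.ofNat (nat_lit 48277), Int.ofNat (nat_lit 54330), Int.ofNat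 (nat_lit 0), Int.negSucc (nat_lit 77720), Int.negSucc (nat_lit 9814), Int.ofNat (nat_lit 60613), Int.ofNat (nat_lit 17587), Int.negSucc (nat_lit 26848), Int.negSucc (nat_lit 31557), Int.ofNat (nat_lit 72731), Int.negSucc (nat_lit 86387), Int.negSucc (nat_lit 5801), Int.negSucc (nat_lit 5711), Int.ofNat (nat_lit 51678), Int.ofNat (nat_lit 24482), Int.negSucc (nat_lit 9548), Int.ofNat (nat_lit 48553), Int.ofNat (nat_lit 89331), Int.negSucc (nat_lit 13265)],
  [Int.ofNat (nat_lit 35548), Int.negSucc (nat_lit 20404), Int.ofNat (nat_lit 1888), Int.ofNat (nat_lit 34151), Int.ofNat (nat_lit 47382), Int.ofNat (nat_lit 5130), Int.ofNat (nat_lit 44605), Int.ofNat (nat_lit 56116), Int.negSucc (nat_lit 2226), Int.negSucc (nat_lit 35683), Int.ofNat (nat_lit 68874), Int.ofNat (nat_lit 23964), Int.ofNat (nat_lit 1346), Int.negSucc (nat_lit 3391), Int.ofNat (nat_lit 21533), Int.ofNat (nat_lit 14424), Int.negSucc (nat_lit 56917), Int.negSucc (nat_lit 28256), Int.negSucc (nat_lit 7425), Int.ofNat (nat_lit 17618), Int.ofNat (nat_lit 31577), Int.ofNat (nat_lit 48008), Int.ofNat (nat_lit 53956),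 Int.ofNat (nat_lit 20681), Int.ofNat (nat_lit 11383), Int.ofNat (nat_lit 35949), Int.ofNat (nat_lit 82663), Int.ofNat (nat_lit 8034), Int.negSucc (nat_lit 42962), Int.negSucc (nat_lit 14308), Int.ofNat (nat_lit 8447), Int.ofNat (nat_lit 87607), Int.negSucc (nat_lit 44204), Int.ofNat (nat_lit 7687), Int.negSucc (nat_lit 39605), Int.ofNat (nat_lit 62075), Int.negSucc (nat_lit 48276), Int.ofNat (nat_lit 29664), Int.ofNat (nat_lit 0), Int.ofNat (nat_lit 54330), Int.ofNat (nat_lit 9815), Int.negSucc (nat_lit 77720), Int.negSucc (nat_lit 17586), Int.ofNat (nat_lit 60613), Int.ofNat (nat_lit 31558), Int.negSucc (nat_lit 26848), Int.ofNat (nat_lit 86388), Int.ofNat (nat_lit 72731), Int.ofNat (nat_lit 5712), Int.negSucc (nat_lit 5801), Int.negSucc (nat_lit 24481), Int.ofNat (nat_lit 51678), Int.negSucc (nat_lit 48552), Int.negSucc (nat_lit 9548), Int.ofNat (nat_lit 13266), Int.ofNat (nat_lit 89331)],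
  [Int.ofNat (nat_lit 35611), Int.ofNat (nat_lit 47165), Int.negSucc (nat_lit 48515), Int.ofNat (nat_lit 8871), Int.ofNat (nat_lit 1216), Int.ofNat (nat_lit 68705), Int.negSucc (nat_lit 72223), Int.ofNat (nat_lit 73949), Int.ofNat (nat_lit 50648), Int.negSucc (nat_lit 9630), Int.negSucc (nat_lit 21834), Int.ofNat (nat_lit 102867), Int.ofNat (nat_lit 5096), Int.ofNat (nat_lit 1316), Int.negSucc (nat_lit 16745), Int.ofNat (nat_lit 33413), Int.ofNat (nat_lit 30134), Int.negSucc (nat_lit 86533), Int.negSucc (nat_lit 26542), Int.negSucc (nat_lit 7436), Int.negSucc (nat_lit 62969), Int.ofNat (nat_lit 53845), Int.negSucc (nat_lit 19840), Int.ofNat (nat_lit 80931), Int.negSucc (nat_lit 49375), Int.ofNat (nat_lit 22786), Int.ofNat (nat_lit 3436), Int.ofNat (nat_lit 119706), Int.ofNat (nat_lit 12702), Int.negSucc (nat_lit 64052), Int.negSucc (nat_lit 123810), Int.ofNat (nat_lit 27915), Int.negSucc (nat_lit 18988), Int.negSucc (nat_lit 61851), Int.negSucc (nat_lit 95961), Int.negSucc (nat_lit 45446), Int.negSucc (nat_lit 51162), Int.negSucc (nat_lit 63704), Int.negSucc (nat_lit 77720),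 Int.ofNat (nat_lit 9815), Int.ofNat (nat_lit 112968), Int.ofNat (nat_lit 0), Int.negSucc (nat_lit 89884), Int.negSucc (nat_lit 14211), Int.ofNat (nat_lit 44110), Int.ofNat (nat_lit 40293), Int.negSucc (nat_lit 88439), Int.ofNat (nat_lit 136729), Int.ofNat (nat_lit 9336), Int.ofNat (nat_lit 7126), Int.negSucc (nat_lit 78354), Int.negSucc (nat_lit 25693), Int.ofNat (nat_lit 4892), Int.negSucc (nat_lit 71184), Int.negSucc (nat_lit 125406), Int.ofNat (nat_lit 35118)],
  [Int.negSucc (nat_lit 47164), Int.ofNat (nat_lit 35611), Int.negSucc (nat_lit 8870), Int.negSucc (nat_lit 48515), Int.negSucc (nat_lit 68704), Int.ofNat (nat_lit 1216), Int.negSucc (nat_lit 73948), Int.negSucc (nat_lit 72223), Int.ofNat (nat_lit 9631), Int.ofNat (nat_lit 50648), Int.negSucc (nat_lit 102866), Int.negSucc (nat_lit 21834), Int.negSucc (nat_lit 1315), Int.ofNat (nat_lit 5096), Int.negSucc (nat_lit 33412), Int.negSucc (nat_lit 16745), Int.ofNat (nat_lit 86534), Int.ofNat (nat_lit 30134), Int.ofNat (nat_lit 7437), Int.negSucc (nat_lit 26542), Int.negSucc (nat_lit 53844), Int.negSucc (nat_lit 62969), Int.negSucc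 (nat_lit 80930), Int.negSucc (nat_lit 19840), Int.negSucc (nat_lit 22785), Int.negSucc (nat_lit 49375), Int.negSucc (nat_lit 119705), Int.ofNat (nat_lit 3436), Int.ofNat (nat_lit 64053), Int.ofNat (nat_lit 12702), Int.negSucc (nat_lit 27914), Int.negSucc (nat_lit 123810), Int.ofNat (nat_lit 61852), Int.negSucc (nat_lit 18988), Int.ofNat (nat_lit 45447), Int.negSucc (nat_lit 95961), Int.ofNat (nat_lit 63705), Int.negSucc (nat_lit 51162), Int.negSucc (nat_lit 9814), Int.negSucc (nat_lit 77720), Int.ofNat (nat_lit 0), Int.ofNat (nat_lit 112968), Int.ofNat (nat_lit 14212), Int.negSucc (nat_lit 89884), Int.negSucc (nat_lit 40292), Int.ofNat (nat_lit 44110), Int.negSucc (nat_lit 136728), Int.negSucc (nat_lit 88439), Int.negSucc (nat_lit 7125), Int.ofNat (nat_lit 9336), Int.ofNat (nat_lit 25694), Int.negSucc (nat_lit 78354), Int.ofNat (nat_lit 71185), Int.ofNat (nat_lit 4892), Int.negSucc (nat_lit 35117), Int.negSucc (nat_lit 125406)],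
  [Int.negSucc (nat_lit 34271), Int.negSucc (nat_lit 33057), Int.ofNat (nat_lit 37491), Int.negSucc (nat_lit 13158), Int.negSucc (nat_lit 9610), Int.negSucc (nat_lit 54530), Int.ofNat (nat_lit 48169), Int.negSucc (nat_lit 67932), Int.negSucc (nat_lit 39090), Int.ofNat (nat_lit 14039), Int.ofNat (nat_lit 4443), Int.negSucc (nat_lit 84594), Int.negSucc (nat_lit 4216), Int.negSucc (nat_lit 403), Int.ofNat (nat_lit 9123), Int.negSucc (nat_lit 28688), Int.negSucc (nat_lit 13106), Int.ofNat (nat_lit 72640), Int.ofNat (nat_lit 22061), Int.ofNat (nat_lit 2586), Int.ofNat (nat_lit 43348), Int.negSucc (nat_lit 50770), Int.ofNat (nat_lit 5607), Int.negSucc (nat_lit 66894), Int.ofNat (nat_lit 36420), Int.negSucc (nat_lit 24332), Int.negSucc (nat_lit 17787), Int.negSucc (nat_lit 94829), Int.negSucc (nat_lit 2059), Int.ofNat (nat_lit 52559), Int.ofNat (nat_lit 95003), Int.negSucc (nat_lit 37778), Int.ofNat (nat_lit 22879), Int.ofNat (nat_lit 46829), Int.ofNat (nat_lit 82077), Int.ofNat (nat_lit 24096), Int.ofNat (nat_lit 48725), Int.ofNat (nat_lit 44259), Int.ofNat (nat_lit 60613), Int.negSucc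 (nat_lit 17586), Int.negSucc (nat_lit 89884), Int.ofNat (nat_lit 14212), Int.ofNat (nat_lit 73326), Int.ofNat (nat_lit 0), Int.negSucc (nat_lit 40170), Int.negSucc (nat_lit 26518), Int.ofNat (nat_lit 53185), Int.negSucc (nat_lit 119918), Int.negSucc (nat_lit 8324), Int.negSucc (nat_lit 4488), Int.ofNat (nat_lit 65582), Int.ofNat (nat_lit 10587), Int.ofNat (nat_lit 5068), Int.ofNat (nat_lit 57261), Int.ofNat (nat_lit 95367), Int.negSucc (nat_lit 43718)],
  [Int.ofNat (nat_lit 33058), Int.negSucc (nat_lit 34271), Int.ofNat (nat_lit 13159), Int.ofNat (nat_lit 37491), Int.ofNat (nat_lit 54531), Int.negSucc (nat_lit 9610), Int.ofNat (nat_lit 67933), Int.ofNat (nat_lit 48169), Int.negSucc (nat_lit 14038), Int.negSucc (nat_lit 39090), Int.ofNat (nat_lit 84595), Int.ofNat (nat_lit 4443), Int.ofNat (nat_lit 404), Int.negSucc (nat_lit 4216), Int.ofNat (nat_lit 28689), Int.ofNat (nat_lit 9123), Int.negSucc (nat_lit 72639), Int.negSucc (nat_lit 13106), Int.negSucc (nat_lit 2585), Int.ofNat (nat_lit 22061), Int.ofNat (nat_lit 50771), Int.ofNat (nat_lit 43348), Int.ofNat (nat_lit 66895),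 Int.ofNat (nat_lit 5607), Int.ofNat (nat_lit 24333), Int.ofNat (nat_lit 36420), Int.ofNat (nat_lit 94830), Int.negSucc (nat_lit 17787), Int.negSucc (nat_lit 52558), Int.negSucc (nat_lit 2059), Int.ofNat (nat_lit 37779), Int.ofNat (nat_lit 95003), Int.negSucc (nat_lit 46828), Int.ofNat (nat_lit 22879), Int.negSucc (nat_lit 24095), Int.ofNat (nat_lit 82077), Int.negSucc (nat_lit 44258), Int.ofNat (nat_lit 48725), Int.ofNat (nat_lit 17587), Int.ofNat (nat_lit 60613), Int.negSucc (nat_lit 14211), Int.negSucc (nat_lit 89884), Int.ofNat (nat_lit 0), Int.ofNat (nat_lit 73326), Int.ofNat (nat_lit 26519), Int.negSucc (nat_lit 40170), Int.ofNat (nat_lit 119919), Int.ofNat (nat_lit 53185), Int.ofNat (nat_lit 4489), Int.negSucc (nat_lit 8324), Int.negSucc (nat_lit 10586), Int.ofNat (nat_lit 65582), Int.negSucc (nat_lit 57260), Int.ofNat (nat_lit 5068), Int.ofNat (nat_lit 43719), Int.ofNat (nat_lit 95367)],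
  [Int.ofNat (nat_lit 30734), Int.ofNat (nat_lit 5715), Int.negSucc (nat_lit 15781), Int.ofNat (nat_lit 20769), Int.ofNat (nat_lit 24989), Int.ofNat (nat_lit 26396), Int.negSucc (nat_lit 1823), Int.ofNat (nat_lit 54640), Int.ofNat (nat_lit 16341), Int.negSucc (nat_lit 21828), Int.ofNat (nat_lit 28161), Int.ofNat (nat_lit 47959), Int.ofNat (nat_lit 2456), Int.negSucc (nat_lit 1303), Int.ofNat (nat_lit 5378), Int.ofNat (nat_lit 19019), Int.negSucc (nat_lit 19093), Int.negSucc (nat_lit 44543), Int.negSucc (nat_lit 13021), Int.ofNat (nat_lit 6564), Int.negSucc (nat_lit 5384), Int.ofNat (nat_lit 43495), Int.ofNat (nat_lit 21119), Int.ofNat (nat_lit 38679), Int.negSucc (nat_lit 11155), Int.ofNat (nat_lit 26506), Int.ofNat (nat_lit 44044), Int.ofNat (nat_lit 45520), Int.negSucc (nat_lit 17881), Int.negSucc (nat_lit 29544), Int.negSucc (nat_lit 38390), Int.ofNat (nat_lit 55060), Int.negSucc (nat_lit 29474), Int.negSucc (nat_lit 17383), Int.negSucc (nat_lit 53683), Int.ofNat (nat_lit 16482), Int.negSucc (nat_lit 42703), Int.negSucc (nat_lit 6628), Int.negSucc (nat_lit 26848), Int.ofNat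 (nat_lit 31558), Int.ofNat (nat_lit 44110), Int.negSucc (nat_lit 40292), Int.negSucc (nat_lit 40170), Int.ofNat (nat_lit 26519), Int.ofNat (nat_lit 31602), Int.ofNat (nat_lit 0), Int.ofNat (nat_lit 14232), Int.ofNat (nat_lit 84941), Int.ofNat (nat_lit 6184), Int.negSucc (nat_lit 547), Int.negSucc (nat_lit 39758), Int.ofNat (nat_lit 17918), Int.negSucc (nat_lit 23483), Int.negSucc (nat_lit 29539), Int.negSucc (nat_lit 36441), Int.ofNat (nat_lit 58443)],
  [Int.negSucc (nat_lit 5714), Int.ofNat (nat_lit 30734), Int.negSucc (nat_lit 20768), Int.negSucc (nat_lit 15781), Int.negSucc (nat_lit 26395), Int.ofNat (nat_lit 24989), Int.negSucc (nat_lit 54639), Int.negSucc (nat_lit 1823), Int.ofNat (nat_lit 21829), Int.ofNat (nat_lit 16341), Int.negSucc (nat_lit 47958), Int.ofNat (nat_lit 28161), Int.ofNat (nat_lit 1304), Int.ofNat (nat_lit 2456), Int.negSucc (nat_lit 19018), Int.ofNat (nat_lit 5378), Int.ofNat (nat_lit 44544), Int.negSucc (nat_lit 19093), Int.negSucc (nat_lit 6563), Int.negSucc (nat_lit 13021), Int.negSucc (nat_lit 43494), Int.negSucc (nat_lit 5384), Int.negSucc (nat_lit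 38678), Int.ofNat (nat_lit 21119), Int.negSucc (nat_lit 26505), Int.negSucc (nat_lit 11155), Int.negSucc (nat_lit 45519), Int.ofNat (nat_lit 44044), Int.ofNat (nat_lit 29545), Int.negSucc (nat_lit 17881), Int.negSucc (nat_lit 55059), Int.negSucc (nat_lit 38390), Int.ofNat (nat_lit 17384), Int.negSucc (nat_lit 29474), Int.negSucc (nat_lit 16481), Int.negSucc (nat_lit 53683), Int.ofNat (nat_lit 6629), Int.negSucc (nat_lit 42703), Int.negSucc (nat_lit 31557), Int.negSucc (nat_lit 26848), Int.ofNat (nat_lit 40293), Int.ofNat (nat_lit 44110), Int.negSucc (nat_lit 26518), Int.negSucc (nat_lit 40170), Int.ofNat (nat_lit 0), Int.ofNat (nat_lit 31602), Int.negSucc (nat_lit 84940), Int.ofNat (nat_lit 14232), Int.ofNat (nat_lit 548), Int.ofNat (nat_lit 6184), Int.negSucc (nat_lit 17917), Int.negSucc (nat_lit 39758), Int.ofNat (nat_lit 29540), Int.negSucc (nat_lit 23483), Int.negSucc (nat_lit 58442), Int.negSucc (nat_lit 36441)],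
  [Int.ofNat (nat_lit 29205), Int.negSucc (nat_lit 80035), Int.ofNat (nat_lit 48724), Int.ofNat (nat_lit 51780), Int.ofNat (nat_lit 82207), Int.negSucc (nat_lit 55276), Int.ofNat (nat_lit 146054), Int.ofNat (nat_lit 29515), Int.negSucc (nat_lit 51311), Int.negSucc (nat_lit 53757), Int.ofNat (nat_lit 141607), Int.negSucc (nat_lit 54104), Int.negSucc (nat_lit 2392), Int.negSucc (nat_lit 7197), Int.ofNat (nat_lit 53556), Int.negSucc (nat_lit 5886), Int.negSucc (nat_lit 128344), Int.ofNat (nat_lit 31268), Int.ofNat (nat_lit 11783), Int.ofNat (nat_lit 37956), Int.ofNat (nat_lit 114488), Int.ofNat (nat_lit 34056), Int.ofNat (nat_lit 113489), Int.negSucc (nat_lit 39351), Int.ofNat (nat_lit 66235), Int.ofNat (nat_lit 41929), Int.ofNat (nat_lit 142207), Int.negSucc (nat_lit 97891), Int.negSucc (nat_lit 87479), Int.ofNat (nat_lit 34767), Int.ofNat (nat_lit 130721), Int.ofNat (nat_lit 128008), Int.negSucc (nat_lit 60005), Int.ofNat (nat_lit 71411), Int.ofNat (nat_lit 20127), Int.ofNat (nat_lit 151736), Int.negSucc (nat_lit 37047), Int.ofNat (nat_lit 111804), Int.ofNat (nat_lit 72731),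 Int.ofNat (nat_lit 86388), Int.negSucc (nat_lit 88439), Int.negSucc (nat_lit 136728), Int.ofNat (nat_lit 53185), Int.ofNat (nat_lit 119919), Int.ofNat (nat_lit 14232), Int.negSucc (nat_lit 84940), Int.ofNat (nat_lit 234748), Int.ofNat (nat_lit 0), Int.ofNat (nat_lit 1315), Int.negSucc (nat_lit 16869), Int.ofNat (nat_lit 30252), Int.ofNat (nat_lit 114955), Int.negSucc (nat_lit 89984), Int.ofNat (nat_lit 49812), Int.ofNat (nat_lit 140687), Int.ofNat (nat_lit 124293)],
  [Int.ofNat (nat_lit 80036), Int.ofNat (nat_lit 29205), Int.negSucc (nat_lit 51779), Int.ofNat (nat_lit 48724), Int.ofNat (nat_lit 55277), Int.ofNat (nat_lit 82207), Int.negSucc (nat_lit 29514), Int.ofNat (nat_lit 146054), Int.ofNat (nat_lit 53758), Int.negSucc (nat_lit 51311), Int.ofNat (nat_lit 54105), Int.ofNat (nat_lit 141607), Int.ofNat (nat_lit 7198), Int.negSucc (nat_lit 2392), Int.ofNat (nat_lit 5887), Int.ofNat (nat_lit 53556), Int.negSucc (nat_lit 31267), Int.negSucc (nat_lit 128344), Int.negSucc (nat_lit 37955), Int.ofNat (nat_lit 11783), Int.negSucc (nat_lit 34055), Int.ofNat (nat_lit 114488), Int.ofNat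 (nat_lit 39352), Int.ofNat (nat_lit 113489), Int.negSucc (nat_lit 41928), Int.ofNat (nat_lit 66235), Int.ofNat (nat_lit 97892), Int.ofNat (nat_lit 142207), Int.negSucc (nat_lit 34766), Int.negSucc (nat_lit 87479), Int.negSucc (nat_lit 128007), Int.ofNat (nat_lit 130721), Int.negSucc (nat_lit 71410), Int.negSucc (nat_lit 60005), Int.negSucc (nat_lit 151735), Int.ofNat (nat_lit 20127), Int.negSucc (nat_lit 111803), Int.negSucc (nat_lit 37047), Int.negSucc (nat_lit 86387), Int.ofNat (nat_lit 72731), Int.ofNat (nat_lit 136729), Int.negSucc (nat_lit 88439), Int.negSucc (nat_lit 119918), Int.ofNat (nat_lit 53185), Int.ofNat (nat_lit 84941), Int.ofNat (nat_lit 14232), Int.ofNat (nat_lit 0), Int.ofNat (nat_lit 234748), Int.ofNat (nat_lit 16870), Int.ofNat (nat_lit 1315), Int.negSucc (nat_lit 114954), Int.ofNat (nat_lit 30252), Int.negSucc (nat_lit 49811), Int.negSucc (nat_lit 89984), Int.negSucc (nat_lit 124292), Int.ofNat (nat_lit 140687)],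
  [Int.ofNat (nat_lit 5914), Int.ofNat (nat_lit 1652), Int.negSucc (nat_lit 3448), Int.ofNat (nat_lit 3791), Int.ofNat (nat_lit 4426), Int.ofNat (nat_lit 5600), Int.negSucc (nat_lit 1306), Int.ofNat (nat_lit 10665), Int.ofNat (nat_lit 3579), Int.negSucc (nat_lit 3989), Int.ofNat (nat_lit 4684), Int.ofNat (nat_lit 9876), Int.ofNat (nat_lit 503), Int.negSucc (nat_lit 212), Int.ofNat (nat_lit 724), Int.ofNat (nat_lit 3815), Int.negSucc (nat_lit 2969), Int.negSucc (nat_lit 9043), Int.negSucc (nat_lit 2659), Int.ofNat (nat_lit 1058), Int.negSucc (nat_lit 1809), Int.ofNat (nat_lit 8415), Int.ofNat (nat_lit 3462), Int.ofNat (nat_lit 7941), Int.negSucc (nat_lit 2640), Int.ofNat (nat_lit 4997), Int.ofNat (nat_lit 7826), Int.ofNat (nat_lit 9672), Int.negSucc (nat_lit 2991), Int.negSucc (nat_lit 6090), Int.negSucc (nat_lit 8467), Int.ofNat (nat_lit 10114), Int.negSucc (nat_lit 5467), Int.negSucc (nat_lit 3909), Int.negSucc (nat_lit 10793), Int.ofNat (nat_lit 2294), Int.negSucc (nat_lit 8245), Int.negSucc (nat_lit 2037), Int.negSucc (nat_lit 5801), Int.ofNat (nat_lit 5712), Int.ofNat (nat_lit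 9336), Int.negSucc (nat_lit 7125), Int.negSucc (nat_lit 8324), Int.ofNat (nat_lit 4489), Int.ofNat (nat_lit 6184), Int.ofNat (nat_lit 548), Int.ofNat (nat_lit 1315), Int.ofNat (nat_lit 16870), Int.ofNat (nat_lit 1226), Int.ofNat (nat_lit 0), Int.negSucc (nat_lit 8093), Int.ofNat (nat_lit 2814), Int.negSucc (nat_lit 4084), Int.negSucc (nat_lit 6192), Int.negSucc (nat_lit 8148), Int.ofNat (nat_lit 10811)],
  [Int.negSucc (nat_lit 1651), Int.ofNat (nat_lit 5914), Int.negSucc (nat_lit 3790), Int.negSucc (nat_lit 3448), Int.negSucc (nat_lit 5599), Int.ofNat (nat_lit 4426), Int.negSucc (nat_lit 10664), Int.negSucc (nat_lit 1306), Int.ofNat (nat_lit 3990), Int.ofNat (nat_lit 3579), Int.negSucc (nat_lit 9875), Int.ofNat (nat_lit 4684), Int.ofNat (nat_lit 213), Int.ofNat (nat_lit 503), Int.negSucc (nat_lit 3814), Int.ofNat (nat_lit 724), Int.ofNat (nat_lit 9044), Int.negSucc (nat_lit 2969), Int.negSucc (nat_lit 1057), Int.negSucc (nat_lit 2659), Int.negSucc (nat_lit 8414), Int.negSucc (nat_lit 1809), Int.negSucc (nat_lit 7940), Int.ofNat (nat_lit 3462), Int.negSucc (nat_lit 4996), Int.negSucc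 (nat_lit 2640), Int.negSucc (nat_lit 9671), Int.ofNat (nat_lit 7826), Int.ofNat (nat_lit 6091), Int.negSucc (nat_lit 2991), Int.negSucc (nat_lit 10113), Int.negSucc (nat_lit 8467), Int.ofNat (nat_lit 3910), Int.negSucc (nat_lit 5467), Int.negSucc (nat_lit 2293), Int.negSucc (nat_lit 10793), Int.ofNat (nat_lit 2038), Int.negSucc (nat_lit 8245), Int.negSucc (nat_lit 5711), Int.negSucc (nat_lit 5801), Int.ofNat (nat_lit 7126), Int.ofNat (nat_lit 9336), Int.negSucc (nat_lit 4488), Int.negSucc (nat_lit 8324), Int.negSucc (nat_lit 547), Int.ofNat (nat_lit 6184), Int.negSucc (nat_lit 16869), Int.ofNat (nat_lit 1315), Int.ofNat (nat_lit 0), Int.ofNat (nat_lit 1226), Int.negSucc (nat_lit 2813), Int.negSucc (nat_lit 8093), Int.ofNat (nat_lit 6193), Int.negSucc (nat_lit 4084), Int.negSucc (nat_lit 10810), Int.negSucc (nat_lit 8148)],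
  [Int.negSucc (nat_lit 35426), Int.negSucc (nat_lit 24617), Int.ofNat (nat_lit 31636), Int.negSucc (nat_lit 17188), Int.negSucc (nat_lit 16470), Int.negSucc (nat_lit 47387), Int.ofNat (nat_lit 33276), Int.negSucc (nat_lit 67720), Int.negSucc (nat_lit 32938), Int.ofNat (nat_lit 18200), Int.negSucc (nat_lit 8251), Int.negSucc (nat_lit 76314), Int.negSucc (nat_lit 3835), Int.ofNat (nat_lit 244), Int.ofNat (nat_lit 4018), Int.negSucc (nat_lit 26986), Int.negSucc (nat_lit 1227), Int.ofNat (nat_lit 66875), Int.ofNat (nat_lit 20103), Int.negSucc (nat_lit 876), Int.ofNat (nat_lit 31434), Int.negSucc (nat_lit 51671), Int.negSucc (nat_lit 4650), Int.negSucc (nat_lit 60649), Int.ofNat (nat_lit 29066), Int.negSucc (nat_lit 27034), Int.negSucc (nat_lit 29608), Int.negSucc (nat_lit 82259), Int.ofNat (nat_lit 5756), Int.ofNat (nat_lit 47315), Int.ofNat (nat_lit 79531), Int.negSucc (nat_lit 47521), Int.ofNat (nat_lit 27238), Int.ofNat (nat_lit 38584), Int.ofNat (nat_lit 76902), Int.ofNat (nat_lit 9697), Int.ofNat (nat_lit 49975), Int.ofNat (nat_lit 32547), Int.ofNat (nat_lit 51678), Int.negSucc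 (nat_lit 24481), Int.negSucc (nat_lit 78354), Int.ofNat (nat_lit 25694), Int.ofNat (nat_lit 65582), Int.negSucc (nat_lit 10586), Int.negSucc (nat_lit 39758), Int.negSucc (nat_lit 17917), Int.ofNat (nat_lit 30252), Int.negSucc (nat_lit 114954), Int.negSucc (nat_lit 8093), Int.negSucc (nat_lit 2813), Int.ofNat (nat_lit 60202), Int.ofNat (nat_lit 0), Int.ofNat (nat_lit 12798), Int.ofNat (nat_lit 50486), Int.ofNat (nat_lit 78997), Int.negSucc (nat_lit 52883)],
  [Int.ofNat (nat_lit 24618), Int.negSucc (nat_lit 35426), Int.ofNat (nat_lit 17189), Int.ofNat (nat_lit 31636), Int.ofNat (nat_lit 47388), Int.negSucc (nat_lit 16470), Int.ofNat (nat_lit 67721), Int.ofNat (nat_lit 33276), Int.negSucc (nat_lit 18199), Int.negSucc (nat_lit 32938), Int.ofNat (nat_lit 76315), Int.negSucc (nat_lit 8251), Int.negSucc (nat_lit 243), Int.negSucc (nat_lit 3835), Int.ofNat (nat_lit 26987), Int.ofNat (nat_lit 4018), Int.negSucc (nat_lit 66874), Int.negSucc (nat_lit 1227), Int.ofNat (nat_lit 877), Int.ofNat (nat_lit 20103), Int.ofNat (nat_lit 51672), Int.ofNat (nat_lit 31434), Int.ofNat (nat_lit 60650),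 Int.negSucc (nat_lit 4650), Int.ofNat (nat_lit 27035), Int.ofNat (nat_lit 29066), Int.ofNat (nat_lit 82260), Int.negSucc (nat_lit 29608), Int.negSucc (nat_lit 47314), Int.ofNat (nat_lit 5756), Int.ofNat (nat_lit 47522), Int.ofNat (nat_lit 79531), Int.negSucc (nat_lit 38583), Int.ofNat (nat_lit 27238), Int.negSucc (nat_lit 9696), Int.ofNat (nat_lit 76902), Int.negSucc (nat_lit 32546), Int.ofNat (nat_lit 49975), Int.ofNat (nat_lit 24482), Int.ofNat (nat_lit 51678), Int.negSucc (nat_lit 25693), Int.negSucc (nat_lit 78354), Int.ofNat (nat_lit 10587), Int.ofNat (nat_lit 65582), Int.ofNat (nat_lit 17918), Int.negSucc (nat_lit 39758), Int.ofNat (nat_lit 114955), Int.ofNat (nat_lit 30252), Int.ofNat (nat_lit 2814), Int.negSucc (nat_lit 8093), Int.ofNat (nat_lit 0), Int.ofNat (nat_lit 60202), Int.negSucc (nat_lit 50485), Int.ofNat (nat_lit 12798), Int.ofNat (nat_lit 52884), Int.ofNat (nat_lit 78997)],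
  [Int.negSucc (nat_lit 28182), Int.ofNat (nat_lit 24482), Int.negSucc (nat_lit 7688), Int.negSucc (nat_lit 30187), Int.negSucc (nat_lit 43244), Int.ofNat (nat_lit 3737), Int.negSucc (nat_lit 49726), Int.negSucc (nat_lit 42311), Int.ofNat (nat_lit 8263), Int.ofNat (nat_lit 31501), Int.negSucc (nat_lit 65762), Int.negSucc (nat_lit 9307), Int.negSucc (nat_lit 605), Int.ofNat (nat_lit 3268), Int.negSucc (nat_lit 21778), Int.negSucc (nat_lit 9103), Int.ofNat (nat_lit 55829), Int.ofNat (nat_lit 15244), Int.ofNat (nat_lit 3541), Int.negSucc (nat_lit 17047), Int.negSucc (nat_lit 36653), Int.negSucc (nat_lit 37354), Int.negSucc (nat_lit 51856), Int.negSucc (nat_lit 8999), Int.negSucc (nat_lit 16492), Int.negSucc (nat_lit 30122), Int.negSucc (nat_lit 75284), Int.ofNat (nat_lit 7346), Int.ofNat (nat_lit 40909), Int.ofNat (nat_lit 5233), Int.negSucc (nat_lit 22949), Int.negSucc (nat_lit 76806), Int.ofNat (nat_lit 38151), Int.negSucc (nat_lit 14639), Int.ofNat (nat_lit 24485), Int.negSucc (nat_lit 62435), Int.ofNat (nat_lit 37931), Int.negSucc (nat_lit 34996), Int.negSucc (nat_lit 9548),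 Int.negSucc (nat_lit 48552), Int.ofNat (nat_lit 4892), Int.ofNat (nat_lit 71185), Int.ofNat (nat_lit 5068), Int.negSucc (nat_lit 57260), Int.negSucc (nat_lit 23483), Int.ofNat (nat_lit 29540), Int.negSucc (nat_lit 89984), Int.negSucc (nat_lit 49811), Int.negSucc (nat_lit 4084), Int.ofNat (nat_lit 6193), Int.ofNat (nat_lit 12798), Int.negSucc (nat_lit 50485), Int.ofNat (nat_lit 45074), Int.ofNat (nat_lit 0), Int.negSucc (nat_lit 27558), Int.negSucc (nat_lit 77503)],
  [Int.negSucc (nat_lit 24481), Int.negSucc (nat_lit 28182), Int.ofNat (nat_lit 30188), Int.negSucc (nat_lit 7688), Int.negSucc (nat_lit 3736), Int.negSucc (nat_lit 43244), Int.ofNat (nat_lit 42312), Int.negSucc (nat_lit 49726), Int.negSucc (nat_lit 31500), Int.ofNat (nat_lit 8263), Int.ofNat (nat_lit 9308), Int.negSucc (nat_lit 65762), Int.negSucc (nat_lit 3267), Int.negSucc (nat_lit 605), Int.ofNat (nat_lit 9104), Int.negSucc (nat_lit 21778), Int.negSucc (nat_lit 15243), Int.ofNat (nat_lit 55829), Int.ofNat (nat_lit 17048), Int.ofNat (nat_lit 3541), Int.ofNat (nat_lit 37355), Int.negSucc (nat_lit 36653), Int.ofNat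 (nat_lit 9000), Int.negSucc (nat_lit 51856), Int.ofNat (nat_lit 30123), Int.negSucc (nat_lit 16492), Int.negSucc (nat_lit 7345), Int.negSucc (nat_lit 75284), Int.negSucc (nat_lit 5232), Int.ofNat (nat_lit 40909), Int.ofNat (nat_lit 76807), Int.negSucc (nat_lit 22949), Int.ofNat (nat_lit 14640), Int.ofNat (nat_lit 38151), Int.ofNat (nat_lit 62436), Int.ofNat (nat_lit 24485), Int.ofNat (nat_lit 34997), Int.ofNat (nat_lit 37931), Int.ofNat (nat_lit 48553), Int.negSucc (nat_lit 9548), Int.negSucc (nat_lit 71184), Int.ofNat (nat_lit 4892), Int.ofNat (nat_lit 57261), Int.ofNat (nat_lit 5068), Int.negSucc (nat_lit 29539), Int.negSucc (nat_lit 23483), Int.ofNat (nat_lit 49812), Int.negSucc (nat_lit 89984), Int.negSucc (nat_lit 6192), Int.negSucc (nat_lit 4084), Int.ofNat (nat_lit 50486), Int.ofNat (nat_lit 12798), Int.ofNat (nat_lit 0), Int.ofNat (nat_lit 45074), Int.ofNat (nat_lit 77504), Int.negSucc (nat_lit 27558)],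
  [Int.negSucc (nat_lit 24870), Int.negSucc (nat_lit 63429), Int.ofNat (nat_lit 56618), Int.ofNat (nat_lit 5235), Int.ofNat (nat_lit 20010), Int.negSucc (nat_lit 76650), Int.ofNat (nat_lit 103166), Int.negSucc (nat_lit 59641), Int.negSucc (nat_lit 59219), Int.negSucc (nat_lit 5051), Int.ofNat (nat_lit 56218), Int.negSucc (nat_lit 107407), Int.negSucc (nat_lit 5246), Int.negSucc (nat_lit 3045), Int.ofNat (nat_lit 28979), Int.negSucc (nat_lit 31886), Int.negSucc (nat_lit 60355), Int.ofNat (nat_lit 86695), Int.ofNat (nat_lit 27155), Int.ofNat (nat_lit 16508), Int.ofNat (nat_lit 86645), Int.negSucc (nat_lit 40200), Int.ofNat (nat_lit 47185), Int.negSucc (nat_lit 83677), Int.ofNat (nat_lit 61897), Int.negSucc (nat_lit 9944), Int.ofNat (nat_lit 33401), Int.negSucc (nat_lit 133959), Int.negSucc (nat_lit 34013), Int.ofNat (nat_lit 67158), Int.ofNat (nat_lit 146125), Int.ofNat (nat_lit 7501), Int.ofNat (nat_lit 1852), Int.ofNat (nat_lit 74568), Int.ofNat (nat_lit 92403), Int.ofNat (nat_lit 80285), Int.ofNat (nat_lit 36995), Int.ofNat (nat_lit 86625), Int.ofNat (nat_lit 89331), Int.ofNat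 (nat_lit 13266), Int.negSucc (nat_lit 125406), Int.negSucc (nat_lit 35117), Int.ofNat (nat_lit 95367), Int.ofNat (nat_lit 43719), Int.negSucc (nat_lit 36441), Int.negSucc (nat_lit 58442), Int.ofNat (nat_lit 140687), Int.negSucc (nat_lit 124292), Int.negSucc (nat_lit 8148), Int.negSucc (nat_lit 10810), Int.ofNat (nat_lit 78997), Int.ofNat (nat_lit 52884), Int.negSucc (nat_lit 27558), Int.ofNat (nat_lit 77504), Int.ofNat (nat_lit 150136), Int.ofNat (nat_lit 0)],
  [Int.ofNat (nat_lit 63430), Int.negSucc (nat_lit 24870), Int.negSucc (nat_lit 5234), Int.ofNat (nat_lit 56618), Int.ofNat (nat_lit 76651), Int.ofNat (nat_lit 20010), Int.ofNat (nat_lit 59642), Int.ofNat (nat_lit 103166), Int.ofNat (nat_lit 5052), Int.negSucc (nat_lit 59219), Int.ofNat (nat_lit 107408), Int.ofNat (nat_lit 56218), Int.ofNat (nat_lit 3046), Int.negSucc (nat_lit 5246), Int.ofNat (nat_lit 31887), Int.ofNat (nat_lit 28979), Int.negSucc (nat_lit 86694), Int.negSucc (nat_lit 60355), Int.negSucc (nat_lit 16507), Int.ofNat (nat_lit 27155), Int.ofNat (nat_lit 40201), Int.ofNat (nat_lit 86645), Int.ofNat (nat_lit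 83678), Int.ofNat (nat_lit 47185), Int.ofNat (nat_lit 9945), Int.ofNat (nat_lit 61897), Int.ofNat (nat_lit 133960), Int.ofNat (nat_lit 33401), Int.negSucc (nat_lit 67157), Int.negSucc (nat_lit 34013), Int.negSucc (nat_lit 7500), Int.ofNat (nat_lit 146125), Int.negSucc (nat_lit 74567), Int.ofNat (nat_lit 1852), Int.negSucc (nat_lit 80284), Int.ofNat (nat_lit 92403), Int.negSucc (nat_lit 86624), Int.ofNat (nat_lit 36995), Int.negSucc (nat_lit 13265), Int.ofNat (nat_lit 89331), Int.ofNat (nat_lit 35118), Int.negSucc (nat_lit 125406), Int.negSucc (nat_lit 43718), Int.ofNat (nat_lit 95367), Int.ofNat (nat_lit 58443), Int.negSucc (nat_lit 36441), Int.ofNat (nat_lit 124293), Int.ofNat (nat_lit 140687), Int.ofNat (nat_lit 10811), Int.negSucc (nat_lit 8148), Int.negSucc (nat_lit 52883), Int.ofNat (nat_lit 78997), Int.negSucc (nat_lit 77503), Int.negSucc (nat_lit 27558), Int.ofNat (nat_lit 0), Int.ofNat (nat_lit 150136)]]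

def WL : List (ℕ × List ℕ) := [(6, [4, 4, 4, 3, 4, 4, 4, 4, 2, 0, 0]),
  (3, [4, 3, 1, 0]),
  (4, [3, 4, 4, 2, 0]),
  (15, [4, 4, 3, 4, 4, 1]),
  (17, [4, 4, 4, 4, 4, 3, 4, 1, 2]),
  (8, [4, 3, 4, 4]),
  (17, [3, 4, 0]),
  (7, [4, 4, 3, 4, 4, 2, 1]),
  (1, [3, 4, 4, 4, 0]),
  (0, [4, 3, 2, 0]),
  (15, [4, 4, 4, 4, 4, 4, 3, 4, 1]),
  (0, [4, 4, 3, 1, 0]),
  (16, [4, 4, 3, 4, 4, 2, 1, 0]),
  (9, [4, 4, 4, 4, 3, 4, 4, 4, 4, 1, 0, 0, 0]),
  (16, [3, 4, 4, 3, 4]),
  (3, [4, 4, 3, 4, 4, 4, 4, 2]),
  (0, [4, 4, 4, 1, 2, 0]),
  (11, [3, 4, 4, 4, 4, 1, 0, 0]),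
  (0, [4, 4, 4, 4, 4, 4]),
  (0, [4, 4, 4, 4, 3, 1, 0]),
  (0, [4, 4, 4, 4, 1, 2, 0]),
  (3, [4, 3, 4, 3]),
  (0, [4, 4, 4, 4, 4, 3, 1, 0]),
  (5, [3, 4, 4, 3, 4, 0, 0, 0]),
  (10, [3, 4, 4, 3, 4, 0, 0]),
  (6, [4, 4, 4, 4, 4, 4, 3, 0, 0, 0]),
  (0, [4, 4, 4, 4, 4, 4, 1, 2, 0]),
  (0, [4, 4, 4, 4, 4, 4, 3, 2, 0])]

def TabT : List T := [(t4 (nat_lit 1) (nat_lit 0)),
  (t1 (nat_lit 0x40001001001001001040001000000000000001040001001000000000000000000000000001001001040) (nat_lit 0x1000000001000000000000000000001000000000000000000000000000000000000000000040)),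
  (t1 (nat_lit 0x40001001001001001040001000000000000001040001001000000000000000000000000001001001040) (nat_lit 0x40001001000000000040000000000000000000000001000000000000000000000000000001001000040)),
  (t1 (nat_lit 0x40001001001001001040001000000000000001040001001000000000000000000000000001001001040) (nat_lit 0x1000000001001040000000000000000000040000000000000000000000000000000001000001040)),
  (t1 (nat_lit 0x40001001001001001040001000000000000001040001001000000000000000000000000001001001040) (nat_lit 0x40000000000001000000000000000000000001040001000000000000000000000000000000001001040)),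
  (t1 (nat_lit 0x1000001000000001001000000001000001001001000000000000001001001000000001001001001001) (nat_lit 0x1000000000000000001000000001000000000001000000000000001000001000000000000000000000)),
  (t1 (nat_lit 0x40000001040000000001001000040000000000040001040001000000000040001000001001001001) (nat_lit 0x1000000000001001000000000000000000001000001000000000000001000000000000000)),
  (t1 (nat_lit 0x1000040001000000040040000001000000000001040001040000000000001040000001001001001) (nat_lit 0x1000000001000000000000000001000000000001000001000000000000001000000000000000000)),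
  (t1 (nat_lit 0x1000040000040040000000040000040000000040001001040000000000040001000001001001001) (nat_lit 0x1000040000040040000000040000040000000040001000000000000000000000000001001000000)),
  (t1 (nat_lit 0x40000001000001001000000001000001000000001040040001000000000001040000001001001001) (nat_lit 0x40000001000001000000000000000001000000000000040001000000000001040000001001000000)),
  (t1 (nat_lit 0x40000040000001000000040040000001000001001000000000000040040001000000001001001001001) (nat_lit 0x40000000000001000000000000000001000000000000000000000000040000000000000001001000000)),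
  (t1 (nat_lit 0x1000001000040000000001001000040000040040000000000000001001040000000040001001001001) (nat_lit 0x40000000000000000040000040000000000000000000000000000000040001001000000)),
  (t1 (nat_lit 0x40000001001000000040040000001000040040000000040001000000040000000040001001001001) (nat_lit 0x40000001001000000040000000000000040040000000000000000000040000000040001000001000)),
  (t1 (nat_lit 0x1000040040000000001001000040000001001000000001040000000001000000001001001001001) (nat_lit 0x40000000001001000040000001000000000001040000000000000000001001000001000)),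
  (t1 (nat_lit 0x1000001000000040040000000040000040000000001040000000001001000001040000001001001001) (nat_lit 0x40000000000000040000000001000000000000000000001000000001000001000)),
  (t1 (nat_lit 0x40000040000000001001000000001000001000000040001000000040040000040001000001001001001) (nat_lit 0x40000000000000000000000000000000000040000000000000040000040000000001000001000)),
  (t1 (nat_lit 0x40000040000040000000001001000040000000000001040000000040040000001040000001001001001) (nat_lit 0x40000040000040000000001000000000000000000001040000000040040000000000000000001001000)),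
  (t1 (nat_lit 0x1000001000001000000040040000001000000000040001000000001001000040001000001001001001) (nat_lit 0x1000000000000000040000001000000000040001000000000001000040001000000001001000)),
  (t1 (nat_lit 0x1000040000001001000000001000001040040000000001040000000040000000040001001001001) (nat_lit 0x1000000000000000000000000000000000040000000001000000000000000000040000001001000)),
  (t1 (nat_lit 0x40000001000040040000000040000040001001000000040001000000001000000001001001001001) (nat_lit 0x40000000000040000000000000000040000000000000040000000000000000000000000001001000))]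

def Op1 : List T := [(t1 (nat_lit 0x40000040000040000000001000040000040040040000000000000001001000001040000040001001040) (nat_lit 0x40000000000040000000001000000000000000000000000000000000000000000000000040000001040)),
  (t1 (nat_lit 0x1000001000001000000040000001000001001001000000000000040040000040001000001040040001) (nat_lit 0x1000000000000040000001000001001001000000000000000000000000001000000000040000)),
  (t1 (nat_lit 0x40040040001001040040040040040001040000000000000040001040040000000000000000000000000) (nat_lit 0x40000040000001040000000040040000000000000000000000000000000000000000000000000000000)),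
  (t1 (nat_lit 0x1001001040040001001001001001040001000000000000001040001001000000000000000000000000) (nat_lit 0x1000000040000001001000000000001000000000000001000001001000000000000000000000000)),
  (t1 (nat_lit 0x40040040001001040040040001001040001000000000000001040001001000000000000) (nat_lit 0x40001000000040040001000000000000000000000000040001001000000000000)),
  (t1 (nat_lit 0x1001001040040001001001040040001040000000000000040001040040000000000000) (nat_lit 0x1001000040000001000000040000001000000000000000000000040040000000000000)),
  (t1 (nat_lit 0x40001000000040040000040001000001001001001040000040000000001001000000001000001) (nat_lit 0x1000000000040000040000000001000001000040000000000000000000000000001000001)),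
  (t1 (nat_lit 0x1040000000001001000001040000040040040040001000001000000040040000000040000040) (nat_lit 0x1040000000001000000000000000040000040000000000001000000000000000000040000040)),
  (t1 (nat_lit 0x1001000001000040000040040000000001040000000001000000001001040001040001000001000) (nat_lit 0x1000000000000000000000001000000000001000000000001000001040001000001000)),
  (t1 (nat_lit 0x40040000040000001000001001000000040001000000040000000040040001040001040000040000) (nat_lit 0x40000001000001001000000040001000000040000000000040001040000040000040000)),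
  (t1 (nat_lit 0x40001000000040000000040001001040040001000001000040000000001040000001000000000040001) (nat_lit 0x1000000000000000040001000040040000000000000040000000001000000000000000000040000)),
  (t1 (nat_lit 0x1040000000001000000001040040001001040000040000001000000040001000040000000000001040) (nat_lit 0x1040000000001000000000040000000000000000000000000000000040001000000000000000000000)),
  (t1 (nat_lit 0x40040001001000040000001000040040000000001000001000000001040000000001001001000000001) (nat_lit 0x40040000001000040000001000000040000000001000001000000000000000000000001000000000001)),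
  (t1 (nat_lit 0x1001040040000001000040000001001000000040000040000000040001000000040040040000000040) (nat_lit 0x40000000000040000001000000000040000040000000000001000000000040000000000040)),
  (t1 (nat_lit 0x1001000000000000001001040000000040001040001040000001000040000001001000001000040000) (nat_lit 0x1001000000000000001000040000000000001040000040000001000040000000001000001000040000)),
  (t1 (nat_lit 0x40040000000000000040040001000000001040001040001000040000001000040040000040000001000) (nat_lit 0x40040000000000000040000000000000001040000000000000040000000000000040000040000000000)),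
  (t1 (nat_lit 0x40040040001040001001001040040001040000000000000001040001001) (nat_lit 0x40000000001000000000001000000001040000000000000001000000000)),
  (t1 (nat_lit 0x1001001040001040040040001001040001000000000000040001040040) (nat_lit 0x1001040001000000040001001040000000000000000040001000000)),
  (t4 (nat_lit 0x1000000000000000000000000000000000000000000000000000000000000000000000000000000000) (nat_lit 0x1000000000000000000000000000000000000000000000000000000000000000000000000000000000)),
  (t4 (nat_lit 0x40000000000000000000000000000000000000000000000000000000000000000000000000000000000) (nat_lit 0x40000000000000000000000000000000000000000000000000000000000000000000000000000000000)),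
  (t1 (nat_lit 0x40000040000000001001000000001000001000000040001000000040040000040001000001001001001) (nat_lit 0x40000000001001000000000000000000000000001000000040000000040000000001000001000)),
  (t1 (nat_lit 0x1000001000000040040000000040000040000000001040000000001001000001040000040040040040) (nat_lit 0x1000000000000040040000000000000000000000001040000000000001000000000000040000040000)),
  (t4 (nat_lit 0x40000000000000000000000000000000000000000000000000000000000000) (nat_lit 0)),
  (t4 (nat_lit 0x1000000000000000000000000000000000000000000000000000000000000) (nat_lit 0x1000000000000000000000000000000000000000000000000000000000000)),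
  (t1 (nat_lit 0x40040000000001040000000001000000001040001040001001000001000000001001000001000040000) (nat_lit 0x40000000000001040000000000000000000000000000001000000001000000001000000001000040000)),
  (t1 (nat_lit 0x1001000000040001000000040000000040001040001040040000040000000040040000040000001000) (nat_lit 0x1000000040000000000000000000000001000001040000000040000000040000000040000000000)),
  (t1 (nat_lit 0x40040040040000001000040000040040000000040000040000000040001001040000000000040001000) (nat_lit 0x40040000000000040000040000000000040000000000000040000001000000000000040000000)),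
  (t1 (nat_lit 0x1001001001000040000001000001001000000001000001000000001040040001000000000001040000) (nat_lit 0x1001000000000000000000000000001000000000000001000000000000040001000000000000000000)),
  (t1 (nat_lit 0x1001001000000001001001040040000040000001000040040000000001000001000000001040) (nat_lit 0x1001001000000001001001040000000040000000000040040000000001000000000000001000)),
  (t1 (nat_lit 0x40040040000000040040040001001000001000040000001001000000040000040000000040001) (nat_lit 0x40040040000000040040040000001000000000000000000000000000040000000000000040001)),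
  (t1 (nat_lit 0x40040001040000000000000040001040040000000000000000000000000001001001040040001001001) (nat_lit 0x40040000000000000000000000001040000000000000000000000000000000000000040040000000000)),
  (t1 (nat_lit 0x1001040001000000000000001040001001000000000000000000000000040040040001001040040040) (nat_lit 0x1000000000000001040000001000000000000000000000000000000000000000000000000)),
  (t4 (nat_lit 0x1000000000000000000000000000000000000000000000000000000) (nat_lit 0)),
  (t4 (nat_lit 0x40000000000000000000000000000000000000000000000000000000) (nat_lit 0)),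
  (t1 (nat_lit 0x40040000000000000001001040000000040001001001001001000001000040000000001001000040000) (nat_lit 0x40000000000000001001000000000040000000001001000000000000040000000000001000000000)),
  (t1 (nat_lit 0x1001000000000000040040001000000001040040040040040000040000001000000040040000001000) (nat_lit 0x1000000000000000040040001000000000000000040040000000000000000000000000040000001000)),
  (t4 (nat_lit 0x40000000000000000) (nat_lit 0)),
  (t4 (nat_lit 0x1000000000000000) (nat_lit 0x1000000000000000)),
  (t4 (nat_lit 0x40000000000000000000000000000000000000) (nat_lit 0)),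
  (t4 (nat_lit 0x1000000000000000000000000000000000000) (nat_lit 0x1000000000000000000000000000000000000)),
  (t4 (nat_lit 0x1000000000000000000000000000000000000000000) (nat_lit 0)),
  (t4 (nat_lit 0x40000000000000000000000000000000000000000000) (nat_lit 0)),
  (t1 (nat_lit 0x1001001040001040040040001001040001000000000000040001040040000000000000) (nat_lit 0x1001000040000000000000001000040001000000000000040001040040000000000000)),
  (t1 (nat_lit 0x40040040001040001001001040040001040000000000000001040001001000000000000) (nat_lit 0x40040000000000001001001040000000040000000000000000040000000000000000000)),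
  (t4 (nat_lit 0x40000000000000000000000000) (nat_lit 0)),
  (t4 (nat_lit 0x1000000000000000000000000) (nat_lit 0x1000000000000000000000000)),
  (t1 (nat_lit 0x1001000040001000040040001001000040000001040000000001040000001000040040000000) (nat_lit 0x1000000000000000040000001001000000000000000000000001000000001000000000000000)),
  (t1 (nat_lit 0x40040000001040000001001040040000001000040001000000040001000040000001001000000) (nat_lit 0x40000000001000000000001040040000001000000001000000040001000040000001001000000)),
  (t1 (nat_lit 0x1001000001040000001001040040000040000001000001001000000040000040001001000000) (nat_lit 0x1000001040000000001000000000000000000000000000000000000000040001000000000)),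
  (t1 (nat_lit 0x40040000040001000040040001001000001000040000040040000000001000001040040000000) (nat_lit 0x40000040000000000040001001000001000000000000000000000001000000040000000000)),
  (t1 (nat_lit 0x1001000000040000040000000001040040001000000001000000001040040001001001000001000) (nat_lit 0x1000000000000000000000000000040040000000000001000000001040000001001000000000000)),
  (t1 (nat_lit 0x40040000000001000001000000040001001040000000040000000040001001040040040000040000) (nat_lit 0x40000000000001000001000000000000000000000000040000000040000001040040000000000000)),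
  (t4 (nat_lit 0x1000000000000000000) (nat_lit 0)),
  (t4 (nat_lit 0x40000000000000000000) (nat_lit 0)),
  (t4 (nat_lit 0x1000000000000000000000) (nat_lit 0x1000000000000000000000)),
  (t4 (nat_lit 0x40000000000000000000000) (nat_lit 0x40000000000000000000000))]

def Op2 : List T := [(t1 (nat_lit 0x40000001040000000001001000040000000000040001040001000000000040001000001001001001) (nat_lit 0x1000000000001000000040000000000040000040000000000000000001000001001001001)),
  (t1 (nat_lit 0x1000040001000000040040000001000000000001040001040000000000001040000040040040040) (nat_lit 0x1000040001000000040000000000000000000000000000000000000000001040000040040040040)),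
  (t1 (nat_lit 0x40040040001001040040040001001040001000000000000001040001001000000000000000000000000) (nat_lit 0x40040040001000000000000000000000001000000000000000000001000000000000000000000000000)),
  (t1 (nat_lit 0x1001001040040001001001040040001040000000000000040001040040000000000000000000000000) (nat_lit 0x40000001001001000000001040000000000000000001040000000000000000000000000000)),
  (t1 (nat_lit 0x40040040001001040040040040040001040000000000000040001040040000000000000) (nat_lit 0x40040000001040040040040000001000000000000000000001000040000000000000)),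
  (t1 (nat_lit 0x1001001040040001001001001001040001000000000000001040001001000000000000) (nat_lit 0x1000000000040000000000000001040001000000000000001040001000000000000000)),
  (t1 (nat_lit 0x40040000000001040000000000001040000040001001040000040000001000001001000040000001000) (nat_lit 0x1000000000000000000000040001001000000000000001000000001000000000000000)),
  (t1 (nat_lit 0x1001000000040001000000000040001000001040040001000001000040000040040000001000040000) (nat_lit 0x1001000000040001000000000000001000000040040001000001000040000000040000001000000000)),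
  (t1 (nat_lit 0x1001000000040000040000000040001000000040040040000000040001001040040000001000040) (nat_lit 0x1000000000000000000000040000000000040000040000000000001001040000000001000000)),
  (t1 (nat_lit 0x40040000000001000001000000001040000000001001001000000001040040001001000040000001) (nat_lit 0x40000000001000001000000000000000000000001000000000001040040000001000040000001)),
  (t1 (nat_lit 0x1001001000000001001040001040000001000040040000000001000001000001040040000000) (nat_lit 0x1000000000001040001000000000000040000000000001000000000000040040000000)),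
  (t1 (nat_lit 0x40040040000000040040001040001000040000001001000000040000040000040001001000000) (nat_lit 0x40000000000040000040001000000000000001000000040000000000000000000000000)),
  (t1 (nat_lit 0x40001040001040000040000000040040000040000001000001001000000040001000000040000000040) (nat_lit 0x1000000000000000040040000000000000000000000000000000000000000000000000040)),
  (t1 (nat_lit 0x1040001040001000001000000001001000001000040000040040000000001040000000001000000001) (nat_lit 0x1000001040001000001000000000000000001000000000000000000000001000000000001000000000)),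
  (t1 (nat_lit 0x1040040001000000001000000001001001040040001000001000000001001000000040000040) (nat_lit 0x40001000000000000000001001000000000001000000000000001001000000040000000)),
  (t1 (nat_lit 0x40001001040000000040000000040040040001001040000040000000040040000000001000001) (nat_lit 0x1000040000000000000000040040000001001040000000000000040040000000000000001)),
  (t1 (nat_lit 0x40040040001040001001001001001040001000000000000040001040040) (nat_lit 0x40001000000001000001001040000000000000000040000040000)),
  (t1 (nat_lit 0x1001001040001040040040040040001040000000000000001040001001) (nat_lit 0x1001000040001000040000040040000000000000000000000000000001)),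
  (t4 (nat_lit 0x40000000000000000000000000000000000000000000000000000000000000000000000000) (nat_lit 0)),
  (t4 (nat_lit 0x1000000000000000000000000000000000000000000000000000000000000000000000000) (nat_lit 0x1000000000000000000000000000000000000000000000000000000000000000000000000)),
  (t1 (nat_lit 0x40000001000001001000040000001000040040000000001040000000000001040000040001001040) (nat_lit 0x40000000000001000000040000001000000000000000000040000000000000000000040001001000)),
  (t1 (nat_lit 0x1000040000040040000001000040000001001000000040001000000000040001000001040040001) (nat_lit 0x40000000000000040000001001000000000000000000000000001000000040040001)),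
  (t4 (nat_lit 0x1000000000000000000000000000000000000000000000000000000000000000000000) (nat_lit 0)),
  (t4 (nat_lit 0x40000000000000000000000000000000000000000000000000000000000000000000000) (nat_lit 0)),
  (t1 (nat_lit 0x40001000000040040040000000040040040001001000001000040000001001000000040000040) (nat_lit 0x40001000000000000040000000040000000001000000001000040000000000000000040000000)),
  (t1 (nat_lit 0x1040000000001001001000000001001001040040000040000001000040040000000001000001) (nat_lit 0x40000000001001000000000000001001040000000040000000000000000000000000000001)),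
  (t1 (nat_lit 0x1040040001001000001000000040040000001000040000040040000000000000040040000001040000) (nat_lit 0x1040040000001000001000000000000000000000000000040040000000000000040000000000000000)),
  (t1 (nat_lit 0x40001001040040000040000000001001000040000001000001001000000000000001001000040001000) (nat_lit 0x40000000000040000040000000001001000000000001000000000000000000000000001000000001000)),
  (t1 (nat_lit 0x40001000000040000000040001040001040040000040000000040040000040000001000001001000000) (nat_lit 0x1000000000000000000000040000000040000000000000040000000040000000000000001000000)),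
  (t1 (nat_lit 0x1040000000001000000001040001040001001000001000000001001000001000040000040040000000) (nat_lit 0x1040000000001000000001000000000001000000001000000000001000000000000000000040000000)),
  (t1 (nat_lit 0x1001040001000000000000001040001001000000000000000000000000001001001040040001001001) (nat_lit 0x1000000000000000040000000000000000000000000000000001000001040040000001001)),
  (t1 (nat_lit 0x40040001040000000000000040001040040000000000000000000000000040040040001001040040040) (nat_lit 0x1040000000000000000000000000000000000000000000000000040000040000000000040040)),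
  (t4 (nat_lit 0x1000000000000000000000000000000000000000000000000000) (nat_lit 0x1000000000000000000000000000000000000000000000000000)),
  (t4 (nat_lit 0x40000000000000000000000000000000000000000000000000000) (nat_lit 0x40000000000000000000000000000000000000000000000000000)),
  (t1 (nat_lit 0x40001040001000000001000000001040001001040000001000040040000000001000040000040) (nat_lit 0x1000000001000000000000001001040000000000040040000000001000000000000)),
  (t1 (nat_lit 0x1040001040000000040000000040001040040001000040000001001000000040000001000001) (nat_lit 0x1000001040000000040000000000001040040000000000000000000000000040000001000001)),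
  (t4 (nat_lit 0x40000000000000000000) (nat_lit 0)),
  (t4 (nat_lit 0x1000000000000000000) (nat_lit 0x1000000000000000000)),
  (t4 (nat_lit 0x1000000000000000000000000000000000000000000000) (nat_lit 0)),
  (t4 (nat_lit 0x40000000000000000000000000000000000000000000000) (nat_lit 0)),
  (t4 (nat_lit 0x1000000000000000000000000000000000000000) (nat_lit 0x1000000000000000000000000000000000000000)),
  (t4 (nat_lit 0x40000000000000000000000000000000000000000) (nat_lit 0x40000000000000000000000000000000000000000)),
  (t1 (nat_lit 0x1001001040001040040040040040001040000000000000001040001001000000000000) (nat_lit 0x1000000000000000040040000040001000000000000000001040000001000000000000)),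
  (t1 (nat_lit 0x40040040001040001001001001001040001000000000000040001040040000000000000) (nat_lit 0x40000000001000001000000001000040001000000000000040000000040000000000000)),
  (t4 (nat_lit 0x1000000000000000000000000000000000) (nat_lit 0)),
  (t4 (nat_lit 0x40000000000000000000000000000000000) (nat_lit 0)),
  (t1 (nat_lit 0x40001000000000001040000040001040001040000040000040000000001000001000001000000040001) (nat_lit 0x40001000000000000040000000001040001040000040000000000000000000001000000000000040000)),
  (t1 (nat_lit 0x1040000000000040001000001040001040001000001000001000000040000040000040000000001040) (nat_lit 0x40000000000000000000001040000040000000000000001000000000000040000000000000000000)),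
  (t1 (nat_lit 0x40001000000000040001000001040001040040000040000000001001000001000040000000000001040) (nat_lit 0x40000000000000000040040000040000000000001000001000040000000000001000)),
  (t1 (nat_lit 0x1040000000000001040000040001040001001000001000000040040000040000001000000000040001) (nat_lit 0x1000000000000000000000000001000000000000000000000000040000040000000000000000040001)),
  (t1 (nat_lit 0x1001000001000040000001001000000000000001001040000000040040001040001000001000040) (nat_lit 0x40000001000000000000000001001000000000000000001040001000000000040)),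
  (t1 (nat_lit 0x40040000040000001000040040000000000000040040001000000001001040001040000040000001) (nat_lit 0x40000000000000000040040001000000001001040000040000000000000)),
  (t4 (nat_lit 0x1000000000000000) (nat_lit 0x1000000000000000)),
  (t4 (nat_lit 0x40000000000000000) (nat_lit 0x40000000000000000)),
  (t4 (nat_lit 0x40000000000000) (nat_lit 0)),
  (t4 (nat_lit 0x1000000000000) (nat_lit 0x1000000000000))]

def Op3 : List T := [(t1 (nat_lit 0x40000001000040040000040000001000040040000000000000040040001000000001001040001040) (nat_lit 0x40000001000040040000000000000000040000000000000000040040000000000000001040000040)),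
  (t1 (nat_lit 0x1000040000001001000001000040000001001000000000000001001040000000040040001040001) (nat_lit 0x40000000000000001000000000000001000000000000000000000000000000040000000000)),
  (t1 (nat_lit 0x40040040001040001001001040040001040000000000000001040001001000000000000000000000000) (nat_lit 0x40040000000000001001001040000000040000000000000000040000000000000000000000000000000)),
  (t1 (nat_lit 0x1001001040001040040040001001040001000000000000040001040040000000000000000000000000) (nat_lit 0x1000001040040040000001000000000000000000000000000000000000000000000000000000)),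
  (t1 (nat_lit 0x40040040001040001001001001001040001000000000000040001040040000000000000) (nat_lit 0x40000040000000001001001001001000001000000000000040001000000000000000000)),
  (t1 (nat_lit 0x1001001040001040040040040040001040000000000000001040001001000000000000) (nat_lit 0x1000000001040040040040040001040000000000000000040001001000000000000)),
  (t1 (nat_lit 0x40001000000001001040000000040001001040040000040000001001000000040001000040000) (nat_lit 0x40001000000000001040000000040001001000040000000000000000000000040000000040000)),
  (t1 (nat_lit 0x1040000000040040001000000001040040001001000001000040040000000001040000001000) (nat_lit 0x40000000000040000000000000040040001000000001000000000000000000000000000000)),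
  (t1 (nat_lit 0x1000000040000001000001040040000000040001000000000001040000040001001040000001000040) (nat_lit 0x1000000000000001000001000040000000040001000000000000040000000000001000000001000040)),
  (t1 (nat_lit 0x40000000001000040000040001001000000001040000000000040001000001040040001000040000001) (nat_lit 0x40000000001000040000040001000000000000040000000000000000000001000040001000040000000)),
  (t1 (nat_lit 0x1040000000000040001000001001001001000001000040000040040000000040000040000000040001) (nat_lit 0x1001000000000000000000000000000040000040000000000000)),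
  (t1 (nat_lit 0x40001000000000001040000040040040040000040000001000001001000000001000001000000001040) (nat_lit 0x1000000000001000000000000040040000000000001000001001000000000000000000000001000)),
  (t1 (nat_lit 0x40040040040040000040000040000000001001000040000000000001040000000040040000001040000) (nat_lit 0x40040000000000040000000000000001000000040000000000000040000000000040000000040000)),
  (t1 (nat_lit 0x1001001001001000001000001000000040040000001000000000040001000000001001000040001000) (nat_lit 0x1000000001001000000000001000000040000000000000000000000000000000001000000000000000)),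
  (t1 (nat_lit 0x1001000000000000040040000040001000040001001040001000001000001000000040000001000001) (nat_lit 0x1000000000000000040000000000000000001000000001000001000000000000000000001000000)),
  (t1 (nat_lit 0x40040000000000000001001000001040000001040040001040000040000040000000001000040000040) (nat_lit 0x40000000000000001000000001000000001040000001040000040000000000000001000040000000)),
  (t1 (nat_lit 0x40040040001001040040040040040001040000000000000040001040040) (nat_lit 0x1000040000000040001000000000000000040001000000)),
  (t1 (nat_lit 0x1001001040040001001001001001040001000000000000001040001001) (nat_lit 0x1001001000040001000001001000040001000000000000000040001001)),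
  (t4 (nat_lit 0x1000000000000000000000000000000000000000000000000000000000000000000000000000000) (nat_lit 0x1000000000000000000000000000000000000000000000000000000000000000000000000000000)),
  (t4 (nat_lit 0x40000000000000000000000000000000000000000000000000000000000000000000000000000000) (nat_lit 0x40000000000000000000000000000000000000000000000000000000000000000000000000000000)),
  (t1 (nat_lit 0x40000001001000000040001000040000000000040001000000001001040000000040001001040040) (nat_lit 0x40000000040000000000040001000000000001040000000040001001000040)),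
  (t1 (nat_lit 0x1000040040000000001040000001000000000001040000000040040001000000001040040001001) (nat_lit 0x1000000000000000000000000000000000000000040000000000040000000000000040040001000)),
  (t4 (nat_lit 0x1000000000000000000000000000000000000000000000000000000000000000) (nat_lit 0x1000000000000000000000000000000000000000000000000000000000000000)),
  (t4 (nat_lit 0x40000000000000000000000000000000000000000000000000000000000000000) (nat_lit 0x40000000000000000000000000000000000000000000000000000000000000000)),
  (t1 (nat_lit 0x40040000000040001000000000001040000001040040001000001000040001000000040000001000001) (nat_lit 0x40040000000000001000000000001040000001000040001000001000000001000000040000001000000)),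
  (t1 (nat_lit 0x1001000000001040000000000040001000040001001040000040000001040000000001000040000040) (nat_lit 0x1040000000000040000000040001000040000040000001040000000000000040000000)),
  (t1 (nat_lit 0x40040001001001000001000040000000001040000001000000000040001040001000000040000000040) (nat_lit 0x40000000000001000000000040000000000000000001000000000040001000000000000000000000000)),
  (t1 (nat_lit 0x1001040040040000040000001000000040001000040000000000001040001040000000001000000001) (nat_lit 0x1000000040000000000000000000000001000040000000000000040001000000000001000000001)),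
  (t1 (nat_lit 0x40040000001040000001001001001040000040000040000000001001000040000000000001040) (nat_lit 0x40040000001040000001000000001000000000000040000000001001000040000000000001040)),
  (t1 (nat_lit 0x1001000040001000040040040040001000001000001000000040040000001000000000040001) (nat_lit 0x40000000040000000040001000001000000000000040040000000000000000040000)),
  (t1 (nat_lit 0x40040001040000000000000001040001001000000000000000000000000001001001040001040040040) (nat_lit 0x40001000000000000000001040000001000000000000000000000000000001001040001040000000)),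
  (t1 (nat_lit 0x1001040001000000000000040001040040000000000000000000000000040040040001040001001001) (nat_lit 0x1000040001000000000000040000000040000000000000000000000000000040040000040000001001)),
  (t4 (nat_lit 0x1000000000000000000000000000000000000000000000000000000000) (nat_lit 0)),
  (t4 (nat_lit 0x40000000000000000000000000000000000000000000000000000000000) (nat_lit 0)),
  (t1 (nat_lit 0x40040000000000000040040000040001000001001040040000001000040000040040000000001000001) (nat_lit 0x40040000040001000001000040040000001000040000000040000000001000001)),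
  (t1 (nat_lit 0x1001000000000000001001000001040000040040001001000040000001000001001000000040000040) (nat_lit 0x1001000000000000000000000000040000040000000000000040000000000001000000000040000040)),
  (t4 (nat_lit 0x1000000000000) (nat_lit 0)),
  (t4 (nat_lit 0x40000000000000) (nat_lit 0)),
  (t4 (nat_lit 0x1000000000000000000000000000000000000000) (nat_lit 0x1000000000000000000000000000000000000000)),
  (t4 (nat_lit 0x40000000000000000000000000000000000000000) (nat_lit 0x40000000000000000000000000000000000000000)),
  (t4 (nat_lit 0x1000000000000000000000000000000000000000000000) (nat_lit 0x1000000000000000000000000000000000000000000000)),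
  (t4 (nat_lit 0x40000000000000000000000000000000000000000000000) (nat_lit 0x40000000000000000000000000000000000000000000000)),
  (t1 (nat_lit 0x1001001040040001001001001001040001000000000000001040001001000000000000) (nat_lit 0x1000000000001000000001001040000000000000000001000001001000000000000)),
  (t1 (nat_lit 0x40040040001001040040040040040001040000000000000040001040040000000000000) (nat_lit 0x40000001001040000000040040000000000000000000040001040040000000000000)),
  (t4 (nat_lit 0x1000000000000000000000000000) (nat_lit 0)),
  (t4 (nat_lit 0x40000000000000000000000000000) (nat_lit 0)),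
  (t1 (nat_lit 0x40040040000000040040040040040040000040000000040040000000040000040040040000000) (nat_lit 0x40040000000000000000000000040000000000000040000000000040000000040000000000)),
  (t1 (nat_lit 0x1001001000000001001001001001001000001000000001001000000001000001001001000000) (nat_lit 0x1000000000000001001001001001000000001000000000001000000000000001000001000000)),
  (t1 (nat_lit 0x40040001000000001001001001001040000040000001000000040040000001000001001000000) (nat_lit 0x40000000000000000001001000000040000000000000000000040000000001000001001000000)),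
  (t1 (nat_lit 0x1001040000000040040040040040001000001000040000000001001000040000040040000000) (nat_lit 0x1000000000000040040000000000000001000000000000000001000040000040040000000)),
  (t1 (nat_lit 0x1000000040040000001000000000001040001040000000000001040000040040040040000001000040) (nat_lit 0x40000001000000000001040001040000000000000000000000000000000000000000000)),
  (t1 (nat_lit 0x40000000001001000040000000000040001040001000000000040001000001001001001000040000001) (nat_lit 0x1000000040000000000040000040000000000000000001000001001001001000000000001)),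
  (t4 (nat_lit 0x1000000000000000000000) (nat_lit 0)),
  (t4 (nat_lit 0x40000000000000000000000) (nat_lit 0)),
  (t4 (nat_lit 0x1000000000000000000) (nat_lit 0)),
  (t4 (nat_lit 0x40000000000000000000) (nat_lit 0))]

def Op4 : List T := [(t1 (nat_lit 0x1040001040000040000001000040040000040000001000040040000000000000040040001000000001) (nat_lit 0x1000000000000000000000000000000000000000000040000000000000040040000000000000)),
  (t1 (nat_lit 0x40001040001000001000040000001001000001000040000001001000000000000001001040000000040) (nat_lit 0x1040001000001000000000001001000001000000000001000000000000000000000000000000000)),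
  (t1 (nat_lit 0x40040040001040001001001040040001040000000000000001040001001000000000000) (nat_lit 0x40001040000000000040000000040000000000000000040000000000000000000)),
  (t1 (nat_lit 0x1001001040001040040040001001040001000000000000040001040040000000000000) (nat_lit 0x1001000040000000000000000001000000000000000000000000000000000000000000)),
  (t1 (nat_lit 0x40040040001040001001001001001040001000000000000040001040040) (nat_lit 0x40000001000001001001000000040000000000000000040001000000)),
  (t1 (nat_lit 0x1001001040001040040040040040001040000000000000001040001001) (nat_lit 0x1000001040001040040040000000000000000000000000000040001001)),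
  (t1 (nat_lit 0x1000040000000000040001000000001001040000000040001001040040000040000001001000000040) (nat_lit 0x1000000000000000000000000000001000040000000040000000040000000000000000000000000040)),
  (t1 (nat_lit 0x40000001000000000001040000000040040001000000001040040001001000001000040040000000001) (nat_lit 0x40000001000000000001000000000040000000000000000000000000001000001000000000000000000)),
  (t1 (nat_lit 0x1000040001000000040000001000001040040000000040001000000000001040000040001001040) (nat_lit 0x40000000000000000040000000000000000000000000040000000000001000)),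
  (t1 (nat_lit 0x40000001040000000001000040000040001001000000001040000000000040001000001040040001) (nat_lit 0x1000000000000000000000000001000000000001000000000000000000000001000040001)),
  (t1 (nat_lit 0x40001001040000000000040001000001001001001000001000040000040040000000040000040) (nat_lit 0x40001001040000000000040001000000000001001000001000040000000000000000040000040)),
  (t1 (nat_lit 0x1040040001000000000001040000040040040040000040000001000001001000000001000001) (nat_lit 0x40040000000000000000040000000000040040000040000000000001001000000000000000)),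
  (t1 (nat_lit 0x1040000040040040040040000040000040000000001001000040000000000001040000000040040) (nat_lit 0x1000000040000000040040000000000000000000001001000000000000000000040000000000040)),
  (t1 (nat_lit 0x40001000001001001001001000001000001000000040040000001000000000040001000000001001) (nat_lit 0x40001000000001001000000000001000001000000040040000001000000000000000000000001000)),
  (t1 (nat_lit 0x1000001001001000000000000040040000040001000040001001040001000001000001000000040) (nat_lit 0x1001000000000000000040000000000000000040000001040001000001000000000000000)),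
  (t1 (nat_lit 0x40000040040040000000000000001001000001040000001040040001040000040000040000000001) (nat_lit 0x40040000000000000000000001000001000000000000040000040000040000000000000001)),
  (t1 (nat_lit 0x40001040040000000000000000000000000040040040001001040040040040040001040000000000000) (nat_lit 0x40040000000000000000000000000000000000000000040000040000040001000000000000000)),
  (t1 (nat_lit 0x1040001001000000000000000000000000001001001040040001001001001001040001000000000000) (nat_lit 0x1000000000000000000000000000000000001001001000000000001000001000040001000000000000)),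
  (t4 (nat_lit 0x1000000000000000000000000000000000000000000000000000000000000000000) (nat_lit 0)),
  (t4 (nat_lit 0x40000000000000000000000000000000000000000000000000000000000000000000) (nat_lit 0)),
  (t1 (nat_lit 0x1001040040000040000001001000000040001000040000000000040001000000001001040000000040) (nat_lit 0x40000000040000001001000000000000000040000000000000000000000000001040000000040)),
  (t1 (nat_lit 0x40040001001000001000040040000000001040000001000000000001040000000040040001000000001) (nat_lit 0x1000000000040040000000001000000000000000000001000000000000040000000000000)),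
  (t4 (nat_lit 0x1000000000000000000000000000000000000000000000000000) (nat_lit 0)),
  (t4 (nat_lit 0x40000000000000000000000000000000000000000000000000000) (nat_lit 0)),
  (t1 (nat_lit 0x1000001040040000000040001000000000001040000001040040001000001000040001000000040) (nat_lit 0x1000000000000040000000000000001040000000040000000000001000000001000000040)),
  (t1 (nat_lit 0x40000040001001000000001040000000000040001000040001001040000040000001040000000001) (nat_lit 0x40001001000000000000000000000040000000000000001000000040000001040000000000)),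
  (t1 (nat_lit 0x40000000040040040001001001000001000040000000001040000001000000000040001040001000000) (nat_lit 0x40000000040000040001001000000001000040000000000040000000000000000040001000000000000)),
  (t1 (nat_lit 0x1000000001001001040040040000040000001000000040001000040000000000001040001040000000) (nat_lit 0x1000040040000000040000000000000000000000000000000000000040001000000000)),
  (t1 (nat_lit 0x1040000000040040000001040000001001001001040000040000040000000001001000040000) (nat_lit 0x1000000001040000040000040000000001001000040000)),
  (t1 (nat_lit 0x40001000000001001000040001000040040040040001000001000001000000040040000001000) (nat_lit 0x1000000001001000000001000040000000040000000000000000000000040040000000000)),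
  (t1 (nat_lit 0x1040040040040040001040000000000000001040001001000000000000000000000000001001001040) (nat_lit 0x40040040000000040000000000000001040000001000000000000000000000000000001001040)),
  (t1 (nat_lit 0x40001001001001001040001000000000000040001040040000000000000000000000000040040040001) (nat_lit 0x1000000000001000000000000000000040000000040000000000000000000000000000040040000)),
  (t4 (nat_lit 0x1000000000000000000000000000000000000000000000) (nat_lit 0)),
  (t4 (nat_lit 0x40000000000000000000000000000000000000000000000) (nat_lit 0)),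
  (t1 (nat_lit 0x1000001040040000000000000040040000040001000001001040040000001000040000040040000) (nat_lit 0x40040000000000000000000000040001000000001000000000001000040000000040000)),
  (t1 (nat_lit 0x40000040001001000000000000001001000001040000040040001001000040000001000001001000) (nat_lit 0x1001000000040000000040001001000040000000000001000000)),
  (t4 (nat_lit 1) (nat_lit 0)),
  (t4 (nat_lit 0x40) (nat_lit 0)),
  (t4 (nat_lit 0x1000000000000000000000000000) (nat_lit 0)),
  (t4 (nat_lit 0x40000000000000000000000000000) (nat_lit 0)),
  (t4 (nat_lit 0x1000000000000000000000000000000000) (nat_lit 0)),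
  (t4 (nat_lit 0x40000000000000000000000000000000000) (nat_lit 0)),
  (t1 (nat_lit 0x1001001040040001001001001001040001000000000000001040001001) (nat_lit 0x1000001040000001000000000000000001000000000000001000001001)),
  (t1 (nat_lit 0x40040040001001040040040040040001040000000000000040001040040) (nat_lit 0x40000040000001040000000000000001040000000000000040001040040)),
  (t4 (nat_lit 0x1000000000000000) (nat_lit 0)),
  (t4 (nat_lit 0x40000000000000000) (nat_lit 0)),
  (t1 (nat_lit 0x40040000000000000040040040000000040040040040040040000040000000040040000000040000040) (nat_lit 0x40000000000000040000000000000040000000000000000000040000000040000000000040000000)),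
  (t1 (nat_lit 0x1001000000000000001001001000000001001001001001001000001000000001001000000001000001) (nat_lit 0x1000000000000000000001001000000000001001001001001000000000000000001000000000000001)),
  (t1 (nat_lit 0x1001000000000000040040001000000001001001001001040000040000001000000040040000001000) (nat_lit 0x40001000000001001001000000000000040000000000000040000000001000)),
  (t1 (nat_lit 0x40040000000000000001001040000000040040040040040001000001000040000000001001000040000) (nat_lit 0x1000040000000040040040000000001000000000000000000000001000040000)),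
  (t1 (nat_lit 0x1000040001000000040040000001000000000001040001040000000000001040000040040040040) (nat_lit 0x1000040001000000040000000000000000000001040000000000000000000000000000000000000)),
  (t1 (nat_lit 0x40000001040000000001001000040000000000040001040001000000000040001000001001001001) (nat_lit 0x40000000040000000000001000000000000000040000000001000000000000001000001001001001)),
  (t4 (nat_lit 0x1000000000) (nat_lit 0)),
  (t4 (nat_lit 0x40000000000) (nat_lit 0)),
  (t4 (nat_lit 0x1000000) (nat_lit 0)),
  (t4 (nat_lit 0x40000000) (nat_lit 0))]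

def U0 : List T := [(t1 (nat_lit 0x1001000040001000001040040001040000040000000001001000040000001000001001000000) (nat_lit 0x1000000040000000000001000000000000000000001000000)),
  (t1 (nat_lit 0x40040000001040000040001001040001000001000000040040000001000040000040040000000) (nat_lit 0x1000000000001001040001000000000000000040000001000000000000040000000)),
  (t1 (nat_lit 0x40001040001000001000040001000000040000040000040000000040001000000001001000001040000) (nat_lit 0x1000000000040000000000040000000000040000000000000000000001001000001040000)),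
  (t1 (nat_lit 0x1040001040000040000001040000000001000001000001000000001040000000040040000040001000) (nat_lit 0x1000001040000000000000000000000000000001000000000000001000000000040040000040000000)),
  (t1 (nat_lit 0x1000040040000000001040000001000000000001040000000040040001000000001040040001001) (nat_lit 0x1000000000000000000040000001000000000001000000000040000000000000000000000000001)),
  (t1 (nat_lit 0x40000001001000000040001000040000000000040001000000001001040000000040001001040040) (nat_lit 0x40000001001000000000000000040000000000040001000000000001000000000000001001000040)),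
  (t1 (nat_lit 0x1040000000040040001000000001040040001001000001000040040000000001040000001000) (nat_lit 0x1000000000040000000000000000000000000001000001000000000000000000040000001000)),
  (t1 (nat_lit 0x40001000000001001040000000040001001040040000040000001001000000040001000040000) (nat_lit 0x40001000000000001000000000000001001000040000040000001001000000000000000040000)),
  (t1 (nat_lit 0x1000001000000001001000040000001000000000040001000000040040001000000001040001001040) (nat_lit 0x1000000000000000000000000040001000000040000000000000001040001000040)),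
  (t1 (nat_lit 0x40000040000000040040000001000040000000000001040000000001001040000000040001040040001) (nat_lit 0x40000000001000000000000000000040000000000001000000000040000040000000)),
  (t1 (nat_lit 0x1000000001001040001040000001000040040000000001000001000001040040000000000000001001) (nat_lit 0x1000000000001040001000000001000000040000000000000001000001040040000000000000001001)),
  (t1 (nat_lit 0x40000000040040001040001000040000001001000000040000040000040001001000000000000040040) (nat_lit 0x40000000000040000040001000040000001000000000000000040000040000000000000000000040040)),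
  (t1 (nat_lit 0x40000040000000040040000000001000001000000040001001040000000040000000040040040001001) (nat_lit 0x40000000000000000000000000000000001000000040000001000000000000000000040040000001001)),
  (t1 (nat_lit 0x1000001000000001001000000040000040000000001040040001000000001000000001001001040040) (nat_lit 0x1000000001001000000000000040000000000000040001000000001000000000000001040040)),
  (t1 (nat_lit 0x1000040000040040000000000000040040000001040000001040040001001000001000000040040000) (nat_lit 0x1000040000040040000000000000000040000000000000001040040000000000000000000040040000)),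
  (t1 (nat_lit 0x40000001000001001000000000000001001000040001000040001001040040000040000000001001000) (nat_lit 0x40000000000000000000000000000001000000000001000040000000000000000000000000000000000)),
  (t1 (nat_lit 0x40001040001000000040000000040001001040040001000001000040000000001040000001000) (nat_lit 0x40000040000000000000000000040000001000000001000001000040000000001000000000000)),
  (t1 (nat_lit 0x1040001040000000001000000001040040001001040000040000001000000040001000040000) (nat_lit 0x1000000000000040001001040000040000000000000040001000000000)),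
  (t1 (nat_lit 0x1040000040040001001040000040000040000000001040000001000001001000000001040000000) (nat_lit 0x40000040040000001040000000000000000000000000000000000000000000000001000000000)),
  (t1 (nat_lit 0x40001000001001040040001000001000001000000040001000040000040040000000040001000000) (nat_lit 0x40000000001000001000000000001000000000000000000000040001000000)),
  (t1 (nat_lit 0x1001001040040001001001040040001040000000000000040001040040000000000000) (nat_lit 0x1000000000040001000001040040001040000000000000040001040040000000000000)),
  (t1 (nat_lit 0x40040040001001040040040001001040001000000000000001040001001000000000000) (nat_lit 0x40000000001000040000040000000040000000000000000000040000000000000000000)),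
  (t1 (nat_lit 0x40000040000000001040001040000000000040001000040001040001001000001000001000000040) (nat_lit 0x40000040000000000040001040000000000000001000040000000000000000001000000000000000)),
  (t1 (nat_lit 0x1000001000000040001040001000000000001040000001040001040040000040000040000000001) (nat_lit 0x40000000000000001040000000000001000000000040000000000000001)),
  (t1 (nat_lit 0x40040000000040001000000001000000001040001040001040000040000001000000040000040000040) (nat_lit 0x40000000000000000000001040001000001040000000000000000000040000000000040)),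
  (t1 (nat_lit 0x1001000000001040000000040000000040001040001040001000001000040000000001000001000001) (nat_lit 0x1001000000000000000000000000000040000040001040000000001000000000000000000001000000)),
  (t1 (nat_lit 0x40000040000001000000040001000040000000000001040001040000000001000000001001001040040) (nat_lit 0x40000000000000000001000040000000000000040000040000000001000000001001000040040)),
  (t1 (nat_lit 0x1000001000040000000001040000001000000000040001040001000000040000000040040040001001) (nat_lit 0x1000000000000000000001040000000000000000000000000000000000040000000040040000000000)),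
  (t1 (nat_lit 0x40001001040000000000001040000040001040001001000001000000040040000040000001000) (nat_lit 0x40000000000000000000040000040001000000000000000000040000000000001000)),
  (t1 (nat_lit 0x1040040001000000000040001000001040001040040000040000000001001000001000040000) (nat_lit 0x1000000000000000000000001000000000000040000000000000000001000000001000040000)),
  (t1 (nat_lit 0x40001001040000001000040001000000040000001000001040040000000040001000000000001040000) (nat_lit 0x40001000040000000000000000000000040000000000000040000000000000000000000000001000000)),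
  (t1 (nat_lit 0x1040040001000040000001040000000001000040000040001001000000001040000000000040001000) (nat_lit 0x40000000000000000001000000000000000000000000000001000000001000000000000040001000)),
  (t1 (nat_lit 0x1001001040040001001001040040001040000000000000040001040040) (nat_lit 0x1000000040001001000000040001000000000000000040000040000)),
  (t1 (nat_lit 0x40040040001001040040040001001040001000000000000001040001001) (nat_lit 0x40000001000040040000001000040001000000000000000000000001)),
  (t1 (nat_lit 0x40000040000040000000001040000001000001001000000001040000000000001040000001001040040) (nat_lit 0x40000040000000000000001040000000000000001000000000000000000000001040000000000000040)),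
  (t1 (nat_lit 0x1000001000001000000040001000040000040040000000040001000000000040001000040040001001) (nat_lit 0x1000000040000000000000000040000000000001000000000040000000000000001000)),
  (t1 (nat_lit 0x1040001001000000000000000000000000001001001040040001001001001001040001) (nat_lit 0x1000000000000000000000000000001001040040000000000000001040001)),
  (t1 (nat_lit 0x40001040040000000000000000000000000040040040001001040040040040040001040) (nat_lit 0x1000040000000000000000000000000000040040000000000000000000040000040)),
  (t1 (nat_lit 0x1000001000000001040000000040040000040001000040001040001000040000001040000000001) (nat_lit 0x1000001000000000000000000040000000000000000000000000001000000000001000000000001)),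
  (t1 (nat_lit 0x40000040000000040001000000001001000001040000001040001040000001000040001000000040) (nat_lit 0x40000040000000000001000000000001000001000000001000001040000001000040001000000040)),
  (t1 (nat_lit 0x40001040001000000001000000001001040040001000001000040040000000001000040000040) (nat_lit 0x40000000000000000000000000000000000000001000000000000040000000000000000000040)),
  (t1 (nat_lit 0x1040001040000000040000000040040001001040000040000001001000000040000001000001) (nat_lit 0x1000000000000000000000000001001040000000000001000000000000000001000000)),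
  (t1 (nat_lit 0x1001001040040001001001001001040001000000000000001040001001) (nat_lit 0x40040001000001001000040001000000000000001000000000)),
  (t1 (nat_lit 0x40040040001001040040040040040001040000000000000040001040040) (nat_lit 0x40000040040000000040000000000000040001000000)),
  (t1 (nat_lit 0x1040000040040040040000001000040001000000040040000001000000000001040001040000000) (nat_lit 0x1000040001000000040000000000000000000001040000000000000)),
  (t1 (nat_lit 0x40001000001001001001000040000001040000000001001000040000000000040001040001000000) (nat_lit 0x1000001001001001000040000000040000000000001000000000000000040000000001000000)),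
  (t1 (nat_lit 0x1000040000001001000040000001000000000001040040001000000040000000040040001001040) (nat_lit 0x1001000000000001000000000001000000000000000040000000000000001000000)),
  (t1 (nat_lit 0x40000001000040040000001000040000000000040001001040000000001000000001001040040001) (nat_lit 0x1000040040000001000040000000000040001001000000000000000000001001040000001)),
  (t1 (nat_lit 0x40001000001040001040000001000040000040040000040000001000000000001040000000001001) (nat_lit 0x1000000000000000000040000000040000040000000000000000000000000000000000)),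
  (t1 (nat_lit 0x1040000040001040001000040000001000001001000001000040000000000040001000000040040) (nat_lit 0x1000000040001000001000000000000000001000000000000000000000000000001000000000000)),
  (t1 (nat_lit 0x1040000000040000000040001040040001000040000001001000000040000001000001000000001040) (nat_lit 0x1040000000000000000040001040040000000000000000001000000000000000000000000000000040)),
  (t1 (nat_lit 0x40001000000001000000001040001001040000001000040040000000001000040000040000000040001) (nat_lit 0x40000000000001000000000040000000000000001000000040000000001000000000000000000000000)),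
  (t1 (nat_lit 0x40040000000040000040001001000000040001000000001000000001040040040040000040000001) (nat_lit 0x40040000000000000000000001000000000000000000001000000000000040040000000040000001)),
  (t1 (nat_lit 0x1001000000001000001040040000000001040000000040000000040001001001001000001000040) (nat_lit 0x1000001000040000000001000000000040000000000001000000001000000000040)),
  (t1 (nat_lit 0x40000001040000000001001000040000000000040001040001000000000040001000040040040040) (nat_lit 0x40000000001001000040000000000040001000000000000000040001000040040040040)),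
  (t1 (nat_lit 0x1000040001000000040040000001000000000001040001040000000000001040000001001001001) (nat_lit 0x1000000000000000040040000000000000000000040001000000000000000040000000000000000))]

def U1 : List T := [(t1 (nat_lit 0x40001040001000000040000000040040040001001001000001000040000000001040000001000) (nat_lit 0x40001000000000000000000000040001001001000000000040000000000040000000000)),
  (t1 (nat_lit 0x1040001040000000001000000001001001040040040000040000001000000040001000040000) (nat_lit 0x1000000040000000001000000001001000040040040000000000000000000000000000000000)),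
  (t1 (nat_lit 0x40001000000040000000040040001040001040000040000000040040000040000001000001001000000) (nat_lit 0x40000000000040001040000040000040000000040040000040000001000000000000000)),
  (t1 (nat_lit 0x1040000000001000000001001040001040001000001000000001001000001000040000040040000000) (nat_lit 0x1000000000000000000001000040000000000000000000000000000000000000040000000000000000)),
  (t1 (nat_lit 0x1001000001040000040001040001000001000040001000000040000040000040000000040001) (nat_lit 0x1001000001040000000000000001000001000000000000000040000040000000000000040001)),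
  (t1 (nat_lit 0x40040000040001000001040001040000040000001040000000001000001000001000000001040) (nat_lit 0x40040000040000000001000001040000040000001000000000000000000000001000000000040)),
  (t1 (nat_lit 0x1040000000040040001000000001040040001001000001000040040000000001040000001000) (nat_lit 0x40000000000040001000000001040040001000000000000040040000000001000000000000)),
  (t1 (nat_lit 0x40001000000001001040000000040001001040040000040000001001000000040001000040000) (nat_lit 0x1000040000000040000000040000000000000000000000000040001000000000)),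
  (t1 (nat_lit 0x1000001000000001001000040000001000000000040001000000040040001000000001040001001040) (nat_lit 0x1000000000000000000000000040001000000040000000000000001040001000040)),
  (t1 (nat_lit 0x40000040000000040040000001000040000000000001040000000001001040000000040001040040001) (nat_lit 0x40000000001000000000000000000040000000000001000000000040000040000000)),
  (t1 (nat_lit 0x1000000001001001040040000040000001000040040000000001000001000000001040000000001001) (nat_lit 0x1000000001000000000040000000000001000000000000000001000000000000000040000000001001)),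
  (t1 (nat_lit 0x40000000040040040001001000001000040000001001000000040000040000000040001000000040040) (nat_lit 0x40000000040000000001000000001000040000001001000000040000000000000000000000000040040)),
  (t1 (nat_lit 0x40040001001040000040000001000000040001000040000000000001040001040000000001000000001) (nat_lit 0x40000000000040000040000001000000000001000000000000000000000001040000000000000000001)),
  (t1 (nat_lit 0x1001040040001000001000040000000001040000001000000000040001040001000000040000000040) (nat_lit 0x1000000000000000000040000000001040000001000000000000001040000000000000000000040)),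
  (t1 (nat_lit 0x1040000000001000000001001001001001000001000040040000000001001000040000001001000000) (nat_lit 0x1040000000001000000000000001000001000001000040040000000001000000000000001000000000)),
  (t1 (nat_lit 0x40001000000040000000040040040040040000040000001001000000040040000001000040040000000) (nat_lit 0x40000000000040000000000000040000040000040000000000000000040000000001000040000000000)),
  (t1 (nat_lit 0x40001000001040001040001000001000001000000040000040000040000000001040001040000000) (nat_lit 0x40001000000000001000000000000000000000000040000040000000000000000000001000000000)),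
  (t1 (nat_lit 0x1040000040001040001040000040000040000000001000001000001000000040001040001000000) (nat_lit 0x40000000001040001000000000000000000000000000000000001000000000001040001000000)),
  (t1 (nat_lit 0x1040000001040040001000040000001000001001000040000001000040040000000001040000000) (nat_lit 0x40000001000000000000000000000000001001000040000000000000040000000001040000000)),
  (t1 (nat_lit 0x40001000040001001040000001000040000040040000001000040000001001000000040001000000) (nat_lit 0x40001001000000001000000000040040000000000000000001000000000040000000000)),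
  (t1 (nat_lit 0x40000040000000040001001040000000000040001000001001001001000001000040000040040000) (nat_lit 0x40000040000000040001000000000000000000000000001001000000000001000040000040040000)),
  (t1 (nat_lit 0x1000001000000001040040001000000000001040000040040040040000040000001000001001000) (nat_lit 0x40000001000000000001000000040040000000000040000000000000000000)),
  (t1 (nat_lit 0x1040000001040001040000040000001000001001000001000040000000000040001000000040040) (nat_lit 0x1000000000000040000000000000000000000000040000000000000000000000040000)),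
  (t1 (nat_lit 0x40001000040001040001000001000040000040040000040000001000000000001040000000001001) (nat_lit 0x1000040001000001000000000000000000000000000000000000000000001000000000000001)),
  (t1 (nat_lit 0x40000000040040001001040001000001000040000000001000040000040000000001040000000040040) (nat_lit 0x40040001001000000000001000040000000000000040000000000000000040000000040040)),
  (t1 (nat_lit 0x1000000001001040040001040000040000001000000040000001000001000000040001000000001001) (nat_lit 0x1000000000000040040001000000040000000000000000000000000001000000000000000000000000)),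
  (t1 (nat_lit 0x40000040000000001001000000040000040040040000000001040000000000040001000001001040040) (nat_lit 0x40000000000001000000040000040040000000000001000000000000000001000001001000040)),
  (t1 (nat_lit 0x1000001000000040040000000001000001001001000000040001000000000001040000040040001001) (nat_lit 0x1000000000000000040000000000000000000001000000040001000000000001040000040040001000)),
  (t1 (nat_lit 0x1001000001000040000040040000000001040000000001000000001001040001040001000001000) (nat_lit 0x1001000001000000000000000000000001000000000000000000001001000001040000000000000)),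
  (t1 (nat_lit 0x40040000040000001000001001000000040001000000040000000040040001040001040000040000) (nat_lit 0x40040000040000001000001001000000040001000000000000000040040001040000000000000000)),
  (t1 (nat_lit 0x40000000040001040001040040000040000000040040000040000001000001001000000040001000000) (nat_lit 0x40000000040000040000000000000040000000040000000040000000000001000000000040000000000)),
  (t1 (nat_lit 0x1000000001040001040001001000001000000001001000001000040000040040000000001040000000) (nat_lit 0x1001000000000000000001000000000000000040000000000000000000000)),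
  (t1 (nat_lit 0x40001000040001001040001000001000001000000040000001000001001001000000000000040040) (nat_lit 0x40000001040000000000000000000000000000001000000000001000000000000040000)),
  (t1 (nat_lit 0x1040000001040040001040000040000040000000001000040000040040040000000000000001001) (nat_lit 0x1000000000000040000000000000000000000000001000040000000000040000000000000000001)),
  (t1 (nat_lit 0x40000040000040000000001000001000001000000040001040001000000000001040000001040001040) (nat_lit 0x40000000000000000000001000000000000000000000000000001000000000001040000001040000040)),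
  (t1 (nat_lit 0x1000001000001000000040000040000040000000001040001040000000000040001000040001040001) (nat_lit 0x1000001000000040000000000000000000001000001040000000000040000000040000000000)),
  (t1 (nat_lit 0x40001040001000000000001040000001040001040040000040000040000000001000001000001) (nat_lit 0x1000000000001040000000000001000040000000000040000000000000001000001)),
  (t1 (nat_lit 0x1040001040000000000040001000040001040001001000001000001000000040000040000040) (nat_lit 0x1000001040000000000040000000000001040001000000001000000000000000000040000040)),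
  (t1 (nat_lit 0x1040000000001001001000000001040040001001000040000001000040040000000001000001) (nat_lit 0x1040000000001000001000000000040040000001000000000000000000040000000001000001)),
  (t1 (nat_lit 0x40001000000040040040000000040001001040040000001000040000001001000000040000040) (nat_lit 0x40000000000040000040000000000000000000040000001000000000001000000000040000040)),
  (t1 (nat_lit 0x40000040040040000000040001000000001000000001001040001040040000040000001000000040) (nat_lit 0x40000040040000000000000000000000000000000000000040001040040000040000001000000040)),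
  (t1 (nat_lit 0x1000001001001000000001040000000040000000040040001040001001000001000040000000001) (nat_lit 0x1000000001000000000000000000000000000040000000000000000040000000000)),
  (t1 (nat_lit 0x1040000040001040001000001000040001000000040000040000040000000040001000000001001) (nat_lit 0x1040000040001040000000000000040000000000040000040000000000000040001000000000000)),
  (t1 (nat_lit 0x40001000001040001040000040000001040000000001000001000001000000001040000000040040) (nat_lit 0x40000000000040000000000000000000000000000000000000000001000000000040000000000000)),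
  (t1 (nat_lit 0x1040000040001040001001000001000000040040000040000001000000000040001001040000000) (nat_lit 0x40000040001001000001000000000040000040000000000000000040001000040000000)),
  (t1 (nat_lit 0x40001000001040001040040000040000000001001000001000040000000000001040040001000000) (nat_lit 0x1000000000000040040000040000000001000000000000000000000000000040000000000000)),
  (t1 (nat_lit 0x1040001040000000000040001000040001040001001000001000001000000040000040000040) (nat_lit 0x1000000000000000000000001000000001040001000000001000000000000000000000000000)),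
  (t1 (nat_lit 0x40001040001000000000001040000001040001040040000040000040000000001000001000001) (nat_lit 0x40001000001000000000001040000001040000040000000040000000000000001000001000001)),
  (t1 (nat_lit 0x40000001000001001000000040000040001001000000000000001001000001040000040040001001) (nat_lit 0x40000000000001000000000040000040001001000000000000000000000000040000040000000000)),
  (t1 (nat_lit 0x1000040000040040000000001000001040040000000000000040040000040001000001001040040) (nat_lit 0x40000000000000000000040040000000000000000000000000000000000001000000)),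
  (t1 (nat_lit 0x1040000000000040001000001040001040001000001000001000000040000040000040000000001040) (nat_lit 0x1000000000000000000000001040000040000000000000000000000040000040000000000000001040)),
  (t1 (nat_lit 0x40001000000000001040000040001040001040000040000040000000001000001000001000000040001) (nat_lit 0x40001000000000001000000040000000000000000000000000000000000000000000001000000040000)),
  (t1 (nat_lit 0x1000040000001001000000001000001040040000000001040000000040000000040001001001001) (nat_lit 0x40000000000000000001000001000040000000001000000000040000000000001000000001)),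
  (t1 (nat_lit 0x40000001000040040000000040000040001001000000040001000000001000000001040040040040) (nat_lit 0x40000040001000000000040001000000000000000001040000000040)),
  (t1 (nat_lit 0x1001000000040000040000000040001000000040040040000000040040040001001000001000040) (nat_lit 0x40000000040001000000040040000000000000000000001000000001000040)),
  (t1 (nat_lit 0x40040000000001000001000000001040000000001001001000000001001001040040000040000001) (nat_lit 0x1000000000000000040000000000000001000000001001001040000000040000000))]

def U2 : List T := [(t1 (nat_lit 0x1001000000001000001000000001040040001000000000001040000001001001001000040000001) (nat_lit 0x1000000000000000001000000000000040001000000000001040000001001000000000040000001)),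
  (t1 (nat_lit 0x40040000000040000040000000040001001040000000000040001000040040040040000001000040) (nat_lit 0x40000000000000000040000000000001000040000000000040000000040040000000000000000040)),
  (t1 (nat_lit 0x40001000000040000000040040040001001001000001000040000000001040000001000000000040001) (nat_lit 0x40000000040040000000000000000001000000000000001000000001000000000040001)),
  (t1 (nat_lit 0x1040000000001000000001001001040040040000040000001000000040001000040000000000001040) (nat_lit 0x1000000000000000000000000001000000000000040000001000000040001000040000000000000040)),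
  (t1 (nat_lit 0x1000040000001001000000001000001040040000000001040000000040000000040001001001001) (nat_lit 0x1000000000001001000000001000001040000000000001000000000040000000000000001001000)),
  (t1 (nat_lit 0x40000001000040040000000040000040001001000000040001000000001000000001040040040040) (nat_lit 0x40000001000040040000000040000040000001000000040001000000000000000001000040040000)),
  (t1 (nat_lit 0x40040000040000001000000000040001001040000000000001040000001040001040001000001000) (nat_lit 0x40040000040000001000000000000001000000000000000001000000000000000040001000000000)),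
  (t1 (nat_lit 0x1001000001000040000000000001040040001000000000040001000040001040001040000040000) (nat_lit 0x40000000000001040000001000000000040001000000001000000040000000000)),
  (t1 (nat_lit 0x1001001001040000040000000001001000000001000001000000040001000000040040000040001000) (nat_lit 0x1000001000000040000000000000000000001000001000000000001000000040000000040000000)),
  (t1 (nat_lit 0x40040040040001000001000000040040000000040000040000000001040000000001001000001040000) (nat_lit 0x40000040001000000000000000000000000040000040000000001040000000000001000000000000)),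
  (t1 (nat_lit 0x1000040000001001000000000000001001040000000040040001040001000001000040000001001000) (nat_lit 0x1000000000001000000000000000001001000000000000040000000000000000000040000001001000)),
  (t1 (nat_lit 0x40000001000040040000000000000040040001000000001001040001040000040000001000040040000) (nat_lit 0x40000001000040000000000000000040040001000000001000000001000000000000000000040040000)),
  (t1 (nat_lit 0x40040040040040000040000001000000040040000001000001001000000000000040040001000000001) (nat_lit 0x40040000000000000000000000000000000040000001000000001000000000000040040000000000001)),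
  (t1 (nat_lit 0x1001001001001000001000040000000001001000040000040040000000000000001001040000000040) (nat_lit 0x1001001000001000000000000001000000040000000040000000000000000000000000000040)),
  (t1 (nat_lit 0x1040000000000040001000001040040001000040000001040000000001000040000040001001000000) (nat_lit 0x1000000000000000000000001000040001000000000001000000000000000000000000001000000000)),
  (t1 (nat_lit 0x40001000000000001040000040001001040000001000040001000000040000001000001040040000000) (nat_lit 0x40001000000000001000000040001000040000001000040001000000000000001000001040000000000)),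
  (t1 (nat_lit 0x40001000001040040001001000001000001000000040000001000001001001000000000000040040) (nat_lit 0x1000000000040000001000000000001000000000000000000000001001000000000000040040)),
  (t1 (nat_lit 0x1040000040001001040040000040000040000000001000040000040040040000000000000001001) (nat_lit 0x1040000000001000000040000000000040000000001000000000000040040000000000000000000)),
  (t1 (nat_lit 0x40040040001001040040040001001040001000000000000001040001001) (nat_lit 0x40000040000001000000040000001000000000000000000001040001000)),
  (t1 (nat_lit 0x1001001040040001001001040040001040000000000000040001040040) (nat_lit 0x1000000040001001000000040001000000000000000040000040000)),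
  (t1 (nat_lit 0x40001000001040001040001000001000001000000040000040000040000000001040001040000000) (nat_lit 0x1040000040001000001000001000000000000000000040000000001040000040000000)),
  (t1 (nat_lit 0x1040000040001040001040000040000040000000001000001000001000000040001040001000000) (nat_lit 0x1000000040000000000040000040000040000000001000001000000000000040000000000000000)),
  (t1 (nat_lit 0x40040040001001040040040001001040001000000000000001040001001) (nat_lit 0x40000040000001000000040001000040001000000000000000000000001)),
  (t1 (nat_lit 0x1001001040040001001001040040001040000000000000040001040040) (nat_lit 0x1000000040001001000040000000040000000000000000001000040)),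
  (t1 (nat_lit 0x40040000000040001000000000040001000001001040040001000001000001000000040001000040000) (nat_lit 0x40001000000000000000000001001040000000000001000000000000040000000040000)),
  (t1 (nat_lit 0x1001000000001040000000000001040000040040001001040000040000040000000001040000001000) (nat_lit 0x1001000000000040000000000001000000040040000001000000040000000000000000000000000000)),
  (t1 (nat_lit 0x40000040000000001001000000040000040040040000000001040000000000040001000001001040040) (nat_lit 0x40000000001000000000040000040000040000000000040000000000000001000001001000040)),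
  (t1 (nat_lit 0x1000001000000040040000000001000001001001000000040001000000000001040000040040001001) (nat_lit 0x1000000000000040000000000000000000001000000000000000000000000001040000040040001000)),
  (t1 (nat_lit 0x1000040001000000040040000001000000000001040001040000000000001040000040040040040) (nat_lit 0x1000040001000000040000000000000000000001040000000000000000000000000000000000000)),
  (t1 (nat_lit 0x40000001040000000001001000040000000000040001040001000000000040001000001001001001) (nat_lit 0x40000000040000000000001000000000000000040000000001000000000000001000001001001001)),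
  (t1 (nat_lit 0x40001040001000040000001000001001000001000040000000000040001000000040040000001040000) (nat_lit 0x40001000001000040000001000001000000000000000000000000040000000000040040000000040000)),
  (t1 (nat_lit 0x1040001040000001000040000040040000040000001000000000001040000000001001000040001000) (nat_lit 0x40001040000000000040000040000000000000001000000000000000000000000000000000000000)),
  (t1 (nat_lit 0x40001000001001040040001000001000001000000040001000040000040040000000040001000000) (nat_lit 0x40000000001000001000000000001000000000000000000000040001000000)),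
  (t1 (nat_lit 0x1040000040040001001040000040000040000000001040000001000001001000000001040000000) (nat_lit 0x1000000000000001000000000040000040000000001040000001000001001000000000040000000)),
  (t1 (nat_lit 0x40000000040001040001040000040000001001000000040000040000040001001000000000000040040) (nat_lit 0x40000000040001040001000000040000000001000000000000000000040000001000000000000000040)),
  (t1 (nat_lit 0x1000000001040001040001000001000040040000000001000001000001040040000000000000001001) (nat_lit 0x40000040001000000000000040000000001000001000000000040000000000000001000)),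
  (t4 (nat_lit 0x1000000000000) (nat_lit 0)),
  (t4 (nat_lit 0x40000000000000) (nat_lit 0)),
  (t1 (nat_lit 0x40001000001001040040000040000001040000000001040000001000040040000000000000001001) (nat_lit 0x40000000000001040040000040000000000000000000040000001000040000000000000000001001)),
  (t1 (nat_lit 0x1040000040040001001000001000040001000000040001000040000001001000000000000040040) (nat_lit 0x40000000000000000000001000000000000000040000000001000000000000040040)),
  (t1 (nat_lit 0x1040000040040001001001000001000000040040000000001000001001001000000040001000000) (nat_lit 0x1040000040040001000001000000000000000040000000000000000000001000000040001000000)),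
  (t1 (nat_lit 0x40001000001001040040040000040000000001001000000040000040040040000000001040000000) (nat_lit 0x40000000000000040000040000000000000001000000000000000000000040000000000040000000)),
  (t1 (nat_lit 0x1001001000000001040001001040040000040000001000000040000001000001000000040001) (nat_lit 0x1000000000000000000000040040000040000000000000040000001000001000000040000)),
  (t1 (nat_lit 0x40040040000000040001040040001001000001000040000000001000040000040000000001040) (nat_lit 0x40000000000000001000000000000000000000000000000000000040000040000000000000)),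
  (t1 (nat_lit 0x40001000001001040040040000040000000001001000000040000040040040000000001040000000) (nat_lit 0x40000000001001000040040000000000000000001000000040000040000040000000000040000000)),
  (t1 (nat_lit 0x1040000040040001001001000001000000040040000000001000001001001000000040001000000) (nat_lit 0x40040001000000000001000000000040000000000000000001000000000000000000000)),
  (t1 (nat_lit 0x1040001001000000000000000000000000001001001040001040040040040040001040) (nat_lit 0x1000000000000000000000000000001000000000001040000000000040001000)),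
  (t1 (nat_lit 0x40001040040000000000000000000000000040040040001040001001001001001040001) (nat_lit 0x1040000000000000000000000000000040000000001040000001001001000040001)),
  (t1 (nat_lit 0x1001040000000040001040001040000001000040000001001000001000040000001001000000) (nat_lit 0x1040000000000001040000040000001000040000001000000001000040000000000000000)),
  (t1 (nat_lit 0x40040001000000001040001040001000040000001000040040000040000001000040040000000) (nat_lit 0x40000000000001040000000000000040000000000040000000040000000000000000000000)),
  (t1 (nat_lit 0x1040001040000040000001001000000040000040000040001001000000000000040040040000000040) (nat_lit 0x1040001000000040000000000000000040000000000040001000000000000000040000040000000040)),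
  (t1 (nat_lit 0x40001040001000001000040040000000001000001000001040040000000000000001001001000000001) (nat_lit 0x40000040001000000000000000000000000000001000000040000000000000000000001000000000000)),
  (t1 (nat_lit 0x40040040001001040040040001001040001000000000000001040001001) (nat_lit 0x40040040001000000000000001001040000000000000000001040000001)),
  (t1 (nat_lit 0x1001001040040001001001040040001040000000000000040001040040) (nat_lit 0x40000001001001040040000000000000000000040000000040)),
  (t1 (nat_lit 0x40040040001001040040040001001040001000000000000001040001001) (nat_lit 0x40040040001001040040040000000000001000000000000001040000001)),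
  (t1 (nat_lit 0x1001001040040001001001040040001040000000000000040001040040) (nat_lit 0x40040000000000000000001040000000000000040000000040))]

def U3 : List T := [(t1 (nat_lit 0x1001001000000001040040040040001000001000000001001000000001000001001001000000) (nat_lit 0x1000000001040040040040000000000000000000000000000000000000001001000000)),
  (t1 (nat_lit 0x40040040000000040001001001001040000040000000040040000000040000040040040000000) (nat_lit 0x40000000040000000000000000000000000000000000000000000000000040040000000)),
  (t1 (nat_lit 0x40040001040000000000000001040001001000000000000000000000000001001001040001040040040) (nat_lit 0x40001000000000000000001040000001000000000000000000000000001000000000000000040040)),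
  (t1 (nat_lit 0x1001040001000000000000040001040040000000000000000000000000040040040001040001001001) (nat_lit 0x1000040001000000000000040000000040000000000000000000000000040000000001000001000000)),
  (t1 (nat_lit 0x40040000001000040000040040000000000000040040000001040000040001001040001000001000) (nat_lit 0x40000000000000040000040000000000000000000000000000040000000001001040001000000000)),
  (t1 (nat_lit 0x1001000040000001000001001000000000000001001000040001000001040040001040000040000) (nat_lit 0x1000000000000000000001000000000000001001000000000000001040040000040000000000)),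
  (t1 (nat_lit 0x40040001000000001040001001040001000001000000001001000040000001000000000040001) (nat_lit 0x40001000000000040001000040001000001000000001000000000000000000000000000000)),
  (t1 (nat_lit 0x1001040000000040001040040001040000040000000040040000001000040000000000001040) (nat_lit 0x1000040000000000000040000000040000040000000040000000001000000000000000001000)),
  (t1 (nat_lit 0x1000001000000001001000040000001000000000040001000000040040001000000001040001001040) (nat_lit 0x1000000040000001000000000040001000000000040001000000000040001000040)),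
  (t1 (nat_lit 0x40000040000000040040000001000040000000000001040000000001001040000000040001040040001) (nat_lit 0x40000000000000040000000000000040000000001000040000000000000040000000)),
  (t1 (nat_lit 0x1040001040000040000001040000000001000001000001000000001040000000040040000040001000) (nat_lit 0x1000001040000000000000000000000000000001000000000000001000000000040040000040000000)),
  (t1 (nat_lit 0x40001040001000001000040001000000040000040000040000000040001000000001001000001040000) (nat_lit 0x40001040000000001000000001000000000000040000000000000040001000000000000000000000000)),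
  (t1 (nat_lit 0x40000000040001040001040000001000040000001001000001000040000001001000000000000001001) (nat_lit 0x40000000000001040000040000001000040000001000000001000040000000000000000000000000001)),
  (t1 (nat_lit 0x1000000001040001040001000040000001000040040000040000001000040040000000000000040040) (nat_lit 0x1040000000000000040000000000040000000040000000000000000000000000000000040)),
  (t1 (nat_lit 0x1040001040001000001000001000000040000040000040000000001040001040000000000040001000) (nat_lit 0x1040000040001000001000001000000000000040000000000000001040001000000000000040001000)),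
  (t1 (nat_lit 0x40001040001040000040000040000000001000001000001000000040001040001000000000001040000) (nat_lit 0x40000000000040000040000040000000001000000000001000000040000040001000000000000040000)),
  (t1 (nat_lit 0x40040000000040000040001001000000040001000000001000000001040040040040000040000001) (nat_lit 0x40040000000000000000001000000000000000000000000000000001040000000040000040000001)),
  (t1 (nat_lit 0x1001000000001000001040040000000001040000000040000000040001001001001000001000040) (nat_lit 0x1000001040000000000001000000000000000000040000001001000000000000040)),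
  (t1 (nat_lit 0x1001040000000040040001040001000001000040000001001000001000040000001001000000) (nat_lit 0x1040001000001000000000001001000001000000000001000000000)),
  (t1 (nat_lit 0x40040001000000001001040001040000040000001000040040000040000001000040040000000) (nat_lit 0x1000000001001040000040000040000001000040040000040000001000040000000000)),
  (t1 (nat_lit 0x1040040001000000040000000040001040040001000001000040000001001000040000001000) (nat_lit 0x1040000001000000000000000000000000040000000000000040000000001000000000000000)),
  (t1 (nat_lit 0x40001001040000000001000000001040001001040000040000001000040040000001000040000) (nat_lit 0x40000001040000000001000000001000001000000000000000000000000040000001000000000)),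
  (t1 (nat_lit 0x40000040000000001040000000001001000001040000001001001001001000001000000040040000) (nat_lit 0x40000000000000001000000000001001000000040000001000001000000000000000000000040000)),
  (t1 (nat_lit 0x1000001000000040001000000040040000040001000040040040040040000040000000001001000) (nat_lit 0x1000000040001000000040040000000000000040000040000000000000000000001000000)),
  (t1 (nat_lit 0x40000001000040040000000001040000000000001040000001040040001000040000001000001001000) (nat_lit 0x1000000040000000001040000000000000040000000040040001000000000000000000000000)),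
  (t1 (nat_lit 0x1000040000001001000000040001000000000040001000040001001040000001000040000040040000) (nat_lit 0x1000040000001000000000040000000000000000000000000000000040000001000000000000000000)),
  (t1 (nat_lit 0x40040040040040000040000001000000040040000001000001001000000000000040040001000000001) (nat_lit 0x40040040000040000000000000000040000001000000001000000000000000000000000000001)),
  (t1 (nat_lit 0x1001001001001000001000040000000001001000040000040040000000000000001001040000000040) (nat_lit 0x1001000000000000000000000000000001000000040000000040000000000000001001000000000040)),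
  (t1 (nat_lit 0x1000001000000001040000000040040000040001000040001040001000040000001040000000001) (nat_lit 0x1000001000000001040000000040000000000000000040001040000000040000000040000000000)),
  (t1 (nat_lit 0x40000040000000040001000000001001000001040000001040001040000001000040001000000040) (nat_lit 0x40000040000000040000000000000001000001000000000040000000000000000000000000000000)),
  (t1 (nat_lit 0x40000001000001001000000000000040040001000000001040040040040040000040000001000000040) (nat_lit 0x40000001000001000000000000000040040000000000001000000040040040000040000001000000040)),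
  (t1 (nat_lit 0x1000040000040040000000000000001001040000000040001001001001001000001000040000000001) (nat_lit 0x40000040000000000000000000000000000000040001001000000000000000000040000000000)),
  (t1 (nat_lit 0x40000001000040040000001000040000000000040001001040000000001000000001040001001040) (nat_lit 0x40000001000000000000000040000001040000000001000000001000001000000)),
  (t1 (nat_lit 0x1000040000001001000040000001000000000001040040001000000040000000040001040040001) (nat_lit 0x1000000000001000000040000001000000000000000040000000000040000000040001040000001)),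
  (t1 (nat_lit 0x40000000040001040001040040000040000000040040000040000001000001001000000040001000000) (nat_lit 0x40000000040000040000000000000040000000000040000040000000000000001000000000001000000)),
  (t1 (nat_lit 0x1000000001040001040001001000001000000001001000001000040000040040000000001040000000) (nat_lit 0x1001000000000000001000000000000000000000040000000001040000000)),
  (t1 (nat_lit 0x1040000040001001040000040000001000001001000040000001000040040000000001040000000) (nat_lit 0x1040000040001001000000040000000000001000000000000000000000000000000001000000000)),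
  (t1 (nat_lit 0x40001000001040040001000001000040000040040000001000040000001001000000040001000000) (nat_lit 0x40000000000040040001000000000000000040000000001000000000001001000000040001000000)),
  (t1 (nat_lit 0x1001000001000040000001001000000000000001001040000000040040001040001000001000040) (nat_lit 0x1001000000000040000000001000000000000001001000000000000040000000000000001000000)),
  (t1 (nat_lit 0x40040000040000001000040040000000000000040040001000000001001040001040000040000001) (nat_lit 0x40040000000000000000000040000000000000040040001000000001000000001000000040000001)),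
  (t1 (nat_lit 0x40000040000000040001000000001001000001040000001040001040000001000040001000000040) (nat_lit 0x40000040000000040000000000000001000000040000000040000000000001000040001000000040)),
  (t1 (nat_lit 0x1000001000000001040000000040040000040001000040001040001000040000001040000000001) (nat_lit 0x40000000000000000000000001000040000000040000000000)),
  (t1 (nat_lit 0x40000040000000001040000000001001000001040000001001001001001000001000000040040000) (nat_lit 0x40000000000000000040000000001001000000040000000001000001001000001000000040000000)),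
  (t1 (nat_lit 0x1000001000000040001000000040040000040001000040040040040040000040000000001001000) (nat_lit 0x1000000000000000000040040000000000000000040000040040000040000000000001000)),
  (t1 (nat_lit 0x40040000040001000001040001040000040000001040000000001000001000001000000001040) (nat_lit 0x40000000000040000000000000000000000000000000000000000001000000000040)),
  (t1 (nat_lit 0x1001000001040000040001040001000001000040001000000040000040000040000000040001) (nat_lit 0x1001000000000000000000000001000001000000001000000000000000000040000000000000)),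
  (t1 (nat_lit 0x1040001040000000000001040000040040040040000001000040001000000040040000001000) (nat_lit 0x1000000040040000001000)),
  (t1 (nat_lit 0x40001040001000000000040001000001001001001000040000001040000000001001000040000) (nat_lit 0x1000001000000000000001000001001001001000000000001040000000000000000040000)),
  (t1 (nat_lit 0x1000001040040000000000000001001001000000001001040001040000001000040040000000001) (nat_lit 0x40040000000000000001001000000000001000000000040000000000040040000000000)),
  (t1 (nat_lit 0x40000040001001000000000000040040040000000040040001040001000040000001001000000040) (nat_lit 0x40040000000000040000001000000000000000000000000000000)),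
  (t1 (nat_lit 0x1040000000040000000040001040040001000040000001001000000040000001000001000000001040) (nat_lit 0x1040000000040000000000000000000001000040000001001000000000000001000001000000000040)),
  (t1 (nat_lit 0x40001000000001000000001040001001040000001000040040000000001000040000040000000040001) (nat_lit 0x40000000000000000000001000001001040000000000040040000000001000040000040000000000000)),
  (t1 (nat_lit 0x1000040001000000040040000001000000000001040001040000000000001040000001001001001) (nat_lit 0x40001000000000040000000000000000001000001000000000000000040000001001001001)),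
  (t1 (nat_lit 0x40000001040000000001001000040000000000040001040001000000000040001000040040040040) (nat_lit 0x40000000001000000000000000000040001040001000000000000000000040040040040)),
  (t1 (nat_lit 0x40001000001001001001000001000040000040040000000040000040000000040001001040000000) (nat_lit 0x1001000000000000000000000040040000000000000000000000000000000000000000)),
  (t1 (nat_lit 0x1040000040040040040000040000001000001001000000001000001000000001040040001000000) (nat_lit 0x1000000040040000000000000000001000000000000000001000001000000001000000001000000))]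

def U4 : List T := [(t1 (nat_lit 0x40000040000000040001040001000000001000000001040001001040000001000040040000000001) (nat_lit 0x40001040000000000001000000000000001001040000000000040000000000000)),
  (t1 (nat_lit 0x1000001000000001040001040000000040000000040001040040001000040000001001000000040) (nat_lit 0x1000001000000000040000000000000040000000000001040040000000000000000001000000000)),
  (t1 (nat_lit 0x40001001040001000001000000040040000001000040000040040000000000000040040000001040000) (nat_lit 0x1001040000000001000000040000000000000040000000040000000000000040040000001000000)),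
  (t1 (nat_lit 0x1040040001040000040000000001001000040000001000001001000000000000001001000040001000) (nat_lit 0x1040040000000000040000000000001000000000000000001000000000000000000000000040001000)),
  (t1 (nat_lit 0x1001000040000001000000000040001000000040040001000000001001040040001001000001000) (nat_lit 0x40000000000000000040000000000000000001000000001001000040001000000001000)),
  (t1 (nat_lit 0x40040000001000040000000000001040000000001001040000000040040001001040040000040000) (nat_lit 0x1001040000000040040001000040000000040000)),
  (t1 (nat_lit 0x40001000000001001040000000040001001040040000040000001001000000040001000040000) (nat_lit 0x1000000000000000000040000000000000000000000000040000000040000)),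
  (t1 (nat_lit 0x1040000000040040001000000001040040001001000001000040040000000001040000001000) (nat_lit 0x1000000000000040001000000001000000000001000001000000000000000000000000000000)),
  (t1 (nat_lit 0x1000001000040000000001040000001000000000040001040001000000040000000040040040001001) (nat_lit 0x1000000000000001040000000000000000000000040001000000040000000040000040001001)),
  (t1 (nat_lit 0x40000040000001000000040001000040000000000001040001040000000001000000001001001040040) (nat_lit 0x40000001000000040000000000000000000001000000040000000000000000000001000040040)),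
  (t1 (nat_lit 0x1040040001001000001000001000000040000001000001001001000000000000040040000040001000) (nat_lit 0x1040000001001000000000001000000000000001000001000000000000000000000000000000001000)),
  (t1 (nat_lit 0x40001001040040000040000040000000001000040000040040040000000000000001001000001040000) (nat_lit 0x40000001040040000000000040000000001000040000040000000000000000000001001000001040000)),
  (t1 (nat_lit 0x40000040000000001001000000001000001000000040001000000040040000040001000001001001001) (nat_lit 0x40000000000000001001000000000000000000000040000000000000040000000001000001000001000)),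
  (t1 (nat_lit 0x1000001000000040040000000040000040000000001040000000001001000001040000040040040040) (nat_lit 0x1000000040040000000000000000000000000000000000001000000001040000040000040000)),
  (t1 (nat_lit 0x1000001000000001001000040000001000000000040001000000040040001000000001040001001040) (nat_lit 0x1000001000000001000000040000001000000000000000000000040000000000000001040001000040)),
  (t1 (nat_lit 0x40000040000000040040000001000040000000000001040000000001001040000000040001040040001) (nat_lit 0x40000040000000040000000000000040000000000001000000000000001000000000040000040000000)),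
  (t1 (nat_lit 0x40040000001040000040040001001000001000040001000000040001000040000001001000000) (nat_lit 0x40040000001040000040000001001000001000040001000000000001000000000000001000000)),
  (t1 (nat_lit 0x1001000040001000001001040040000040000001040000000001040000001000040040000000) (nat_lit 0x40000000000001040040000040000000040000000001040000001000000040000000)),
  (t1 (nat_lit 0x40040040001040001001001040040001040000000000000001040001001000000000000) (nat_lit 0x40000000001040001001000000000001040000000000000000040001001000000000000)),
  (t1 (nat_lit 0x1001001040001040040040001001040001000000000000040001040040000000000000) (nat_lit 0x1001040000040040000001001040000000000000000000000040040000000000000)),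
  (t1 (nat_lit 0x40040001000000001001001040040000001000040040000000001040000001000000000001040) (nat_lit 0x1000000000001001000040000001000040000000000001040000000000000000001040)),
  (t1 (nat_lit 0x1001040000000040040040001001000040000001001000000040001000040000000000040001) (nat_lit 0x1001040000000000040040001000000040000000001000000040000000000000000000040000)),
  (t1 (nat_lit 0x40040000040001000040040040040040000040000000001001000000001000001000000040001) (nat_lit 0x40040000040001000000040000040000000000000000001000000000000000001000000000000)),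
  (t1 (nat_lit 0x1001000001040000001001001001001000001000000040040000000040000040000000001040) (nat_lit 0x40000001000001000001000001000000040000000000000000040000000001000)),
  (t1 (nat_lit 0x40001001001040040001040000000000000040001040040000000000000000000000000001001001040) (nat_lit 0x1000040040001040000000000000040001040040000000000000000000000000000001001040)),
  (t1 (nat_lit 0x1040040040001001040001000000000000001040001001000000000000000000000000040040040001) (nat_lit 0x1000040000000000040000000000000000000040000000000000000000000000000000000040040000)),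
  (t1 (nat_lit 0x40001000000000001040000001040040001000001000040001000000040000001000001040040000000) (nat_lit 0x1000000000000000000001000040001000000000040000000000000000001000000040040000000)),
  (t1 (nat_lit 0x1040000000000040001000040001001040000040000001040000000001000040000040001001000000) (nat_lit 0x1040000000000000001000040001000040000000000000000000000001000040000000000000000000)),
  (t1 (nat_lit 0x40000040001001000000001040000000000040001000001040040001000040000001040000000001) (nat_lit 0x1000000000000040000000000040001000000040000000000000000001040000000001)),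
  (t1 (nat_lit 0x1000001040040000000040001000000000001040000040001001040000001000040001000000040) (nat_lit 0x1000001040000000000000000000000000000040000000000001000000001000040000000000040)),
  (t1 (nat_lit 0x40040000000001040000000040000000040001001001001000001000040000001001000000001000001) (nat_lit 0x40000000000000040000000040000000000000001001000000000000040000000000000000000000000)),
  (t1 (nat_lit 0x1001000000040001000000001000000001040040040040000040000001000040040000000040000040) (nat_lit 0x1000000000000000000000000000001000040040000000000000000000000000000000000000000)),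
  (t1 (nat_lit 0x40000040040040000000001040000000000040001000040040001001040000040000000001001000) (nat_lit 0x40000000000000000000001040000000000000000000000000000001000000000000000001001000)),
  (t1 (nat_lit 0x1000001001001000000040001000000000001040000001001040040001000001000000040040000) (nat_lit 0x1001001000000040000000000000001000000001001000040001000001000000040040000)),
  (t1 (nat_lit 0x40001000000000001040000001001040040001000001000000040040000000001000001001001000000) (nat_lit 0x40000000000000000040000001001000040001000001000000000000000000001000000000000000000)),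
  (t1 (nat_lit 0x1040000000000040001000040040001001040000040000000001001000000040000040040040000000) (nat_lit 0x40040001000040000040000000001001000000040000000000000000000)),
  (t1 (nat_lit 0x1040040001000000001000000001040040001001001000001000000001001000000040000040) (nat_lit 0x1000040000000000001000000001000040000000001000001000000000001000000000000000)),
  (t1 (nat_lit 0x40001001040000000040000000040001001040040040000040000000040040000000001000001) (nat_lit 0x40001000000000000040000000040001000000000040000040000000000040000000001000001)),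
  (t1 (nat_lit 0x40040040001040001001001040040001040000000000000001040001001000000000000) (nat_lit 0x40000000001000000000001000000001040000000000000001000000000000000000000)),
  (t1 (nat_lit 0x1001001040001040040040001001040001000000000000040001040040000000000000) (nat_lit 0x1001040001000000040001001040000000000000000040001000000000000000000)),
  (t4 (nat_lit 0x1000000000) (nat_lit 0)),
  (t4 (nat_lit 0x40000000000) (nat_lit 0)),
  (t1 (nat_lit 0x40000001000001001000040000001000040040000000001040000000000001040000001040040001) (nat_lit 0x1001000040000000000040000000000001040000000000001000000000040040001)),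
  (t1 (nat_lit 0x1000040000040040000001000040000001001000000040001000000000040001000040001001040) (nat_lit 0x1000000000040040000000000000000000001000000040000000000000040001000000000000040)),
  (t1 (nat_lit 0x1040000001040001040000001000040001000000040000040000040000000040001000000001001) (nat_lit 0x1000000001000001040000001000040000000000000000040000040000000040000000000001000)),
  (t1 (nat_lit 0x40001000040001040001000040000001040000000001000001000001000000001040000000040040) (nat_lit 0x40001000040001040000000040000000000000000001000000000000000000000000000000040000)),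
  (t1 (nat_lit 0x40000001000040040000001000040000000000040001001040000000001000000001040001001040) (nat_lit 0x40000001000000040000000000040000000000000001001040000000001000000001000001000000)),
  (t1 (nat_lit 0x1000040000001001000040000001000000000001040040001000000040000000040001040040001) (nat_lit 0x40000001000000000000000000000000001040040000000000040000000040001040000001)),
  (t1 (nat_lit 0x40001000001040001040040000040000000001001000001000040000000000001040040001000000) (nat_lit 0x1000001040001000040000040000000000001000001000040000000000000040000000000000)),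
  (t1 (nat_lit 0x1040000040001040001001000001000000040040000040000001000000000040001001040000000) (nat_lit 0x1040000040000040001000000000000000000040000040000000000000000000000001000000000)),
  (t1 (nat_lit 0x1040040040001001040001000000000000040001040040000000000000000000000000001001001040) (nat_lit 0x1040040040000001000000000000000000000000000000000000000000000000000000000000001000)),
  (t1 (nat_lit 0x40001001001040040001040000000000000001040001001000000000000000000000000040040040001) (nat_lit 0x40000000000000040001000000000000000001000001001000000000000000000000000000000040001)),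
  (t1 (nat_lit 0x1040000001001001001001000001000000040040000000040000040000000001040000000001001) (nat_lit 0x1000000000001000001001000001000000040000000000000000040000000000040000000000000)),
  (t1 (nat_lit 0x40001000040040040040040000040000000001001000000001000001000000040001000000040040) (nat_lit 0x40001000000040000040040000040000000000001000000001000000000000000000000000000000)),
  (t1 (nat_lit 0x1040001040000000000040001000001040001040001000001000001000000040000040000040) (nat_lit 0x1040001000000000000000000000001040000040000000000000000000000040000040000000)),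
  (t1 (nat_lit 0x40001040001000000000001040000040001040001040000040000040000000001000001000001) (nat_lit 0x40000040001000000000001000000040000000000000000000000000000000000000000000001))]

def U5 : List T := [(t1 (nat_lit 0x40001000000001001001000000001001040040001040000040000001000000040000001000001) (nat_lit 0x1001000000000040000000000000000000000000001000000)),
  (t1 (nat_lit 0x1040000000040040040000000040040001001040001000001000040000000001000040000040) (nat_lit 0x1000000000000000000000000040040001001000000000001000000000000001000040000000)),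
  (t1 (nat_lit 0x40000000001000001000001040040000000000000001001001000000001001040001040000001000040) (nat_lit 0x1000000000000040040000000000000001001001000000000000000000040000001000000)),
  (t1 (nat_lit 0x1000000040000040000040001001000000000000040040040000000040040001040001000040000001) (nat_lit 0x1000000040000000000000000000000000000000040040040000000000000001000000000040000001)),
  (t1 (nat_lit 0x40001000040040001001040000040000000001001000000040000040040040000000001040000000) (nat_lit 0x40001000000000000001000000000000000000000000000000000040040040000000001040000000)),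
  (t1 (nat_lit 0x1040000001001040040001000001000000040040000000001000001001001000000040001000000) (nat_lit 0x40000001001000040001000001000000000000000000001000000000000000000040000000000)),
  (t1 (nat_lit 0x1040000001040040001000001000040001000000040000001000001040040000000040001000000) (nat_lit 0x1040000000040000000000000000040001000000040000001000000040040000000040000000000)),
  (t1 (nat_lit 0x40001000040001001040000040000001040000000001000040000040001001000000001040000000) (nat_lit 0x40000000000000001000000000000000040000000000000040000000000000000000000000000000)),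
  (t1 (nat_lit 0x1001000000000000040040040000000040040001040001000040000001001000000040000040000040) (nat_lit 0x40000000000000001000000000000000000000000000000000040000040)),
  (t1 (nat_lit 0x40040000000000000001001001000000001001040001040000001000040040000000001000001000001) (nat_lit 0x1001000000000001001040001000000001000000000000000001000000000000)),
  (t1 (nat_lit 0x1000001000000001001000000040000040000000001040040001000000001000000001001001040040) (nat_lit 0x1000000000000001001000000000000040000000000000000000000000001000000000001000000000)),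
  (t1 (nat_lit 0x40000040000000040040000000001000001000000040001001040000000040000000040040040001001) (nat_lit 0x40000000000000040040000000001000000000000000001001000000000040000000000040000001001)),
  (t1 (nat_lit 0x40040040040040000040000040000000001001000040000000000001040000000040040000001040000) (nat_lit 0x40000000040040000000000000000000001001000000000000000000040000000000040000001000000)),
  (t1 (nat_lit 0x1001001001001000001000001000000040040000001000000000040001000000001001000040001000) (nat_lit 0x1001000000000001000001000000040040000001000000000000000000000001000000040001000)),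
  (t1 (nat_lit 0x1000000001001001040040000001000040040000000001040000001000000000001040000000040040) (nat_lit 0x1000000000000000040000000001000040000000000001000000001000000000000000000000040040)),
  (t1 (nat_lit 0x40000000040040040001001000040000001001000000040001000040000000000040001000000001001) (nat_lit 0x40000000000000000000001000040000000001000000040001000040000000000000001000000000000)),
  (t1 (nat_lit 0x40040000001000040000000000040001001040000000001000000001040001001040000040000001) (nat_lit 0x40000000000000040000000000040000000000000000001000000001000001000000000040000001)),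
  (t1 (nat_lit 0x1001000040000001000000000001040040001000000040000000040001040040001000001000040) (nat_lit 0x1000000000000000000000000000000001000000040000000040001040000001000000000040)),
  (t1 (nat_lit 0x1001000001040000001040040001040000040000040000000001000040000040040040000000) (nat_lit 0x1000000040000001040000001000000000000000000000001000040000000040000000000)),
  (t1 (nat_lit 0x40040000040001000040001001040001000001000001000000040000001000001001001000000) (nat_lit 0x40000000000000040000001040001000001000001000000040000000000001000001000000)),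
  (t1 (nat_lit 0x1001001040001040040040040040001040000000000000001040001001000000000000) (nat_lit 0x1000001040000000000000000000000000000000000000001000000000000000000000)),
  (t1 (nat_lit 0x40040040001040001001001001001040001000000000000040001040040000000000000) (nat_lit 0x40000040000000001001001001001000001000000000000040001000000000000000000)),
  (t1 (nat_lit 0x40001000040001001040000001000040000040040000001000040000001001000000040001000000) (nat_lit 0x40000001000000000040040000001000040000000001000000000001000000)),
  (t1 (nat_lit 0x1040000001040040001000040000001000001001000040000001000040040000000001040000000) (nat_lit 0x1000000001000000000000040000001000000000000040000000000000040000000001040000000)),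
  (t1 (nat_lit 0x40040040040000001000040040000000001001000040000001001000000001040000000001000000001) (nat_lit 0x40000040000000000040040000000000001000000000001001000000001000000000001000000001)),
  (t1 (nat_lit 0x1001001001000040000001001000000040040000001000040040000000040001000000040000000040) (nat_lit 0x1000001000000000000000000000000000040000001000040040000000040001000000040000000040)),
  (t1 (nat_lit 0x40000000040001040001040000040000001001000000040000040000040001001000000000000040040) (nat_lit 0x1040001000000040000000000000000040000040000000001000000000000000000040)),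
  (t1 (nat_lit 0x1000000001040001040001000001000040040000000001000001000001040040000000000000001001) (nat_lit 0x1000000001040000040001000000000000000000000000000000000001040000000000000000001000)),
  (t1 (nat_lit 0x40040000001040000040001040001000040000001000001001000001000040000000000040001) (nat_lit 0x1000000040001000001000040000001000001000000001000040000000000040000)),
  (t1 (nat_lit 0x1001000040001000001040001040000001000040000040040000040000001000000000001040) (nat_lit 0x1001000040001000000040001040000000000040000040000000040000000000000000000000)),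
  (t1 (nat_lit 0x40001001001040040001040000000000000001040001001000000000000000000000000040040040001) (nat_lit 0x40000000000040000000040000000000000001000001001000000000000000000000000040040000000)),
  (t1 (nat_lit 0x1040040040001001040001000000000000040001040040000000000000000000000000001001001040) (nat_lit 0x1000000000000000000040001040040000000000000000000000000000000001000)),
  (t1 (nat_lit 0x1001000000040000040001001000000000000001001000001040000040040001001000040000001) (nat_lit 0x1000000000000000000000000000000000000000000000000040000040000000000000000000001)),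
  (t1 (nat_lit 0x40040000000001000001040040000000000000040040000040001000001001040040000001000040) (nat_lit 0x40000000000001000001000000000000000000000000000000000000000001000000000001000040)),
  (t1 (nat_lit 0x40000000040040001001040000001000040000001001000040000001000000000001040040001000000) (nat_lit 0x40000000000040000001040000000000000000000000000040000000000000000001000000000000000)),
  (t1 (nat_lit 0x1000000001001040040001000040000001000040040000001000040000000000040001001040000000) (nat_lit 0x1000000040000000000000001000000000000000000000000000000040001001000000000)),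
  (t1 (nat_lit 0x40040000000001000001001001000000040001000000000001040000040040001001001000001000) (nat_lit 0x40000000000000000000000001000000040001000000000000000000040040001000000000001000)),
  (t1 (nat_lit 0x1001000000040000040040040000000001040000000000040001000001001040040040000040000) (nat_lit 0x1000000000000000000040000000000040000000000000001000000000040000000000040000)),
  (t1 (nat_lit 0x40001000001040040001001000001000001000000040000001000001001001000000000000040040) (nat_lit 0x40000000001040000001000000001000000000000040000001000001000000000000000000000000)),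
  (t1 (nat_lit 0x1040000040001001040040000040000040000000001000040000040040040000000000000001001) (nat_lit 0x40000001040000000040000000000000000000040000040000000000000000000001001)),
  (t1 (nat_lit 0x40000001001000000040000001000001000000001040001040000000040000000040001040040001) (nat_lit 0x40000001000000000040000000000000000000000040001040000000040000000000001040040000)),
  (t1 (nat_lit 0x1000040040000000001000040000040000000040001040001000000001000000001040001001040) (nat_lit 0x40000000000000000000000000000000000000040000000000000000000001040000000000)),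
  (t1 (nat_lit 0x40000001040000000001001000040000000000040001040001000000000040001000040040040040) (nat_lit 0x40000001040000000001001000040000000000000000040001000000000000000000040040040040)),
  (t1 (nat_lit 0x1000040001000000040040000001000000000001040001040000000000001040000001001001001) (nat_lit 0x40000000000040040000000000000000001000000040000000000001000000000000000000)),
  (t1 (nat_lit 0x1001000001040000040001040001000001000040001000000040000040000040000000040001) (nat_lit 0x1001000000000000000000000001000001000000001000000000000000000040000000000000)),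
  (t1 (nat_lit 0x40040000040001000001040001040000040000001040000000001000001000001000000001040) (nat_lit 0x40040000000001000001000001040000040000001040000000001000001000000000000001000)),
  (t1 (nat_lit 0x40001000040001001040001000001000001000000040000001000001001001000000000000040040) (nat_lit 0x40001000000001000000001000001000000000000000000000000001000001000000000000040000)),
  (t1 (nat_lit 0x1040000001040040001040000040000040000000001000040000040040040000000000000001001) (nat_lit 0x40000001040000001040000040000000000000001000000000040000040000000000000000001)),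
  (t1 (nat_lit 0x1001001040001040040040040040001040000000000000001040001001) (nat_lit 0x1001001000001000000040040000001000000000000000000040000000)),
  (t1 (nat_lit 0x40040040001040001001001001001040001000000000000040001040040) (nat_lit 0x40040040001040001001000000001040001000000000000000000000000)),
  (t1 (nat_lit 0x1040040001000040000001040000000001000040000040001001000000001040000000000040001000) (nat_lit 0x1000040001000000000001000000000000000040000040001000000000000040000000000040001000)),
  (t1 (nat_lit 0x40001001040000001000040001000000040000001000001040040000000040001000000000001040000) (nat_lit 0x40001000040000001000040001000000000000000000000040000000000000000000000000000040000)),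
  (t1 (nat_lit 0x40001000000001001040000000040040040001001000040000001001000000040001000040000) (nat_lit 0x40000000000000000000000000040000000000001000040000000000000000000000000000000)),
  (t1 (nat_lit 0x1040000000040040001000000001001001040040000001000040040000000001040000001000) (nat_lit 0x1000000000001001000040000000000000000000000001000000001000)),
  (t1 (nat_lit 0x40001000001040001040040000040000000001001000001000040000000000001040040001000000) (nat_lit 0x1000001040001000040000040000000001000000001000040000000000001000040001000000)),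
  (t1 (nat_lit 0x1040000040001040001001000001000000040040000040000001000000000040001001040000000) (nat_lit 0x1040000040000040001000000000000000040000000040000000000000000040001000040000000))]

def U6 : List T := [(t1 (nat_lit 0x40001001040000040000001000001001000040000001000040040000000001040000000000001040000) (nat_lit 0x40001001000000000000001000001000000040000001000040040000000001000000000000001040000)),
  (t1 (nat_lit 0x1040040001000001000040000040040000001000040000001001000000040001000000000040001000) (nat_lit 0x40040001000001000040000040000000000000040000000000000000040001000000000040000000)),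
  (t1 (nat_lit 0x1001040040000040000001001000000040001000040000000000040001000000001001040000000040) (nat_lit 0x1001000040000040000001000000000040000000040000000000000000000000001000000000000000)),
  (t1 (nat_lit 0x40040001001000001000040040000000001040000001000000000001040000000040040001000000001) (nat_lit 0x40040001000000000000040000000000000000000000000000000001000000000040000001000000001)),
  (t1 (nat_lit 0x40000001000040040000000000000001001000040001000040040001001000040000001040000000001) (nat_lit 0x40000000000000000000000000000000001000000000000040000001001000040000001040000000000)),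
  (t1 (nat_lit 0x1000040000001001000000000000040040000001040000001001040040000001000040001000000040) (nat_lit 0x1001000000000000000040000001000000000001040040000000000040000000000000)),
  (t1 (nat_lit 0x40000040000000040001001040000000000040001000040040040040000001000040000040040000) (nat_lit 0x40000000000000000001000040000000000040000000000000040040000000000040000000040000)),
  (t1 (nat_lit 0x1000001000000001040040001000000000001040000001001001001000040000001000001001000) (nat_lit 0x1000000001040000000000000000000000000001001000000000000000000000001000000)),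
  (t1 (nat_lit 0x1000001001001000000000000001001001000000001040040040040001000001000000001001000) (nat_lit 0x1001000000000000000000000000000000040040040040001000001000000001001000)),
  (t1 (nat_lit 0x40000040040040000000000000040040040000000040001001001001040000040000000040040000) (nat_lit 0x40040000000000000000000000000000000000000000000040000040000000040040000)),
  (t1 (nat_lit 0x1040000000000040001000040001001040000040000001040000000001000040000040001001000000) (nat_lit 0x1000000000001000000040000001000000000001000040000000000000000000)),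
  (t1 (nat_lit 0x40001000000000001040000001040040001000001000040001000000040000001000001040040000000) (nat_lit 0x1000000000001040000001000040001000000000040001000000040000000000001000000000000)),
  (t1 (nat_lit 0x40001040001040000040000000040040000040000001000001001000000040001000000040000000040) (nat_lit 0x40001040000000000000000000000000000040000001000000000000000000000000000000000000040)),
  (t1 (nat_lit 0x1040001040001000001000000001001000001000040000040040000000001040000000001000000001) (nat_lit 0x40000000001000001000000001001000000000040000000000000000001000000000001000000000)),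
  (t1 (nat_lit 0x40000001000040040000000001040000000000001040000001040040001000040000001000001001000) (nat_lit 0x1000040000000000001040000000000000040000001000000000000040000001000001001000)),
  (t1 (nat_lit 0x1000040000001001000000040001000000000040001000040001001040000001000040000040040000) (nat_lit 0x1000040000000001000000040000000000000000000000040001001000000000000040000040040000)),
  (t1 (nat_lit 0x40000001000000000001040001040000000000001040000001001001001000001000040001000000040) (nat_lit 0x1000000000000040001000000000000000040000001001001001000001000000001000000000)),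
  (t1 (nat_lit 0x1000040000000000040001040001000000000040001000040040040040000040000001040000000001) (nat_lit 0x1000040000000000000000040001000000000000000000040040040040000040000001040000000001)),
  (t1 (nat_lit 0x1040000000000040001000001040040001000040000001040000000001000040000040001001000000) (nat_lit 0x1000000000000000000000001000040001000040000000000000000000000040000040000001000000)),
  (t1 (nat_lit 0x40001000000000001040000040001001040000001000040001000000040000001000001040040000000) (nat_lit 0x40001000000000001000000040001000040000000000000001000000000000000000000000040000000)),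
  (t1 (nat_lit 0x40040040000000040040040040040040000040000000040040000000040000040040040000000) (nat_lit 0x40040000000000000000000000040000000000000040000000000040000000040000000000)),
  (t1 (nat_lit 0x1001001000000001001001001001001000001000000001001000000001000001001001000000) (nat_lit 0x1000000000000001001001001001000000001000000000001000000000000001000001000000)),
  (t1 (nat_lit 0x1001000000001040000000000001040000040040001001040000040000040000000001040000001000) (nat_lit 0x1001000000000040000000000000040000000000001000040000000000000000000000040000001000)),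
  (t1 (nat_lit 0x40040000000040001000000000040001000001001040040001000001000001000000040001000040000) (nat_lit 0x40040000000000000000000000000000000001001040000000000001000001000000000000000040000)),
  (t1 (nat_lit 0x1040000040040040040000040000001000001001000000001000001000000001040040001000000) (nat_lit 0x1000000040040000000000000000001000000000000000001000001000000001000000001000000)),
  (t1 (nat_lit 0x40001000001001001001000001000040000040040000000040000040000000040001001040000000) (nat_lit 0x40001000000000001001000001000040000000000000000040000040000000040001001040000000)),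
  (t1 (nat_lit 0x40001040040000000000000000000000000001001001040040001001001040040001040000000000000) (nat_lit 0x40040000000000000000000000000001001000040000001000000040000001000000000000000)),
  (t1 (nat_lit 0x1040001001000000000000000000000000040040040001001040040040001001040001000000000000) (nat_lit 0x1000000000000000000000000000000000040040000000001040000000000001040001000000000000)),
  (t1 (nat_lit 0x40001000000040040040000000040001001040040000001000040000001001000000040000040) (nat_lit 0x1000000040000040000000000001001040000000000000040000000001000000040000040)),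
  (t1 (nat_lit 0x1040000000001001001000000001040040001001000040000001000040040000000001000001) (nat_lit 0x1040000000000001000000000001040040000001000000000000000000040000000000000000)),
  (t1 (nat_lit 0x1000001040040000000000000040040000040001000040040001001000001000040000040040000) (nat_lit 0x1000000040000000000000000000040000000001000000040001001000000000040000040040000)),
  (t1 (nat_lit 0x40000040001001000000000000001001000001040000001001040040000040000001000001001000) (nat_lit 0x40000000000001000000000000001000000001040000001000040040000000000000000000000000)),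
  (t1 (nat_lit 0x40001000000001000000001040001040001040000040000001000000040000040000040040040000000) (nat_lit 0x40000000000000000000001000000040000040000000000001000000000000040000000000000000000)),
  (t1 (nat_lit 0x1040000000040000000040001040001040001000001000040000000001000001000001001001000000) (nat_lit 0x40001000000000000000001000040000000001000000000001001001000000)),
  (t1 (nat_lit 0x1001000000040000040040040000000001040000000000040001000040040001001040000040000) (nat_lit 0x40000000000000000000001040000000000040001000000000000001040000040000)),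
  (t1 (nat_lit 0x40040000000001000001001001000000040001000000000001040000001001040040001000001000) (nat_lit 0x1001001000000040000000000000000040000001001000040000000000000)),
  (t1 (nat_lit 0x1040000000000040001000040001040001001000001000001000000040000040000040000000001040) (nat_lit 0x1040000000000000001000000001040001000000001000001000000040000000000000000000000040)),
  (t1 (nat_lit 0x40001000000000001040000001040001040040000040000040000000001000001000001000000040001) (nat_lit 0x40000000000000001040000001040000040000000040000040000000000000001000001000000000000)),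
  (t1 (nat_lit 0x1001001040040001001001001001040001000000000000001040001001000000000000) (nat_lit 0x1001000040000000000001001001000001000000000000000000001000000000000000)),
  (t1 (nat_lit 0x40040040001001040040040040040001040000000000000040001040040000000000000) (nat_lit 0x40040000000001000000040040040001040000000000000000001040000000000000000)),
  (t1 (nat_lit 0x1000040000000000040001040001000000000040001000001001001001000040000001040000000001) (nat_lit 0x1000000000000000000001040000000000000040000000001001001001000000000001040000000000)),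
  (t1 (nat_lit 0x40000001000000000001040001040000000000001040000040040040040000001000040001000000040) (nat_lit 0x40000001000000000001040000000000000000000000000040040040040000001000040000000000000)),
  (t1 (nat_lit 0x1040000001040001040040000040000040000000001000001000001000000040001040001000000) (nat_lit 0x1040000040040000000000040000000000000001000001000000040001000001000000)),
  (t1 (nat_lit 0x40001000040001040001001000001000001000000040000040000040000000001040001040000000) (nat_lit 0x1000040000000000000000001000000000000000000040000040000000000040001040000000)),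
  (t1 (nat_lit 0x40000001000000000040001000000040040001000000001001040040001001000001000000001001000) (nat_lit 0x40000000000000000000001000000000000000000000000000040000000000000001000000000000000)),
  (t1 (nat_lit 0x1000040000000000001040000000001001040000000040040001001040040000040000000040040000) (nat_lit 0x1040000000001001000000000000000000001000000000040000000000000000)),
  (t1 (nat_lit 0x1000000001040040040040040000040000001000000040040000001000001001000000000000040040) (nat_lit 0x1000000040040040000040000000000000000040000001000000001000000000000000000)),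
  (t1 (nat_lit 0x40000000040001001001001001000001000040000000001001000040000040040000000000000001001) (nat_lit 0x40001001000000000000000000000000000001000000040000000040000000000000001001)),
  (t1 (nat_lit 0x1001000001040000001001040040000040000001000001001000000040000040001001000000) (nat_lit 0x1000000001040000000001000000000000000000000001001000000000000040000001000000)),
  (t1 (nat_lit 0x40040000040001000040040001001000001000040000040040000000001000001040040000000) (nat_lit 0x40000000040000000000040001001000001000000000040040000000001000000000040000000)),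
  (t1 (nat_lit 0x1000000001040001001040000001000040040000000001000040000040000000040001040001000000) (nat_lit 0x1000000000000001001040000000000040000000000000000000000000000000040001040000000000)),
  (t1 (nat_lit 0x40000000040001040040001000040000001001000000040000001000001000000001040001040000000) (nat_lit 0x40000000000001040040000000000000000001000000000000001000001000000000040000000000000)),
  (t1 (nat_lit 0x1000001000000040040000000040000040000000001040000000001001000001040000040040040040) (nat_lit 0x1000000000000000000040000040000000001040000000001000000000000000040000040000)),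
  (t1 (nat_lit 0x40000040000000001001000000001000001000000040001000000040040000040001000001001001001) (nat_lit 0x40000000001001000000000000000000000040000000000040000000000001000000001000001)),
  (t1 (nat_lit 0x40040000000040001000000040000000040040040040040000040000001001000000040040000001000) (nat_lit 0x40000000000001000000040000000000000040000040000040000000001000000000000000001000)),
  (t1 (nat_lit 0x1001000000001040000000001000000001001001001001000001000040040000000001001000040000) (nat_lit 0x1000000000001040000000000000000001001000001000000000000000040000000001001000040000))]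

def U7 : List T := [(t1 (nat_lit 0x1000040000001001000001000040000001001000000000000001001040000000040040001040001) (nat_lit 0x1000000000001001000001000000000001000000000000000000000000000000000000001040001)),
  (t1 (nat_lit 0x40000001000040040000040000001000040040000000000000040040001000000001001040001040) (nat_lit 0x40000001000040040000040000001000040000000000000000000000001000000001001040000040)),
  (t1 (nat_lit 0x1001001040001040040040001001040001000000000000040001040040000000000000000000000000) (nat_lit 0x1001000040000000000000000001000000000000000000000000000000000000000000000000000000)),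
  (t1 (nat_lit 0x40040040001040001001001040040001040000000000000001040001001000000000000000000000000) (nat_lit 0x40040000000000001001001000040001000000000000000001000001001000000000000000000000000)),
  (t1 (nat_lit 0x1001001040001040040040040040001040000000000000001040001001000000000000) (nat_lit 0x1000001040001040040040000000000000000000000000000040001001000000000000)),
  (t1 (nat_lit 0x40040040001040001001001001001040001000000000000040001040040000000000000) (nat_lit 0x40000040000040000000000001001000001000000000000000000040040000000000000)),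
  (t1 (nat_lit 0x1040000000040040001000000001040040001001000001000040040000000001040000001000) (nat_lit 0x1000000000040000000000000000000000000001000001000000000000000000040000001000)),
  (t1 (nat_lit 0x40001000000001001040000000040001001040040000040000001001000000040001000040000) (nat_lit 0x40001000000000001000000000000001001000040000040000001001000000000000000040000)),
  (t1 (nat_lit 0x40000000001000040000040001001000000001040000000000040001000001040040001000040000001) (nat_lit 0x1000000000001000000000000000000000001000040001000000000001)),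
  (t1 (nat_lit 0x1000000040000001000001040040000000040001000000000001040000040001001040000001000040) (nat_lit 0x1000000000000001000001040000000000040001000000000001000000040001000040000001000040)),
  (t1 (nat_lit 0x40001000000000001040000040040040040000040000001000001001000000001000001000000001040) (nat_lit 0x40000000000000000040000000000040040000040000000000001001000000000000000000000000040)),
  (t1 (nat_lit 0x1040000000000040001000001001001001000001000040000040040000000040000040000000040001) (nat_lit 0x1001000000000000000000000040040000000000000000000000000000)),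
  (t1 (nat_lit 0x1001001001001000001000001000000040040000001000000000040001000000001001000040001000) (nat_lit 0x1001000000000001000001000000040040000001000000000000000000000001000000040001000)),
  (t1 (nat_lit 0x40040040040040000040000040000000001001000040000000000001040000000040040000001040000) (nat_lit 0x40040000000000040000040000000000000000040000000000001000000000040000000000040000)),
  (t1 (nat_lit 0x40040000000000000001001000001040000001040040001040000040000040000000001000040000040) (nat_lit 0x40000000000000000000001000001000000000000040000040000040000000000000001000000000040)),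
  (t1 (nat_lit 0x1001000000000000040040000040001000040001001040001000001000001000000040000001000001) (nat_lit 0x1000000000000000040000040001000000001000000000000000000001000000040000001000000)),
  (t1 (nat_lit 0x1001001040040001001001001001040001000000000000001040001001) (nat_lit 0x1001001000000000001000001000040001000000000000001000000000)),
  (t1 (nat_lit 0x40040040001001040040040040040001040000000000000040001040040) (nat_lit 0x40040040001001000040000040000000040000000000000040001000000)),
  (t4 (nat_lit 0x40000000000000000000000000000000000000000000000000000000000000000000000000000000) (nat_lit 0)),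
  (t4 (nat_lit 0x1000000000000000000000000000000000000000000000000000000000000000000000000000000) (nat_lit 0x1000000000000000000000000000000000000000000000000000000000000000000000000000000)),
  (t1 (nat_lit 0x1000040040000000001040000001000000000001040000000040040001000000001040040001001) (nat_lit 0x40040000000001000000000000000000001000000000000040000000000000000000000001)),
  (t1 (nat_lit 0x40000001001000000040001000040000000000040001000000001001040000000040001001040040) (nat_lit 0x40001000000000000000040001000000001000000000000000001001000040)),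
  (t4 (nat_lit 0x40000000000000000000000000000000000000000000000000000000000000000) (nat_lit 0)),
  (t4 (nat_lit 0x1000000000000000000000000000000000000000000000000000000000000000) (nat_lit 0x1000000000000000000000000000000000000000000000000000000000000000)),
  (t1 (nat_lit 0x1001000000001040000000000040001000040001001040000040000001040000000001000040000040) (nat_lit 0x1001000000000000000000000040000000000000001000000040000001040000000000000000000040)),
  (t1 (nat_lit 0x40040000000040001000000000001040000001040040001000001000040001000000040000001000001) (nat_lit 0x40040000000000001000000000000000000001000040001000000000040000000000000000001000000)),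
  (t1 (nat_lit 0x1001040040040000040000001000000040001000040000000000001040001040000000001000000001) (nat_lit 0x1000040040000000040000000000000000000000000000000000000040001000000000000000000000)),
  (t1 (nat_lit 0x40040001001001000001000040000000001040000001000000000040001040001000000040000000040) (nat_lit 0x40000000000001000000000000000000001000000001000000000000000040001000000000000000000)),
  (t1 (nat_lit 0x1001000040001000040040040040001000001000001000000040040000001000000000040001) (nat_lit 0x1001000000001000040000000040000000000000000000000040040000000000000000000001)),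
  (t1 (nat_lit 0x40040000001040000001001001001040000040000040000000001001000040000000000001040) (nat_lit 0x40040000001040000000001001000000000000000000000000000000000000000000000001040)),
  (t1 (nat_lit 0x1001040001000000000000040001040040000000000000000000000000040040040001040001001001) (nat_lit 0x1000000000000000000040000000040000000000000000000000000000040040000000001000000)),
  (t1 (nat_lit 0x40040001040000000000000001040001001000000000000000000000000001001001040001040040040) (nat_lit 0x40001000000000000000000000001000000000000000000000000000001000000000001040000000)),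
  (t4 (nat_lit 0x40000000000000000000000000000000000000000000000000000000000) (nat_lit 0)),
  (t4 (nat_lit 0x1000000000000000000000000000000000000000000000000000000000) (nat_lit 0x1000000000000000000000000000000000000000000000000000000000)),
  (t1 (nat_lit 0x1001000000000000001001000001040000040040001001000040000001000001001000000040000040) (nat_lit 0x1001000000040000000040001001000040000000000001000000000000000000)),
  (t1 (nat_lit 0x40040000000000000040040000040001000001001040040000001000040000040040000000001000001) (nat_lit 0x40040000000000000001000040040000000000000000040000000000001000001)),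
  (t4 (nat_lit 0x40000000000000) (nat_lit 0)),
  (t4 (nat_lit 0x1000000000000) (nat_lit 0x1000000000000)),
  (t4 (nat_lit 0x40000000000000000000000000000000000000000) (nat_lit 0)),
  (t4 (nat_lit 0x1000000000000000000000000000000000000000) (nat_lit 0x1000000000000000000000000000000000000000)),
  (t4 (nat_lit 0x40000000000000000000000000000000000000000000000) (nat_lit 0)),
  (t4 (nat_lit 0x1000000000000000000000000000000000000000000000) (nat_lit 0x1000000000000000000000000000000000000000000000)),
  (t1 (nat_lit 0x40040040001001040040040040040001040000000000000040001040040000000000000) (nat_lit 0x40000040000001040000000000000001040000000000000040001040040000000000000)),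
  (t1 (nat_lit 0x1001001040040001001001001001040001000000000000001040001001000000000000) (nat_lit 0x1000000040000001001001001040000000000000000000040000000000000000000)),
  (t4 (nat_lit 0x40000000000000000000000000000) (nat_lit 0)),
  (t4 (nat_lit 0x1000000000000000000000000000) (nat_lit 0x1000000000000000000000000000)),
  (t1 (nat_lit 0x1001001000000001001001001001001000001000000001001000000001000001001001000000) (nat_lit 0x1001000000000001001001001001000000000000000001000000000000001001000000000)),
  (t1 (nat_lit 0x40040040000000040040040040040040000040000000040040000000040000040040040000000) (nat_lit 0x40040000000000040040040040040000000000000000040000000000000040040000000000)),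
  (t1 (nat_lit 0x1001040000000040040040040040001000001000040000000001001000040000040040000000) (nat_lit 0x1000040000000040040040000000001000000000000000000000001000040000000000000000)),
  (t1 (nat_lit 0x40040001000000001001001001001040000040000001000000040040000001000001001000000) (nat_lit 0x40000000000000000000000001001040000000000001000000000040000000000001001000000)),
  (t1 (nat_lit 0x40000000001001000040000000000040001040001000000000040001000001001001001000040000001) (nat_lit 0x40000000000001000000000000000040000000001000000000000001000001001001001000040000000)),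
  (t1 (nat_lit 0x1000000040040000001000000000001040001040000000000001040000040040040040000001000040) (nat_lit 0x40000001000000000000000001040000000000001040000040040040040000000000000)),
  (t4 (nat_lit 0x40000000000000000000000) (nat_lit 0)),
  (t4 (nat_lit 0x1000000000000000000000) (nat_lit 0x1000000000000000000000)),
  (t4 (nat_lit 0x40000000000000000000) (nat_lit 0)),
  (t4 (nat_lit 0x1000000000000000000) (nat_lit 0x1000000000000000000))]

def UL : List (List T) := [U0, U1, U2, U3, U4, U5, U6, U7]

def gs : List T := [(t1 (nat_lit 0x40000001000040040000040000001000040040000000000000040040001000000001001040001040) (nat_lit 0x40000000000000040040000000000000000000001000)),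
  (t1 (nat_lit 0x1000040000001001000001000040000001001000000000000001001040000000040040001040001) (nat_lit 0x1000000000001001000001000000000001000000000000000000000000000000000000001040001)),
  (t1 (nat_lit 0x40040040001040001001001040040001040000000000000001040001001000000000000000000000000) (nat_lit 0x40001040000000000040000000040000000000000000040000000000000000000000000000000)),
  (t1 (nat_lit 0x1001001040001040040040001001040001000000000000040001040040000000000000000000000000) (nat_lit 0x1001000040000000000000000001000000000000000000000000000000000000000000000000000000)),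
  (t1 (nat_lit 0x40040040001040001001001001001040001000000000000040001040040000000000000) (nat_lit 0x40000001000001001001000000040000000000000000040001000000000000000000)),
  (t1 (nat_lit 0x1001001040001040040040040040001040000000000000001040001001000000000000) (nat_lit 0x1000001040001040040040000000000000000000000000000040001001000000000000)),
  (t1 (nat_lit 0x40001000000001001040000000040001001040040000040000001001000000040001000040000) (nat_lit 0x1000040000000040000000040000000000000000000000000040001000000000)),
  (t1 (nat_lit 0x1040000000040040001000000001040040001001000001000040040000000001040000001000) (nat_lit 0x1000000000040000000000000000000000000001000001000000000000000000040000001000)),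
  (t1 (nat_lit 0x1000000040000001000001040040000000040001000000000001040000040001001040000001000040) (nat_lit 0x40000000000000000040000000000000000000000000040000000000001000000000000000)),
  (t1 (nat_lit 0x40000000001000040000040001001000000001040000000000040001000001040040001000040000001) (nat_lit 0x1000000000001000000000000000000000001000040001000000000001)),
  (t1 (nat_lit 0x1040000000000040001000001001001001000001000040000040040000000040000040000000040001) (nat_lit 0x1040000000000040001000000000001001000001000040000000000000000040000040000000040001)),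
  (t1 (nat_lit 0x40001000000000001040000040040040040000040000001000001001000000001000001000000001040) (nat_lit 0x40000000000000000040000000000040040000040000000000001001000000000000000000000000040)),
  (t1 (nat_lit 0x40040040040040000040000040000000001001000040000000000001040000000040040000001040000) (nat_lit 0x40000000040040000000000000000000001001000000000000000000040000000000040000001000000)),
  (t1 (nat_lit 0x1001001001001000001000001000000040040000001000000000040001000000001001000040001000) (nat_lit 0x1001000000000001000001000000040040000001000000000000000000000001000000040001000)),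
  (t1 (nat_lit 0x1001000000000000040040000040001000040001001040001000001000001000000040000001000001) (nat_lit 0x1000000000000000040000000000000000040000001040001000001000000000000000000000000001)),
  (t1 (nat_lit 0x40040000000000000001001000001040000001040040001040000040000040000000001000040000040) (nat_lit 0x40000000000000000000001000001000000000000040000040000040000000000000001000000000040)),
  (t1 (nat_lit 0x40040040001001040040040040040001040000000000000040001040040) (nat_lit 0x40000040000040001000000000000000000000040040)),
  (t1 (nat_lit 0x40000001001000000040001000040000000000040001000000001001040000000040001001040040) (nat_lit 0x40000001001000000000000000040000000000000000000000000001040000000040000000040000)),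
  (t1 (nat_lit 0x40040000000040001000000000001040000001040040001000001000040001000000040000001000001) (nat_lit 0x40000000000000001040000000040000000000001000000001000000040000000000001))]

def PM : List ℕ := [nat_lit 1, nat_lit 2, nat_lit 4, nat_lit 8, nat_lit 0x10, nat_lit 0x20, nat_lit 0x40, nat_lit 0x80, nat_lit 0x100, nat_lit 0x200, nat_lit 0x400, nat_lit 0x800, nat_lit 0x1000, nat_lit 0x2000, nat_lit 0x4000, nat_lit 0x8000, nat_lit 0x10000, nat_lit 0x13f0f, nat_lit 0, nat_lit 0, nat_lit 0x20000, nat_lit 0x2fc3f, nat_lit 0, nat_lit 0, nat_lit 0x40000, nat_lit 0x5e9c5, nat_lit 0x70b39, nat_lit 0x62dc3, nat_lit 0x1e11e, nat_lit 0x1ed22, nat_lit 0x130d8, nat_lit 0x10feb, nat_lit 0, nat_lit 0, nat_lit 0x3ab81, nat_lit 0x39472, nat_lit 0, nat_lit 0, nat_lit 0, nat_lit 0, nat_lit 0, nat_lit 0, nat_lit 0x1d626, nat_lit 0x1d616, nat_lit 0, nat_lit 0, nat_lit 0x1f8f7, nat_lit 0x1cbf4, nat_lit 0x3f5b0, nat_lit 0x33940, nat_lit 0x5655f, nat_lit 0x44c65, nat_lit 0, nat_lit 0, nat_lit 0, nat_lit 0]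


end Cfsg.Agent.RuL
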