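import Cfsg.Agent.RuL.Vec

set_option autoImplicit false

/-! The checks for the short vectors and for the classes of vectors. -/

namespace Cfsg.Agent.RuL
open Cfsg.Agent.Comp Finset Cfsg.Spor

/-- a sign vector with entries of size one -/
def t1 (k s : ℕ) : T := (k, s, nat_lit 1)
/-- a vector of the frame -/
def t4 (k s : ℕ) : T := (k, s, nat_lit 4)

/-- the generating maps of the monomial group -/
def op : ℕ → RuVec → RuVec
  | 0 => fun v => gI • v
  | 1 => ruRj
  | 2 => ruRk
  | 3 => ruSign
  | _ => ruShift

/-- apply a word -/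
def act (w : List ℕ) (v : RuVec) : RuVec := w.foldr op v

/-- a vector is the given sign vector -/
def eqV (x : RuVec) (t : T) : Bool := (List.range 56).all fun j => co x j == val t j

theorem eqV_sound {x : RuVec} {t : T} (h : eqV x t = true) : x = vec t := by
  simp only [eqV, List.all_eq_true, List.mem_range, beq_iff_eq] at h
  exact co_ext fun j hj => by rw [h j hj, co_vec _ hj]

/-- membership in the dual lattice -/
noncomputable def inM (BL : List T) (x : T) : Bool := band (vd x.1) (lall (ip4 x) BL)

/-- the Gram matrix -/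
def gram (U : List T) : List (List ℤ) := U.map fun b' => U.map fun b => Int.subNatNat (ipA b b') (ipB b b')

/-- the family of a list -/
def fam (U : List T) (l : ℕ) : RuVec := vec (U.getD l (0, 0, 0))

theorem inM_sound {BL : List T} (hl : BL.length = 56) {x : T} (h : inM BL x = true) :
    Vd 56 x.1 ∧ vec x ∈ dual (fam BL) := by
  rw [inM, band_eq, lall_eq] at h
  refine ⟨vd_sound h.1, fun l hl' => ip4_sound (vd_sound h.1) (h.2 _ ?_)⟩
  rw [List.getD_eq_getElem _ _ (by omega)]; exact List.getElem_mem _

theorem gram_eq {U : List T} (hl : U.length = 56) (hv : ∀ x ∈ U, Vd 56 x.1) {m n : ℕ} (hm : m < 56)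
    (hn : n < 56) : ((gram U).getD n []).getD m 0 = ip (fam U m) (fam U n) := by
  have e : (gram U).getD n [] = U.map fun b => Int.subNatNat (ipA b (U[n]'(by omega))) (ipB b (U[n]'(by omega))) := by
    rw [List.getD_eq_getElem _ _ (by simp [gram]; omega)]
    simp only [gram, List.getElem_map]
  rw [e, List.getD_eq_getElem _ _ (by simp; omega), List.getElem_map, fam, fam,
    List.getD_eq_getElem _ _ (by omega), List.getD_eq_getElem _ _ (by omega),
    ip_vec (hv _ (List.getElem_mem _)), Int.subNatNat_eq_coe]

/-- the odd members are `i` times the even ones -/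
def prs (U : List T) : Bool :=
  (List.range 28).all fun p => isI (U.getD (2 * p + 1) (0, 0, 0)) (U.getD (2 * p) (0, 0, 0))

theorem prs_sound {U : List T} (h : prs U = true) {p : ℕ} (hp : p < 28) :
    fam U (2 * p + 1) = gI • fam U (2 * p) ∧ gI • fam U (2 * p + 1) = -fam U (2 * p) := by
  simp only [prs, List.all_eq_true, List.mem_range] at h
  have := isI_sound (h p hp)
  refine ⟨this, ?_⟩
  rw [fam, this, smul_smul, (by decide : gI * gI = -1), neg_smul, one_smul]; rfl

/-- the images of the basis under an automorphism -/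
noncomputable def okU (BL : List T) (GM : List (List ℤ)) (U : List T) : Bool :=
  band (Nat.beq U.length 56) (band (lall (inM BL) U) (band (prs U) (decide (gram U = GM))))

/-- the automorphism with images `U` sends `x` to `y` -/
noncomputable def stepOK (BL U : List T) (x y : T) : Bool :=
  band (vd x.1) (band (vd y.1) (lall (fun q : T × T => ipE y q.1 x q.2) (U.zip BL)))

/-- a word sends `x` to `y` -/
noncomputable def chkP (BL : List T) (UL : List (List T)) (w : List ℕ) (x : T) : List T → T → Bool :=
  @List.rec ℕ (fun _ => List T → T → Bool) (fun _ y => decide (x = y)) (fun a _ ih ms y =>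
    band (Nat.ble a 7) (band (stepOK BL (nth [] UL a) (ms.headD x) y) (ih ms.tail (ms.headD x)))) w

/-- the slot of the constant term -/
def top : ℕ := 1 <<< (6 * 56)

/-- the linear condition given by a generator -/
def row (k : ℕ) (g : T) : ℕ :=
  Nat.xor g.1 (Nat.mul (Nat.land (Nat.shiftRight (Nat.add (ipA (t1 k 0) g) (ipB (t1 k 0) g)) 1) 1) top)

/-- support, signs, size, bound, directions, free slots, conditions -/
structure Ent where
  k : ℕ
  s : ℕ
  c : ℕ
  β : List ℕ
  js : List ℕ
  ms : List ℕ

/-- a support with short vectors -/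
noncomputable def chkG (gs : List T) (e : Ent) : Bool :=
  frcL (gs.map (row e.k)) fun rows => frcL (e.ms.map (comb rows)) fun Rs =>
    band (vd e.k) (band (Nat.beq e.c 1) (band (Nat.beq (Nat.mod e.k 63) 16)
      (band (Nat.beq (Nat.land e.s e.k) e.s) (band (lall (ev (Nat.xor e.s top)) Rs)
        (fre Rs e.β e.js e.k)))))

/-- a support without short vectors -/
noncomputable def chkN (gs : List T) (e : Ent) : Bool :=
  frcL (gs.map (row e.k)) fun rows => frcL (e.ms.map (comb rows)) fun Rs => frc (syn Rs 56) fun tp =>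
    band (Nat.ble 13 (Nat.add (Nat.mod e.k 63) (Nat.mul 4 e.c)))
      (band (lall (fun R => Nat.beq (Nat.land e.k R) 0) Rs) (band (Nat.ble 1 tp)
        (@Nat.rec (fun _ => Bool) true (fun _ _ => frcL (dl (syn Rs) 56) fun l => sub e.c l tp) e.c)))

/-- the even vectors -/
noncomputable def chkZ (gs : List T) : Bool :=
  frcL (gs.map (row 0)) fun Rs => frc (syn Rs 56) fun tp => frcL (dl (syn Rs) 56) fun l => sub 4 l tp

/-- the test on the words of the residue code -/
noncomputable def lowT (Grp Non : List (List Ent)) (c : ℕ) : Bool :=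
  @Bool.rec (fun _ => Bool) true (Nat.beq c 0 || lany (fun e => Nat.beq e.k c) (nth [] Grp (Nat.mod c 23)) ||
    lany (fun e => Nat.beq e.k c) (nth [] Non (Nat.mod c 37)))
    (Nat.ble (Nat.mod c (nat_lit 63)) (nat_lit 16))

theorem lowT_sound {Grp Non : List (List Ent)} {c : ℕ} (h : lowT Grp Non c = true) (hc : c % 63 ≤ 16) :
    c = 0 ∨ (∃ e ∈ Grp.flatten, e.k = c) ∨ ∃ e ∈ Non.flatten, e.k = c := by
  have e : Nat.ble (Nat.mod c (nat_lit 63)) (nat_lit 16) = true := Nat.ble_eq.mpr hc
  rw [lowT, e] at h
  simp only [Bool.or_eq_true, lany_eq, Nat.beq_eq] at h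
  have key : ∀ (L : List (List Ent)) (i : ℕ) (e : Ent), e ∈ nth [] L i → e ∈ L.flatten := fun L i e he => by
    rcases nth_mem [] L i with h | h
    · rw [h] at he; simp at he
    · exact List.mem_flatten.mpr ⟨_, h, he⟩
  rcases h with (h | ⟨e, h1, h2⟩) | ⟨e, h1, h2⟩
  exacts [Or.inl h, Or.inr (Or.inl ⟨e, key _ _ _ h1, h2⟩), Or.inr (Or.inr ⟨e, key _ _ _ h1, h2⟩)]

/-- the inner products with given vectors have given values -/
noncomputable def test (C : List (T × ℕ × ℕ)) (x : T) : Bool :=
  lall (fun q => Nat.beq (Nat.add (ipA x q.1) q.2.1) (Nat.add q.2.2 (ipB x q.1))) C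

/-- the number of listed vectors that pass the test -/
noncomputable def cntX (C : List (T × ℕ × ℕ)) (GX : List Ent) : ℕ :=
  @List.rec Ent (fun _ => ℕ) (nat_lit 0)
    (fun e _ ih => Nat.add (cnt (fun s => test C (e.k, s, e.c)) e.β e.s) ih) GX

/-- the listed vectors -/
def XL (GX : List Ent) : List T := GX.flatMap fun e => (lst e.β e.s).map fun s => (e.k, s, e.c)

theorem cntX_eq (C : List (T × ℕ × ℕ)) : ∀ GX : List Ent, cntX C GX = ((XL GX).filter (test C)).length
  | [] => rfl
  | e :: GX => by
    have h : cntX C (e :: GX) = cnt (fun s => test C (e.k, s, e.c)) e.β e.s + cntX C GX := rfl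
    rw [h, cnt_eq, cntX_eq C GX, XL, XL, List.flatMap_cons, List.filter_append, List.length_append,
      List.filter_map, List.length_map]
    rfl

/-- the vectors of the frame -/
def Fr : List Ent := (List.range 56).map fun j => ⟨1 <<< (6 * j), 0, 4, [1 <<< (6 * j)], [], []⟩

/-- a step of the chain -/
structure Stp where
  b : T
  bi : T
  C : List (T × ℕ × ℕ)
  n : ℕ

/-- the fixed vectors after some steps -/
def fin (S : List T) (l : List Stp) : List T := l.foldl (fun S st => st.b :: st.bi :: S) S

/-- the easy conditions on the steps -/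
noncomputable def chain (BL : List T) (l : List Stp) : List T → Bool :=
  @List.rec Stp (fun _ => List T → Bool) (fun _ => true) (fun st _ ih S =>
    band (inM BL st.b) (band (isI st.bi st.b) (band (Nat.beq (ipA st.b st.b) (Nat.add 16 (ipB st.b st.b)))
      (band (lall (fun q => decide (q.1 ∈ S)) st.C) (band (test st.C st.b) (ih (st.b :: st.bi :: S))))))) l

/-- the sizes of the classes -/
noncomputable def cntOK (GX : List Ent) (l : List Stp) : Bool :=
  lall (fun st => Nat.ble (cntX st.C GX) st.n) l

end Cfsg.Agent.RuL
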