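import Cfsg.Agent.RuL.C1

set_option autoImplicit false

/-! A basis of the lattice; automorphisms from the images of the basis. -/

namespace Cfsg.Agent.RuL
open Cfsg.Agent.Comp Finset Cfsg.Spor

/-- the basis -/
def B : ℕ → RuVec := fam BL

/-- four times the inverse of the Gram matrix -/
def D (l m : ℕ) : ℤ := (DL.getD l []).getD m 0

theorem okU_iff {U : List T} (h : okU BL GM U = true) : U.length = 56 ∧
    (∀ x ∈ U, Vd 56 x.1 ∧ vec x ∈ dual B) ∧ prs U = true ∧ gram U = GM := by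
  rw [okU, band_eq, band_eq, band_eq, lall_eq, Nat.beq_eq, decide_eq_true_eq] at h
  exact ⟨h.1, fun x hx => inM_sound c_len.1 (h.2.1 x hx), h.2.2⟩

theorem getD_mem {U : List T} (h : U.length = 56) {l : ℕ} (hl : l < 56) : U.getD l (0, 0, 0) ∈ U := by
  rw [List.getD_eq_getElem _ _ (by omega)]; exact List.getElem_mem _

theorem ip_fam {U : List T} (h : okU BL GM U = true) {m n : ℕ} (hm : m < 56) (hn : n < 56) :
    ip (fam U m) (fam U n) = (GM.getD n []).getD m 0 := by
  obtain ⟨h1, h2, _, h4⟩ := okU_iff h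
  rw [← gram_eq h1 (fun x hx => (h2 x hx).1) hm hn, h4]

theorem gr_fam {U : List T} (h : okU BL GM U = true) : Gr D (fam U) := fun l hl n hn => by
  rw [← c_D l hl n hn, dot_eq _ _ 56 (c_len.2.2.1 _ (by
    rw [List.getD_eq_getElem _ _ (by rw [c_len.2.1]; exact hl)]; exact List.getElem_mem _))]
  exact sum_congr rfl fun m hm => by rw [ip_fam h (mem_range.mp hm) hn, D]

theorem grB : Gr D B := gr_fam c_B

theorem mem_iff {v : RuVec} : v ∈ ruLattice ↔ ∀ K ∈ ruClosed, v ∈ K := AddSubgroup.mem_sInf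

theorem op_mem (a : ℕ) {v : RuVec} (h : v ∈ ruLattice) : op a v ∈ ruLattice :=
  mem_iff.mpr fun K hK => by
    obtain ⟨h0, h1, h2, h3, h4⟩ := hK.2 v (mem_iff.mp h K hK)
    unfold op
    split <;> assumption

theorem act_mem (w : List ℕ) {v : RuVec} (h : v ∈ ruLattice) : act w v ∈ ruLattice := by
  induction w with
  | nil => exact h
  | cons a w ih => exact op_mem a ih

theorem B_pr {p : ℕ} (hp : p < 28) : B (2 * p + 1) = gI • B (2 * p) ∧ gI • B (2 * p + 1) = -B (2 * p) :=
  prs_sound (okU_iff c_B).2.2.1 hp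

theorem B_mem {l : ℕ} (hl : l < 56) : B l ∈ ruLattice := by
  have key : ∀ p < 28, B (2 * p) ∈ ruLattice := fun p hp => by
    obtain ⟨h1, h2⟩ := c_W p hp
    rw [B, fam, ← eqV_sound h2]
    refine act_mem _ (mem_iff.mpr fun K hK => hK.1 _ ?_)
    rw [List.getD_eq_getElem _ _ (by rw [c_len.2.2.2]; exact h1)]; exact List.getElem_mem _
  rcases Nat.even_or_odd' l with ⟨p, rfl | rfl⟩
  · exact key p (by omega)
  · rw [(B_pr (by omega)).1]; exact gI_smul_mem_ruLattice (key p (by omega))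

theorem B_dual {l : ℕ} (hl : l < 56) : B l ∈ dual B := ((okU_iff c_B).2.1 _ (getD_mem c_len.1 hl)).2

theorem op_add (a : ℕ) (x y : RuVec) : op a (x + y) = op a x + op a y := by
  unfold op
  split
  · exact smul_add _ _ _
  · funext ⟨n, t⟩; fin_cases t <;> simp [ruRj, mul_add, add_comm]
  · funext ⟨n, t⟩; fin_cases t <;> simp [ruRk, mul_add, add_comm]
  · funext p; simp only [ruSign, Pi.add_apply]; split_ifs <;> ring
  · rfl

theorem op_dual {a : ℕ} (h : ∀ l < 56, op a (B l) ∈ dual B) {v : RuVec} (hv : v ∈ dual B) :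
    op a v ∈ dual B :=
  mem_of_sum (K := (dual B).comap (AddMonoidHom.mk' (op a) (op_add a))) h (grB.span hv)

theorem op_dual' {a : ℕ} {O : List T} (h : lall (inM BL) O = true ∧ ∀ l < 56, O.getD l (0, 0, 0) ∈ O ∧
    eqV (op a (fam BL l)) (O.getD l (0, 0, 0)) = true) {v : RuVec} (hv : v ∈ dual B) : op a v ∈ dual B :=
  op_dual (fun l hl => by
    rw [B, eqV_sound (h.2 l hl).2]
    exact (inM_sound c_len.1 ((lall_eq _ _).mp h.1 _ (h.2 l hl).1)).2) hv

theorem lat_eq : ruLattice = dual B := by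
  refine le_antisymm (sInf_le ⟨fun v hv => ?_, fun v hv => ⟨?_, op_dual' c_O1 hv, op_dual' c_O2 hv,
    op_dual' c_O3 hv, op_dual' c_O4 hv⟩⟩) fun v hv => mem_of_sum (fun l => B_mem) (grB.span hv)
  · obtain ⟨r, hr, rfl⟩ := List.getElem_of_mem hv
    have h := c_T.2 r (c_len.2.2.2 ▸ hr)
    rw [List.getD_eq_getElem _ _ hr] at h
    rw [eqV_sound h.2]
    exact (inM_sound c_len.1 ((lall_eq _ _).mp c_T.1 _ h.1)).2
  · refine op_dual (a := 0) (fun l hl => ?_) hv
    change gI • B l ∈ _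
    rcases Nat.even_or_odd' l with ⟨p, rfl | rfl⟩
    · rw [← (B_pr (by omega)).1]; exact B_dual (by omega)
    · rw [(B_pr (by omega)).2]; exact neg_mem (B_dual (by omega))

theorem lat_ind {P : RuVec → Prop} (h0 : P 0) (ha : ∀ x y, x ∈ ruLattice → y ∈ ruLattice → P x → P y → P (x + y))
    (hn : ∀ x, x ∈ ruLattice → P x → P (-x)) (hB : ∀ l < 56, P (B l)) {v : RuVec} (hv : v ∈ ruLattice) :
    P v :=
  (mem_of_sum (K := ⟨⟨⟨{x | x ∈ ruLattice ∧ P x}, fun hx hy => ⟨add_mem hx.1 hy.1, ha _ _ hx.1 hy.1 hx.2 hy.2⟩⟩,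
    zero_mem _, h0⟩, fun hx => ⟨neg_mem hx.1, hn _ hx.1 hx.2⟩⟩) (fun l hl => ⟨B_mem hl, hB l hl⟩)
    (grB.span (lat_eq ▸ hv :))).2

theorem lat_ind' {P : ruLattice → Prop} (h0 : P 0) (ha : ∀ x y, P x → P y → P (x + y))
    (hn : ∀ x, P x → P (-x)) (hB : ∀ l (hl : l < 56), P ⟨B l, B_mem hl⟩) (v : ruLattice) : P v :=
  lat_ind (P := fun x => ∀ h, P ⟨x, h⟩) (fun _ => h0) (fun x y hx hy h1 h2 _ => ha ⟨x, hx⟩ ⟨y, hy⟩ (h1 hx) (h2 hy))
    (fun x hx h1 _ => hn ⟨x, hx⟩ (h1 hx)) (fun l hl _ => hB l hl) v.2 v.2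

theorem ip_dvd {x y : RuVec} (hx : x ∈ ruLattice) (hy : y ∈ ruLattice) : 4 ∣ ip x y := by
  rw [ip_comm]
  refine lat_ind (P := fun y => 4 ∣ ip y x) (by rw [ip_zero]; exact dvd_zero _)
    (fun a b _ _ h1 h2 => by rw [ip_add]; exact dvd_add h1 h2)
    (fun a _ h => by rw [ip_neg]; exact h.neg_right) (fun l hl => ?_) hy
  rw [ip_comm]; exact (lat_eq ▸ hx : x ∈ dual B) l hl

theorem norm_dvd {x : RuVec} (hx : x ∈ ruLattice) : 8 ∣ ip x x := by
  refine lat_ind (P := fun x => 8 ∣ ip x x) (by rw [ip_zero]; exact dvd_zero _)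
    (fun a b ha hb h1 h2 => ?_) (fun a _ h => by rwa [ip_neg, ip_comm, ip_neg, neg_neg]) (fun l hl => ?_) hx
  · have := ip_dvd ha hb
    rw [norm_add]; omega
  · have h := getD_mem c_len.1 hl
    have := (c_N _ h).1
    rw [B, fam, ip_vec ((okU_iff c_B).2.1 _ h).1]; omega

theorem inM_mem {x : T} (h : inM BL x = true) : Vd 56 x.1 ∧ vec x ∈ ruLattice :=
  lat_eq ▸ inM_sound c_len.1 h

theorem fam_mem {U : List T} (h : okU BL GM U = true) {l : ℕ} (hl : l < 56) : fam U l ∈ ruLattice :=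
  lat_eq ▸ ((okU_iff h).2.1 _ (getD_mem (okU_iff h).1 hl)).2

/-- a basis from a list -/
noncomputable def basis {U : List T} (h : okU BL GM U = true) : Module.Basis (Fin 56) ℤ ruLattice :=
  Module.Basis.mk (v := fun l => ⟨fam U l, fam_mem h l.2⟩)
    (Fintype.linearIndependent_iff.mpr fun g hg i => by
      have := (gr_fam h).indep (c := fun l => if hl : l < 56 then g ⟨l, hl⟩ else 0) (by
        rw [← Fin.sum_univ_eq_sum_range (fun l => (if hl : l < 56 then g ⟨l, hl⟩ else 0) • fam U l)]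
        simpa using congrArg Subtype.val hg) i i.2
      simpa using this)
    (fun v _ => by
      obtain ⟨a, ha⟩ := (gr_fam h).span fun l hl => ip_dvd v.2 (fam_mem h hl)
      have : v = ∑ l : Fin 56, a l • (⟨fam U l, fam_mem h l.2⟩ : ruLattice) := Subtype.ext (by
        rw [ha, ← Fin.sum_univ_eq_sum_range (fun l => a l • fam U l)]; simp)
      rw [this]
      exact Submodule.sum_mem _ fun l _ => Submodule.smul_mem _ _ (Submodule.subset_span ⟨l, rfl⟩))

/-- the linear map with the given images of the basis -/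
noncomputable def lin {U : List T} (h : okU BL GM U = true) : ruLattice ≃ₗ[ℤ] ruLattice :=
  (basis c_B).equiv (basis h) (Equiv.refl _)

theorem lin_B {U : List T} (h : okU BL GM U = true) {l : ℕ} (hl : l < 56) :
    (lin h ⟨B l, B_mem hl⟩ : RuVec) = fam U l := by
  have := (basis c_B).equiv_apply (basis h) (Equiv.refl _) (i := ⟨l, hl⟩)
  simp only [basis, Module.Basis.mk_apply, Equiv.refl_apply] at this
  exact congrArg Subtype.val this

theorem lin_ip {U : List T} (h : okU BL GM U = true) (x y : ruLattice) :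
    ip (lin h x) (lin h y) = ip x y := by
  have k1 : ∀ l (hl : l < 56) (x : ruLattice), ip (lin h x) (fam U l) = ip x (B l) := fun l hl x => by
    induction x using lat_ind' with
    | h0 => simp [ip_zero]
    | ha x y h1 h2 => simp [ip_add, h1, h2]
    | hn x h1 => simp [ip_neg, h1]
    | hB m hm => rw [lin_B h hm, ip_fam h hm hl]; exact (ip_fam c_B hm hl).symm
  rw [ip_comm, ip_comm x]
  induction y using lat_ind' with
  | h0 => simp [ip_zero]
  | ha x y h1 h2 => simp [ip_add, h1, h2]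
  | hn x h1 => simp [ip_neg, h1]
  | hB m hm => rw [lin_B h hm, ip_comm, k1 m hm, ip_comm]

theorem ruI_add (x y : ruLattice) : ruI (x + y) = ruI x + ruI y := Subtype.ext (smul_add _ _ _)
theorem ruI_neg (x : ruLattice) : ruI (-x) = -ruI x := Subtype.ext (smul_neg _ _)
theorem ruI_zero : ruI 0 = 0 := Subtype.ext (smul_zero _)

theorem lin_I {U : List T} (h : okU BL GM U = true) (x : ruLattice) : lin h (ruI x) = ruI (lin h x) := by
  induction x using lat_ind' with
  | h0 => simp [ruI_zero]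
  | ha x y h1 h2 => simp [ruI_add, h1, h2]
  | hn x h1 => simp [ruI_neg, h1]
  | hB m hm =>
    apply Subtype.ext
    change _ = gI • (lin h ⟨B m, B_mem hm⟩ : RuVec)
    rw [lin_B h hm]
    rcases Nat.even_or_odd' m with ⟨p, rfl | rfl⟩
    · have e : ruI ⟨B (2 * p), B_mem hm⟩ = ⟨B (2 * p + 1), B_mem (by omega)⟩ :=
        Subtype.ext (B_pr (by omega)).1.symm
      rw [e, lin_B h (by omega), (prs_sound (okU_iff h).2.2.1 (by omega)).1]
    · have e : ruI ⟨B (2 * p + 1), B_mem hm⟩ = -⟨B (2 * p), B_mem (by omega)⟩ :=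
        Subtype.ext (B_pr (by omega)).2
      rw [e, map_neg, (prs_sound (okU_iff h).2.2.1 (by omega)).2, ← lin_B h (by omega : 2 * p < 56)]
      rfl

/-- the automorphism with the given images of the basis -/
noncomputable def lift {U : List T} (h : okU BL GM U = true) : fourRu :=
  ⟨(lin h).toEquiv, fun v w => map_add (lin h) v w, lin_I h, fun v => by
    rw [norm_eq, norm_eq]; exact lin_ip h v v⟩

theorem lift_B {U : List T} (h : okU BL GM U = true) {l : ℕ} (hl : l < 56) :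
    ((lift h).1 ⟨B l, B_mem hl⟩ : RuVec) = fam U l := lin_B h hl

theorem aut_ip (f : fourRu) (x y : ruLattice) : ip (f.1 x) (f.1 y) = ip x y := by
  have h1 := f.2.2.2 x
  have h2 := f.2.2.2 y
  have h3 := f.2.2.2 (x + y)
  rw [f.2.1] at h3
  simp only [norm_eq, AddSubgroup.coe_add, norm_add] at h1 h2 h3
  omega

theorem aut_zero (f : fourRu) : f.1 0 = 0 := by
  have := f.2.1 0 0
  rw [add_zero] at this
  exact left_eq_add.mp this

theorem aut_neg (f : fourRu) (x : ruLattice) : f.1 (-x) = -f.1 x :=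
  eq_neg_of_add_eq_zero_left (by rw [← f.2.1, neg_add_cancel, aut_zero])

theorem aut_ext {f g : fourRu} (h : ∀ l (hl : l < 56), f.1 ⟨B l, B_mem hl⟩ = g.1 ⟨B l, B_mem hl⟩) :
    f = g := by
  refine Subtype.ext (Equiv.ext fun x => ?_)
  induction x using lat_ind' with
  | h0 => rw [aut_zero, aut_zero]
  | ha x y h1 h2 => rw [f.2.1, g.2.1, h1, h2]
  | hn x h1 => rw [aut_neg, aut_neg, h1]
  | hB m hm => exact h m hm

theorem lift_step {U : List T} (h : okU BL GM U = true) {x y : T} (hs : stepOK BL U x y = true)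
    {v : ruLattice} (hv : (v : RuVec) = vec x) : ((lift h).1 v : RuVec) = vec y := by
  rw [stepOK, band_eq, band_eq, lall_eq] at hs
  refine sub_eq_zero.mp ((gr_fam h).perp fun l hl => ?_)
  have h1 := (okU_iff h).1
  have h2 := c_len.1
  have := ipE_sound (vd_sound hs.2.1) (vd_sound hs.1) (hs.2.2 (U[l], BL[l]) (by
    rw [List.mem_iff_getElem]; exact ⟨l, by simp; omega, List.getElem_zip⟩))
  have e : ∀ (W : List T) (hW : l < W.length), fam W l = vec W[l] := fun W hW => by
    rw [fam, List.getD_eq_getElem _ _ hW]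
  have e1 : ip ((lift h).1 v) (fam U l) = ip v (B l) := by rw [← lift_B h hl, aut_ip]
  rw [ip_sub, e1, hv, B, e _ (by omega), e _ (by omega), this]
  exact sub_self _

end Cfsg.Agent.RuL
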