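import Cfsg.Agent.RuL.Min
import Cfsg.Agent.RuL.C4
import Cfsg.Agent.RuL.C5
import Cfsg.Agent.Comp.Ru.Main
import Cfsg.Agent.Comp.Mat2

set_option autoImplicit false

/-! The automorphism group of the lattice and the presented group. -/

namespace Cfsg.Agent.RuL
open Cfsg.Agent.Comp Cfsg.Spor

/-- the automorphisms that fix the listed vectors -/
def Fix (S : List T) : Subgroup fourRu where
  carrier := {f | ∀ t ∈ S, ∀ v : ruLattice, (v : RuVec) = vec t → f.1 v = v}
  one_mem' := fun _ _ _ _ => rfl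
  mul_mem' := fun {f g} hf hg t ht v hv => by
    change f.1 (g.1 v) = v
    rw [hg t ht v hv, hf t ht v hv]
  inv_mem' := fun {f} hf t ht v hv => by
    change f.1⁻¹ v = v
    rw [Equiv.Perm.inv_eq_iff_eq, hf t ht v hv]

/-- a bound for the order -/
def Bd (S : List T) (m : ℕ) : Prop := Finite (Fix S) ∧ Nat.card (Fix S) ≤ m

theorem mem_fix2 {S : List T} {b bi : T} (hb : vec b ∈ ruLattice) (hi : isI bi b = true) {f : fourRu}
    (hf : f ∈ Fix S) (h : f.1 ⟨vec b, hb⟩ = ⟨vec b, hb⟩) : f ∈ Fix (b :: bi :: S) := by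
  intro t ht v hv
  rcases List.mem_cons.mp ht with rfl | ht
  · rw [show v = ⟨vec t, hb⟩ from Subtype.ext hv, h]
  rcases List.mem_cons.mp ht with rfl | ht
  · rw [show v = ruI ⟨vec b, hb⟩ from Subtype.ext (hv.trans (isI_sound hi)), f.2.2.1, h]
  · exact hf t ht v hv

theorem test_iff {C : List (T × ℕ × ℕ)} {x : T} (hx : Vd 56 x.1) :
    test C x = true ↔ ∀ q ∈ C, ip (vec x) (vec q.1) = q.2.2 - q.2.1 := by
  rw [test, lall_eq]
  refine forall₂_congr fun q _ => ?_
  rw [Nat.beq_eq, ip_vec hx]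
  change ipA x q.1 + q.2.1 = q.2.2 + ipB x q.1 ↔ _
  omega

theorem bd_step {S : List T} (hS : ∀ t ∈ S, vec t ∈ ruLattice) {st : Stp} (h1 : inM BL st.b = true)
    (h2 : isI st.bi st.b = true) (h3 : ipA st.b st.b = 16 + ipB st.b st.b) (h4 : ∀ q ∈ st.C, q.1 ∈ S)
    (h5 : test st.C st.b = true) (h6 : cntX st.C GX ≤ st.n) {m : ℕ} (h : Bd (st.b :: st.bi :: S) m) :
    Bd S (st.n * m) := by
  obtain ⟨hv, hb⟩ := inM_mem h1
  set v : ruLattice := ⟨vec st.b, hb⟩
  have hn : ip (vec st.b) (vec st.b) = 16 := by rw [ip_vec hv]; omega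
  have o1 : Subtype.val '' MulAction.orbit (Fix S) v ⊆
      (((XL GX).filter (test st.C)).map vec).toFinset := by
    rintro _ ⟨_, ⟨f, rfl⟩, rfl⟩
    have e : ip (f.1.1 v) (f.1.1 v) = 16 := (aut_ip f.1 v v).trans hn
    obtain ⟨t, ht, et⟩ := (short (f.1.1 v).2 e.le (fun h0 => by
      rw [h0, ip_zero] at e; omega)).2
    simp only [List.coe_toFinset, List.mem_map, List.mem_filter, Set.mem_setOf_eq]
    refine ⟨t, ⟨ht, (test_iff (XL_vd ht)).mpr fun q hq => ?_⟩, et.symm⟩
    have := aut_ip f.1 v ⟨vec q.1, hS _ (h4 q hq)⟩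
    rw [f.2 _ (h4 q hq) ⟨vec q.1, hS _ (h4 q hq)⟩ rfl, et] at this
    exact this.trans ((test_iff hv).mp h5 q hq)
  have o2 : (MulAction.orbit (Fix S) v).Finite :=
    Set.Finite.of_finite_image ((Finset.finite_toSet _).subset o1) Subtype.val_injective.injOn
  have o3 : Nat.card (MulAction.orbit (Fix S) v) ≤ st.n := by
    rw [Nat.card_coe_set_eq, ← Set.ncard_image_of_injective _ Subtype.val_injective]
    refine (Set.ncard_le_ncard o1 (Finset.finite_toSet _)).trans ?_
    rw [Set.ncard_coe_finset]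
    refine (List.toFinset_card_le _).trans ?_
    rw [List.length_map, ← cntX_eq]; exact h6
  let j : MulAction.stabilizer (Fix S) v → Fix (st.b :: st.bi :: S) := fun f =>
    ⟨f.1.1, mem_fix2 hb h2 f.1.2 f.2⟩
  have hj : Function.Injective j := fun f g e =>
    Subtype.ext (Subtype.ext (congrArg (fun x : Fix (st.b :: st.bi :: S) => x.1) e))
  have := h.1
  have := o2.to_subtype
  have := Finite.of_injective j hj
  have e := MulAction.orbitProdStabilizerEquivGroup (Fix S) v
  refine ⟨Finite.of_equiv _ e, ?_⟩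
  rw [← Nat.card_congr e, Nat.card_prod]
  exact Nat.mul_le_mul o3 ((Nat.card_le_card_of_injective j hj).trans h.2)

theorem chain_cons {st : Stp} {l : List Stp} {S : List T} (h : chain BL (st :: l) S = true) :
    inM BL st.b = true ∧ isI st.bi st.b = true ∧ ipA st.b st.b = 16 + ipB st.b st.b ∧
      (∀ q ∈ st.C, q.1 ∈ S) ∧ test st.C st.b = true ∧ chain BL l (st.b :: st.bi :: S) = true := by
  have e : chain BL (st :: l) S = band (inM BL st.b) (band (isI st.bi st.b)
    (band (Nat.beq (ipA st.b st.b) (16 + ipB st.b st.b)) (band (lall (fun q => decide (q.1 ∈ S)) st.C)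
      (band (test st.C st.b) (chain BL l (st.b :: st.bi :: S)))))) := rfl
  rw [e, band_eq, band_eq, band_eq, band_eq, band_eq, Nat.beq_eq, lall_eq] at h
  simpa only [decide_eq_true_eq] using h

theorem mem_cons2 {S : List T} (hS : ∀ t ∈ S, vec t ∈ ruLattice) {b bi : T} (h1 : inM BL b = true)
    (h2 : isI bi b = true) : ∀ t ∈ b :: bi :: S, vec t ∈ ruLattice := by
  simp only [List.forall_mem_cons]
  exact ⟨(inM_mem h1).2, isI_sound h2 ▸ gI_smul_mem_ruLattice (inM_mem h1).2, hS⟩

theorem bd_chain (l : List Stp) : ∀ {S : List T}, (∀ t ∈ S, vec t ∈ ruLattice) → chain BL l S = true →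
    cntOK GX l = true → ∀ {m : ℕ}, Bd (fin S l) m → Bd S ((l.map (·.n)).prod * m) := by
  induction l with
  | nil => intro S _ _ _ m h; simpa [fin] using h
  | cons st l ih =>
    intro S hS h hc m hm
    obtain ⟨h1, h2, h3, h4, h5, h6⟩ := chain_cons h
    rw [cntOK, lall_eq, List.forall_mem_cons, ← lall_eq] at hc
    rw [List.map_cons, List.prod_cons, mul_assoc]
    exact bd_step hS h1 h2 h3 h4 h5 (Nat.le_of_ble_eq_true hc.1) (ih (mem_cons2 hS h1 h2) h6 hc.2 hm)

theorem fin_mem (l : List Stp) : ∀ {S : List T}, (∀ t ∈ S, vec t ∈ ruLattice) → chain BL l S = true →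
    ∀ t ∈ fin S l, vec t ∈ ruLattice := by
  induction l with
  | nil => intro S hS _; exact hS
  | cons st l ih =>
    intro S hS h
    obtain ⟨h1, h2, _, _, _, h6⟩ := chain_cons h
    exact ih (mem_cons2 hS h1 h2) h6

theorem fin_fix (l : List Stp) {f : fourRu} : ∀ {S : List T}, f ∈ Fix S → chain BL l S = true →
    (∀ st ∈ l, ∀ v : ruLattice, (v : RuVec) = vec st.b → (f.1 v : RuVec) = vec st.b) → f ∈ Fix (fin S l) := by
  induction l with
  | nil => intro S hS _ _; exact hS
  | cons st l ih =>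
    intro S hS h hf
    obtain ⟨h1, h2, _, _, _, h6⟩ := chain_cons h
    exact ih (mem_fix2 (inM_mem h1).2 h2 hS (Subtype.ext (hf st List.mem_cons_self _ rfl))) h6
      fun a ha => hf a (List.mem_cons_of_mem _ ha)

theorem bd_fin : Bd (fin (fin [] St0) StR) 1 := by
  have : Fix (fin (fin [] St0) StR) = ⊥ := eq_bot_iff.mpr fun f hf => aut_ext fun l hl =>
    hf _ (c_fin _ (by rw [List.take_of_length_le c_len.1.le]; exact getD_mem c_len.1 hl)) _ rfl
  rw [Bd, this]
  exact ⟨inferInstance, by simp⟩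

theorem bd5 : Bd (fin [] St0) 1 := by
  have := bd_chain StR (fin_mem St0 (by simp) c_ch0) c_ch1 (by
    have h1 := c_S1
    have h2 := c_S2
    have h3 := c_S3
    have h4 := c_S4
    rw [cntOK, lall_eq] at h1 h2 h3 h4 ⊢
    rw [StR]
    simp only [List.forall_mem_append]
    exact ⟨⟨⟨h1, h2⟩, h3⟩, h4⟩) bd_fin
  rwa [c_n.2] at this

theorem card_le : Finite fourRu ∧ Nat.card fourRu ≤ 583704576000 := by
  have := bd_chain St0 (by simp) c_ch0 c_S0 bd5
  rw [c_n.1, Bd, show Fix [] = ⊤ from eq_top_iff.mpr fun f _ t ht => by simp at ht] at this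
  have h1 := this.1
  exact ⟨Finite.of_equiv _ Subgroup.topEquiv.toEquiv, by simpa using this.2⟩

theorem okUL : ∀ a < 8, okU BL GM (nth [] UL a) = true := by
  intro a ha
  interval_cases a
  exacts [c_U0, c_U1, c_U2, c_U3, c_U4, c_U5, c_U6, c_U7]

/-- the letters -/
noncomputable def t (a : ℕ) : fourRu := if h : a < 8 then lift (okUL a h) else 1

theorem chkP_sound {x : T} {v : ruLattice} (hv : (v : RuVec) = vec x) (w : List ℕ) :
    ∀ {ms : List T} {y : T}, chkP BL UL w x ms y = true → ((Comp.ev t w).1 v : RuVec) = vec y := by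
  induction w with
  | nil => intro ms y h; rw [← of_decide_eq_true h]; exact hv
  | cons a w ih =>
    intro ms y h
    have e : chkP BL UL (a :: w) x ms y = band (Nat.ble a 7) (band (stepOK BL (nth [] UL a) (ms.headD x) y)
      (chkP BL UL w x ms.tail (ms.headD x))) := rfl
    rw [e, band_eq, band_eq, Nat.ble_eq] at h
    rw [ev_cons, t, dif_pos (by omega : a < 8)]
    exact lift_step (okUL a (by omega)) h.2.1 (ih h.2.2)

theorem sat : Sat t R2 := by
  intro w hw
  have key : ∀ {j : ℕ} {P : List (List T)}, (∀ b ∈ (St0.map (·.b))[j]?, lall (fun q : List ℕ × List T =>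
      chkP BL UL q.1 b q.2 b) (R2.zip P) = true ∧ P.length = R2.length) → ∀ b ∈ (St0.map (·.b))[j]?,
      ∀ v : ruLattice, (v : RuVec) = vec b → ((Comp.ev t w).1 v : RuVec) = vec b := fun {j P} h b hb v hv => by
    obtain ⟨h1, h2⟩ := h b hb
    obtain ⟨i, hi, rfl⟩ := List.getElem_of_mem hw
    exact chkP_sound hv _ ((lall_eq _ _).mp h1 (R2[i], P[i]) (by
      rw [List.mem_iff_getElem]; exact ⟨i, by simp; omega, List.getElem_zip⟩))
  have h1 : Comp.ev t w ∈ Fix (fin [] St0) := fin_fix St0 (fun t ht => by simp at ht) c_ch0 fun st hst => by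
    obtain ⟨j, hj, rfl⟩ := List.getElem_of_mem hst
    have e : St0[j].b ∈ (St0.map (·.b))[j]? := by simp [hj]
    have : j < 5 := hj
    interval_cases j
    exacts [key c_P0 _ e, key c_P1 _ e, key c_P2 _ e, key c_P3 _ e, key c_P4 _ e]
  have := bd5.1
  have h2 : Fix (fin [] St0) = ⊥ := Subgroup.eq_bot_of_card_le _ bd5.2
  rwa [h2] at h1

theorem t7 (v : ruLattice) : (t 7).1 v = ruI v := by
  induction v using lat_ind' with
  | h0 => rw [aut_zero, ruI_zero]
  | ha x y h1 h2 => rw [(t 7).2.1, ruI_add, h1, h2]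
  | hn x h1 => rw [aut_neg, ruI_neg, h1]
  | hB m hm =>
    apply Subtype.ext
    rw [t, dif_pos (by norm_num), lift_B _ hm]
    exact isI_sound (c_I m hm)

theorem t7_mem : t 7 ∈ Subgroup.center fourRu :=
  Subgroup.mem_center_iff.mpr fun g => Subtype.ext (Equiv.ext fun v => by
    change g.1 ((t 7).1 v) = (t 7).1 (g.1 v)
    rw [t7, t7, g.2.2.1])

theorem order_t7 : orderOf (t 7) = 4 := by
  refine orderOf_eq_prime_pow (p := 2) (n := 1) (fun h => ?_) ?_
  · have e : (t 7).1 ((t 7).1 ⟨B 0, B_mem (by norm_num)⟩) = ⟨B 0, B_mem (by norm_num)⟩ := by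
      have := congrArg (fun f : fourRu => f.1 ⟨B 0, B_mem (by norm_num)⟩) h
      simpa [pow_two] using this
    rw [t7, t7] at e
    have e2 : gI • gI • B 0 = B 0 := congrArg Subtype.val e
    rw [← (B_pr (p := 0) (by norm_num)).1, (B_pr (p := 0) (by norm_num)).2] at e2
    have e3 : ip (B 0) (B 0) = 16 := by
      rw [B, ip_fam c_B (by norm_num) (by norm_num)]; decide +kernel
    have := ip_neg (B 0) (B 0)
    rw [show -B 0 = B 0 from e2] at this
    omega
  · have := sat [7, 7, 7, 7] (by decide +kernel)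
    simpa [pow_succ, mul_assoc] using this

theorem ne02 : t 0 * t 2 ≠ t 2 * t 0 := fun h => by
  obtain ⟨h1, h2, h3, j, hj, h4⟩ := c_nc
  have a1 := chkP_sound (v := ⟨vec nx, (inM_mem h3).2⟩) rfl _ h1
  have a2 := chkP_sound (v := ⟨vec nx, (inM_mem h3).2⟩) rfl _ h2
  simp only [ev_cons, ev_nil, mul_one] at a1 a2
  rw [h, a2] at a1
  exact h4 (by rw [← co_vec _ hj, ← co_vec _ hj, a1])

theorem hR2 : (∀ w ∈ R2, ∀ x ∈ w, x < 7 + 1) ∧ ∀ w ∈ Ru.R, ∃ u ∈ R2, w = u.filter (· < 7) := by
  decide +kernel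

theorem t_top : gen t 8 = ⊤ := by
  have := Ru.simple
  have := card_le.1
  let s : ℕ → gen t 8 := fun x => if h : x < 8 then ⟨t x, letter_mem_gen h⟩ else 1
  have hs : ∀ x, (s x : fourRu) = t x := fun x => by
    simp only [s]; split_ifs with h
    · rfl
    · rw [t, dif_neg h]; rfl
  have h1 : gen s 8 = ⊤ := by
    apply Subgroup.map_injective (gen t 8).subtype_injective
    rw [← MonoidHom.range_eq_map, Subgroup.range_subtype, map_genW]
    exact congrArg (fun f => gen f 8) (funext hs)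
  obtain ⟨h2, e, _⟩ := Ru.pres.central Ru.hR h1 (Subgroup.mem_center_iff.mpr fun g => Subtype.ext (by
      rw [Subgroup.coe_mul, Subgroup.coe_mul, hs]; exact Subgroup.mem_center_iff.mp t7_mem _)) (R' := R2)
    (fun w hw => Subtype.ext (by
      have := map_ev s (gen t 8).subtype w
      exact this.trans ((congrArg (fun f => Comp.ev f w) (funext hs)).trans (sat w hw)))) hR2.1 hR2.2
    ⟨s 0, s 2, fun h => ne02 (by simpa [hs] using congrArg Subtype.val h)⟩
  have h3 := Subgroup.card_eq_card_quotient_mul_card_subgroup (Subgroup.center (gen t 8))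
  rw [← Nat.card_congr e.toEquiv, Ru.card.2.1, h2, Nat.card_zpowers, ← Subgroup.orderOf_coe, hs,
    order_t7] at h3
  exact Subgroup.eq_top_of_le_card _ (by rw [h3]; exact card_le.2)

theorem central : Subgroup.center fourRu = Subgroup.zpowers (t 7) ∧
    ∃ e : Ru.G ≃* Spor.Ru, ∀ x < 7, e (Ru.s x) = QuotientGroup.mk (t x) :=
  have := Ru.simple
  Ru.pres.central Ru.hR t_top t7_mem sat hR2.1 hR2.2 ⟨_, _, ne02⟩

/-- the isomorphism with the presented group -/
noncomputable def iso : Ru.G ≃* Spor.Ru := central.2.choose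

theorem card_center : Nat.card (Subgroup.center fourRu) = 4 := by
  rw [central.1, Nat.card_zpowers, order_t7]

theorem card_Ru : Nat.card Spor.Ru = 145926144000 := (Nat.card_congr iso.toEquiv).symm.trans Ru.card.2.1

theorem simple_Ru : IsSimpleGroup Spor.Ru :=
  have := Ru.simple
  iso.symm.isSimpleGroup

theorem isoRu_iff {G : Type*} [Group G] : IsoRu G ↔ Nonempty (G ≃* Ru.G) :=
  ⟨fun ⟨e⟩ => ⟨e.trans iso.symm⟩, fun ⟨e⟩ => ⟨e.trans iso⟩⟩

end Cfsg.Agent.RuL
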