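import Cfsg.Agent.RuL.Lat
import Cfsg.Agent.RuL.C2
import Cfsg.Agent.RuL.C3

set_option autoImplicit false

/-! The short vectors of the lattice. -/

namespace Cfsg.Agent.RuL
open Cfsg.Agent.Comp Finset Cfsg.Spor

/-- the odd coordinates -/
noncomputable def par (y : RuVec) : ℕ := (exists_mask 56 fun j => decide (co y j % 2 = 1)).choose

theorem par_vd (y : RuVec) : Vd 56 (par y) := (exists_mask 56 _).choose_spec.1

theorem bt_par (y : RuVec) {j : ℕ} (hj : j < 56) : bt (par y) j = decide (co y j % 2 = 1) :=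
  (exists_mask 56 fun j => decide (co y j % 2 = 1)).choose_spec.2 j hj

theorem par_sp {y : RuVec} (hy : y ∈ ruLattice) : Sp (gs.map (·.1)) (par y) := by
  refine lat_ind (P := fun y => Sp (gs.map (·.1)) (par y)) ?_ (fun a b _ _ h1 h2 => ?_)
    (fun a _ h => ?_) (fun l hl => ?_) hy
  · rw [(par_vd 0).ext (vd_zero _) fun j hj => by rw [bt_par _ hj, co_zero, bt_zero]; rfl]
    exact sp_zero _
  · rw [(par_vd (a + b)).ext ((par_vd a).xor (par_vd b)) fun j hj => ?_]
    · exact h1.xor h2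
    · rw [bt_xor, bt_par _ hj, bt_par _ hj, bt_par _ hj, co_add]
      rcases Int.emod_two_eq_zero_or_one (co a j) with e | e <;>
        rcases Int.emod_two_eq_zero_or_one (co b j) with e' | e' <;> simp [e, e', Int.add_emod]
  · rwa [(par_vd (-a)).ext (par_vd a) fun j hj => by
      rw [bt_par _ hj, bt_par _ hj, co_neg, Int.neg_emod_two]]
  · have h := getD_mem c_len.1 hl
    have hv := ((okU_iff c_B).2.1 _ h).1
    have h1 := c_P l hl
    have h2 := (c_N _ h).2
    have e : par (B l) = comb (gs.map (·.1)) (PM.getD l 0) := by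
      rw [← h1, B, fam]
      generalize BL.getD l (0, 0, 0) = t at *
      rcases h2 with h2 | h2
      · rw [if_pos h2]
        refine (par_vd _).ext hv fun j hj => ?_
        rw [bt_par _ hj, co_vec _ hj, val, h2]
        cases bt t.1 j <;> cases bt t.2.1 j <;> simp
      · rw [if_neg (by omega)]
        refine (par_vd _).ext (vd_zero _) fun j hj => ?_
        rw [bt_par _ hj, co_vec _ hj, val, h2, bt_zero]
        cases bt t.1 j <;> cases bt t.2.1 j <;> simp
    rw [e]; exact sp_comb _ _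

theorem vd_top : Vd 57 top := Vd.one (by norm_num)

theorem bt_top (j : ℕ) : bt top j = decide (j = 56) := bt_one 56 j

theorem cn_top {u k ρ : ℕ} (hu : Vd 56 u) (hk : Vd 56 k) (hρ : ρ < 2) :
    cn 57 ((u ^^^ top) &&& (k ^^^ ρ * top)) = cn 56 (u &&& k) + ρ := by
  have f : ∀ {x : ℕ}, Vd 56 x → bt x 56 = false := fun {x} hx => by
    cases h : bt x 56
    · rfl
    · obtain ⟨j, hj, e⟩ := hx _ h; omega
  have g : ∀ j, bt (ρ * top) j = (decide (ρ = 1) && decide (j = 56)) := fun j => by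
    obtain rfl | rfl : ρ = 0 ∨ ρ = 1 := by omega
    · rw [Nat.zero_mul, bt_zero]; rfl
    · rw [Nat.one_mul, bt_top]; rfl
  have e1 : ∀ j ∈ range 56, (bt ((u ^^^ top) &&& (k ^^^ ρ * top)) j).toNat = (bt (u &&& k) j).toNat :=
    fun j hj => by
      rw [bt_and, bt_xor, bt_xor, g, bt_top, bt_and, decide_eq_false (mem_range.mp hj).ne]; simp
  have e2 : (bt ((u ^^^ top) &&& (k ^^^ ρ * top)) 56).toNat = ρ := by
    rw [bt_and, bt_xor, bt_xor, g, bt_top, f hu, f hk]
    obtain rfl | rfl : ρ = 0 ∨ ρ = 1 := by omega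
    all_goals rfl
  rw [cn, sum_range_succ, sum_congr rfl e1, e2, cn]

/-- the conditions on the second binary digits -/
theorem ev_row {y : RuVec} (hy : y ∈ ruLattice) {u : ℕ} (hu : Vd 56 u)
    (hb : ∀ j < 56, bt u j = decide (2 ≤ co y j % 4)) : ∀ R ∈ gs.map (row (par y)), Ev (u ^^^ top) R := by
  intro R hR
  obtain ⟨g, hg, rfl⟩ := List.mem_map.mp hR
  obtain ⟨h1, h2⟩ := c_g g hg
  obtain ⟨h3, h4⟩ := (okU_iff c_B).2.1 g h1
  have h5 := ip_dvd hy (lat_eq ▸ h4 : vec g ∈ ruLattice)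
  have e : y = vec (t1 (par y) 0) + (2 : ℤ) • vec (t1 u 0) + (4 : ℤ) • ofc fun j => co y j / 4 :=
    co_ext fun j hj => by
      rw [co_add, co_add, co_smul, co_smul, co_vec _ hj, co_vec _ hj, co_ofc _ hj]
      simp only [val, t1, bt_zero, bt_par _ hj, hb j hj, decide_eq_true_eq]
      split_ifs <;> simp_all <;> omega
  rw [e, ip_add, ip_add, ip_smul, ip_smul, ip_vec (par_vd y), ip_vec hu] at h5
  have e1 : ipA (t1 u 0) g = 1 * g.2.2 * ((u &&& g.1) % 63) := rfl
  have e2 : ipB (t1 u 0) g = 2 * (1 * g.2.2) * (((u &&& g.1) &&& (0 ^^^ g.2.1)) % 63) := rfl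
  have e3 : ipB (t1 (par y) 0) g = 2 * (1 * g.2.2) * (((par y &&& g.1) &&& (0 ^^^ g.2.1)) % 63) := rfl
  have e4 : row (par y) g = g.1 ^^^ (((ipA (t1 (par y) 0) g + ipB (t1 (par y) 0) g) >>> 1) &&& 1) * top := rfl
  rw [h2, (hu.and _).wt (by norm_num)] at e1
  rw [h2] at e2 e3
  rw [Ev, e4, Nat.and_one_is_mod, cn_top hu h3 (Nat.mod_lt _ (by norm_num)), Nat.shiftRight_one]
  omega

theorem ev_comb {u : ℕ} {rows ms : List ℕ} (h : ∀ R ∈ rows, Ev u R) : ∀ R ∈ ms.map (comb rows), Ev u R := by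
  intro R hR
  obtain ⟨m, _, rfl⟩ := List.mem_map.mp hR
  exact comb_ind (ev_zero u) (fun _ _ => Ev.xor) rows h m

theorem syn_top {Rs : List ℕ} {w : ℕ} (hw : Vd 56 w) (h : ∀ R ∈ Rs, Ev (top ^^^ w) R) :
    syn Rs 56 ^^^ phi (syn Rs) w 56 = 0 := by
  have h1 : phi (syn Rs) (top ^^^ w) (56 + 1) = 0 := phi_syn h
  have h2 : bt (top ^^^ w) 56 = true := by
    cases hb : bt w 56
    · rw [bt_xor, bt_top, hb]; rfl
    · obtain ⟨j, hj, e⟩ := hw _ hb; omega
  rwa [phi, h2, if_pos rfl, phi_congr (v := w) _ 56 fun j hj => by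
    rw [bt_xor, bt_top, decide_eq_false hj.ne]; simp] at h1

/-- the vector is in the list -/
def InX (y : RuVec) : Prop := ∃ t ∈ XL GX, y = vec t

theorem c_G {e : Ent} (he : e ∈ Grp.flatten) : chkG gs e = true := by
  obtain ⟨l, hl, he⟩ := List.mem_flatten.mp he
  rw [← List.take_append_drop 12 Grp, List.mem_append] at hl
  rcases hl with hl | hl
  exacts [(lall_eq _ _).mp ((lall_eq _ _).mp c_G0 l hl) e he, (lall_eq _ _).mp ((lall_eq _ _).mp c_G1 l hl) e he]

theorem XL_vd {t : T} (ht : t ∈ XL GX) : Vd 56 t.1 := by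
  obtain ⟨e, he, ht⟩ := List.mem_flatMap.mp ht
  obtain ⟨s, _, rfl⟩ := List.mem_map.mp ht
  rcases List.mem_append.mp he with he | he
  · obtain ⟨j, hj, rfl⟩ := List.mem_map.mp he
    exact Vd.one (List.mem_range.mp hj)
  · have := c_G he
    rw [chkG, frcL_eq, frcL_eq, band_eq] at this
    exact vd_sound this.1

theorem frame {z : RuVec} (h : ip z z ≤ 1) (h0 : z ≠ 0) : 1 ≤ ip z z ∧ InX ((4 : ℤ) • z) := by
  obtain ⟨j, hj, hz⟩ : ∃ j < 56, co z j ≠ 0 := by
    by_contra hc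
    push Not at hc
    exact h0 (co_ext fun j hj => by rw [hc j hj, co_zero])
  have e := add_sum_erase (range 56) (fun i => co z i * co z i) (mem_range.mpr hj)
  have h1 : 0 ≤ ∑ i ∈ (range 56).erase j, co z i * co z i := sum_nonneg fun i _ => mul_self_nonneg _
  have h2 : 0 < co z j * co z j := mul_self_pos.mpr hz
  rw [ip] at h ⊢
  refine ⟨by omega, ?_⟩
  have h3 := (sum_eq_zero_iff_of_nonneg fun i _ => mul_self_nonneg (co z i)).mp
    (show ∑ i ∈ (range 56).erase j, co z i * co z i = 0 by omega)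
  have h4 : co z j = 1 ∨ co z j = -1 := mul_self_eq_one_iff.mp (by omega)
  have hm : (⟨1 <<< (6 * j), 0, 4, [1 <<< (6 * j)], [], []⟩ : Ent) ∈ GX :=
    List.mem_append_left _ (List.mem_map.mpr ⟨j, List.mem_range.mpr hj, rfl⟩)
  refine ⟨(1 <<< (6 * j), if co z j = 1 then 0 else 1 <<< (6 * j), 4), List.mem_flatMap.mpr ⟨_, hm,
    List.mem_map.mpr ⟨_, by split_ifs <;> simp [lst], rfl⟩⟩, co_ext fun i hi => ?_⟩
  rw [co_smul, co_vec _ hi, val]
  by_cases hij : i = j
  · subst hij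
    rcases h4 with h4 | h4 <;> simp [h4, bt_one, bt_zero]
  · rw [mul_self_eq_zero.mp (h3 i (mem_erase.mpr ⟨hij, mem_range.mpr hi⟩))]
    simp [bt_one, hij]

theorem cn_cast (n x : ℕ) : (cn n x : ℤ) = ∑ j ∈ range n, ((bt x j).toNat : ℤ) := by
  rw [cn, Nat.cast_sum]

section
variable {y : RuVec} {u : ℕ} (hu : Vd 56 u) (hb : ∀ j < 56, bt u j = decide (2 ≤ co y j % 4))
include hb

theorem sq_ge : ∀ j ∈ range 56, ((bt (par y) j).toNat : ℤ) + 4 * (bt (u ^^^ (u &&& par y)) j).toNat ≤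
    co y j * co y j := fun j hj => by
  rw [bt_xor, bt_and, bt_par _ (mem_range.mp hj), hb j (mem_range.mp hj)]
  generalize co y j = a
  by_cases h1 : a % 2 = 1
  · have : 0 < a * a := mul_self_pos.mpr (by omega)
    simp [h1]; omega
  · by_cases h2 : 2 ≤ a % 4
    · have : 2 ≤ a ∨ a ≤ -2 := by omega
      simp [h1, h2]; rcases this with h | h <;> nlinarith
    · simp [h1, h2, mul_self_nonneg]

theorem norm_ge : (cn 56 (par y) : ℤ) + 4 * cn 56 (u ^^^ (u &&& par y)) ≤ ip y y := by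
  have := sum_le_sum (sq_ge hb)
  rwa [sum_add_distrib, ← mul_sum, ← cn_cast, ← cn_cast] at this

include hu

theorem no_sub {Rs : List ℕ} {n : ℕ} (h1 : ∀ R ∈ Rs, Ev (top ^^^ (u ^^^ (u &&& par y))) R)
    (h2 : sub n (dl (syn Rs) 56) (syn Rs 56) = true) (h3 : cn 56 (u ^^^ (u &&& par y)) ≤ n) :
    u ^^^ (u &&& par y) = 0 := by
  have hw : Vd 56 (u ^^^ (u &&& par y)) := hu.xor (hu.and _)
  by_contra hc
  exact sub_sound _ _ _ _ _ h2 (fun h => hc (hw.zero_of_cn h)) h3 (syn_top hw h1)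

theorem short0 (hy : y ∈ ruLattice) (hn : ip y y ≤ 16) (h0 : y ≠ 0) (h : par y = 0) :
    16 ≤ ip y y ∧ InX y := by
  have hr := ev_row hy hu hb
  have t2 := norm_ge hb
  have c := c_Z
  rw [chkZ, frcL_eq, frc_eq, frcL_eq] at c
  rw [h] at hr
  have h2 := no_sub hu hb (fun R hR => by
    rw [h, Nat.and_zero, Nat.xor_zero, Nat.xor_comm]; exact hr R hR) c (by omega)
  rw [h, Nat.and_zero, Nat.xor_zero] at h2
  have e : y = (4 : ℤ) • ofc fun j => co y j / 4 := co_ext fun j hj => by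
    have a1 := bt_par y hj
    have a2 := hb j hj
    rw [h, bt_zero] at a1
    rw [h2, bt_zero] at a2
    simp only [Bool.false_eq, decide_eq_false_iff_not] at a1 a2
    rw [co_smul, co_ofc _ hj]; omega
  generalize (ofc fun j => co y j / 4) = z at e
  subst e
  rw [ip_smul, ip_comm, ip_smul] at hn ⊢
  have := frame (z := z) (by omega) (by rintro rfl; simp at h0)
  exact ⟨by omega, this.2⟩

theorem shortG (hy : y ∈ ruLattice) (hn : ip y y ≤ 16) {e : Ent} (he : e ∈ Grp.flatten) (h : e.k = par y) :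
    16 ≤ ip y y ∧ InX y := by
  have hk := par_vd y
  have hr := ev_row hy hu hb
  have t2 := norm_ge hb
  have hw : Vd 56 (u ^^^ (u &&& par y)) := hu.xor (hu.and _)
  have hwt := hk.wt (by norm_num)
  have c := c_G he
  rw [chkG, frcL_eq, frcL_eq, band_eq, band_eq, band_eq, band_eq, band_eq, lall_eq, h] at c
  obtain ⟨_, c1, c2, c3, c4, c5⟩ := c
  have c1 : e.c = 1 := Nat.eq_of_beq_eq_true c1
  have c2 : par y % 63 = 16 := Nat.eq_of_beq_eq_true c2
  have c3 : e.s &&& par y = e.s := Nat.eq_of_beq_eq_true c3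
  have h2 : u ^^^ (u &&& par y) = 0 := hw.zero_of_cn (by omega)
  have h3 : u &&& par y = u := (Nat.xor_eq_zero_iff.mp h2).symm
  have hs : Vd 56 e.s := c3 ▸ hk.and' _
  have h4 : Sp e.β (u ^^^ e.s) := fre_sound _ c5 hk (by rw [Nat.and_xor_distrib_right, h3, c3])
    fun R hR => by
      have := (ev_comb hr R hR).xor' ((ev_iff ((hs.mono (by norm_num)).xor vd_top) R).mp (c4 R hR))
      rwa [Nat.xor_assoc, Nat.xor_comm e.s, ← Nat.xor_assoc top, Nat.xor_self, Nat.zero_xor] at this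
  have h5 := mem_lst e.s h4
  rw [Nat.xor_comm u, ← Nat.xor_assoc, Nat.xor_self, Nat.zero_xor] at h5
  refine ⟨by omega, (e.k, u, e.c), List.mem_flatMap.mpr ⟨e, List.mem_append_right _ he,
    List.mem_map.mpr ⟨u, h5, rfl⟩⟩, co_ext fun j hj => ?_⟩
  have h6 := (sum_eq_sum_iff_of_le (sq_ge hb)).mp (by
    rw [sum_add_distrib, ← mul_sum, ← cn_cast, ← cn_cast, ← ip]; omega) j (mem_range.mpr hj)
  rw [h2, bt_zero, bt_par _ hj] at h6
  rw [co_vec _ hj, val]
  simp only [h, c1, bt_par _ hj, hb j hj, decide_eq_true_eq]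
  generalize co y j = a at h6 ⊢
  by_cases h7 : a % 2 = 1
  · rcases mul_self_eq_one_iff.mp (show a * a = 1 by simpa [h7] using h6.symm) with rfl | rfl <;> simp
  · simp [h7, mul_self_eq_zero.mp (show a * a = 0 by simpa [h7] using h6.symm)]

theorem shortN (hy : y ∈ ruLattice) (hn : ip y y ≤ 16) {e : Ent} (he : e ∈ Non.flatten) (h : e.k = par y) :
    False := by
  have hr := ev_row hy hu hb
  have t2 := norm_ge hb
  have hw : Vd 56 (u ^^^ (u &&& par y)) := hu.xor (hu.and _)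
  have hwt := (par_vd y).wt (by norm_num)
  obtain ⟨l, hl, he⟩ := List.mem_flatten.mp he
  have c := (lall_eq _ _).mp ((lall_eq _ _).mp c_Non l hl) e he
  rw [chkN, frcL_eq, frcL_eq, frc_eq, band_eq, band_eq, band_eq, lall_eq, h] at c
  obtain ⟨c1, c2, c3, c4⟩ := c
  have c1 : 13 ≤ par y % 63 + 4 * e.c := Nat.le_of_ble_eq_true c1
  have h2 : ∀ R ∈ e.ms.map (comb (gs.map (row (par y)))), Ev (top ^^^ (u ^^^ (u &&& par y))) R :=
    fun R hR => by
      have a1 : par y &&& R = 0 := Nat.eq_of_beq_eq_true (c2 R hR)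
      have a2 : Ev (u &&& par y) R := by
        have := ev_zero u
        unfold Ev at this ⊢
        rwa [Nat.and_assoc, a1]
      rw [← Nat.xor_assoc, Nat.xor_comm top]
      exact (ev_comb hr R hR).xor' a2
  have h3 : u ^^^ (u &&& par y) = 0 := by
    rcases hc : e.c with _ | n
    · exact hw.zero_of_cn (by omega)
    · rw [hc] at c4
      exact no_sub hu hb h2 ((frcL_eq _ _).symm.trans c4) (by omega)
  have h4 := syn_top hw h2
  have e0 : ∀ col m, phi col 0 m = 0 := fun col m => by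
    induction m with
    | zero => rfl
    | succ m ihm => simp [phi, bt_zero, ihm]
  rw [h3, e0, Nat.xor_zero] at h4
  rw [h4] at c3
  exact absurd c3 (by decide)

end

theorem short {y : RuVec} (hy : y ∈ ruLattice) (hn : ip y y ≤ 16) (h0 : y ≠ 0) :
    16 ≤ ip y y ∧ InX y := by
  obtain ⟨u, hu, hb⟩ := exists_mask 56 fun j => decide (2 ≤ co y j % 4)
  have t2 := norm_ge hb
  have hwt := (par_vd y).wt (by norm_num)
  have h1 := tree_sound c_tree (par_sp hy)
  rw [Nat.zero_xor] at h1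
  rcases lowT_sound h1 (by omega) with h | ⟨e, he, h⟩ | ⟨e, he, h⟩
  exacts [short0 hu hb hy hn h0 h, shortG hu hb hy hn he h, (shortN hu hb hy hn he h).elim]

end Cfsg.Agent.RuL
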