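import Cfsg.Agent.RuL.Bits
import Cfsg.Prelude.Def_Spor_Ru

set_option autoImplicit false

/-! Real coordinates and the inner product on `RuVec`; sign vectors; families with a fixed Gram matrix. -/

namespace Cfsg.Agent.RuL
open Cfsg.Agent.Comp Finset Cfsg.Spor

/-- the index of a real coordinate -/
def idx (j : ℕ) : RuIdx := (⟨j / 8 % 7, Nat.mod_lt _ (by norm_num)⟩, ⟨j / 2 % 4, Nat.mod_lt _ (by norm_num)⟩)

/-- the real coordinates -/
def co (y : RuVec) (j : ℕ) : ℤ := if j % 2 = 0 then (y (idx j)).re else (y (idx j)).im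

/-- the vector with given real coordinates -/
def ofc (c : ℕ → ℤ) : RuVec := fun p => ⟨c (8 * p.1.val + 2 * p.2.val), c (8 * p.1.val + 2 * p.2.val + 1)⟩

theorem co_ofc (c : ℕ → ℤ) {j : ℕ} (hj : j < 56) : co (ofc c) j = c j := by
  unfold co ofc idx
  split_ifs <;> simp only <;> congr 1 <;> omega

theorem ofc_co (y : RuVec) : ofc (co y) = y := by
  funext p
  obtain ⟨⟨a, ha⟩, ⟨b, hb⟩⟩ := p
  have e1 : idx (8 * a + 2 * b) = (⟨a, ha⟩, ⟨b, hb⟩) := by
    simp only [idx, Prod.mk.injEq, Fin.mk.injEq]; omega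
  have e2 : idx (8 * a + 2 * b + 1) = (⟨a, ha⟩, ⟨b, hb⟩) := by
    simp only [idx, Prod.mk.injEq, Fin.mk.injEq]; omega
  simp only [ofc, co]
  rw [if_pos (by omega), if_neg (by omega), e1, e2]

theorem co_ext {x y : RuVec} (h : ∀ j < 56, co x j = co y j) : x = y := by
  rw [← ofc_co x, ← ofc_co y]
  funext p
  have h1 := p.1.2
  have h2 := p.2.2
  simp only [ofc]
  rw [h _ (by omega), h _ (by omega)]

theorem co_add (x y : RuVec) (j : ℕ) : co (x + y) j = co x j + co y j := by
  unfold co; split_ifs <;> simp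
theorem co_zero (j : ℕ) : co 0 j = 0 := by unfold co; split_ifs <;> simp
theorem co_neg (x : RuVec) (j : ℕ) : co (-x) j = -co x j := by unfold co; split_ifs <;> simp

/-- a coordinate as an additive map -/
def coH (j : ℕ) : RuVec →+ ℤ := ⟨⟨fun x => co x j, co_zero j⟩, fun x y => co_add x y j⟩

theorem co_smul (n : ℤ) (x : RuVec) (j : ℕ) : co (n • x) j = n * co x j := map_zsmul (coH j) n x
theorem co_sub (x y : RuVec) (j : ℕ) : co (x - y) j = co x j - co y j := map_sub (coH j) x y

theorem co_I {x : RuVec} {p : ℕ} : co (gI • x) (2 * p) = -co x (2 * p + 1) ∧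
    co (gI • x) (2 * p + 1) = co x (2 * p) := by
  have e : idx (2 * p + 1) = idx (2 * p) := by
    simp only [idx, Prod.mk.injEq, Fin.mk.injEq]; omega
  unfold co
  rw [if_pos (by omega), if_neg (by omega), if_neg (by omega), if_pos (by omega), e]
  simp [gI]

/-- the real inner product -/
def ip (x y : RuVec) : ℤ := ∑ j ∈ range 56, co x j * co y j

theorem ip_comm (x y : RuVec) : ip x y = ip y x := sum_congr rfl fun _ _ => mul_comm _ _
theorem ip_add (x y z : RuVec) : ip (x + y) z = ip x z + ip y z := by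
  simp only [ip, co_add, add_mul, sum_add_distrib]
theorem ip_zero (z : RuVec) : ip 0 z = 0 := by simp [ip, co_zero]

/-- the inner product as an additive map -/
def ipH (z : RuVec) : RuVec →+ ℤ := ⟨⟨fun x => ip x z, ip_zero z⟩, fun x y => ip_add x y z⟩

theorem ip_neg (x z : RuVec) : ip (-x) z = -ip x z := map_neg (ipH z) x
theorem ip_sub (x y z : RuVec) : ip (x - y) z = ip x z - ip y z := map_sub (ipH z) x y
theorem ip_smul (n : ℤ) (x z : RuVec) : ip (n • x) z = n * ip x z := map_zsmul (ipH z) n x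
theorem ip_sum (a : ℕ → ℤ) (U : ℕ → RuVec) (z : RuVec) :
    ip (∑ l ∈ range 56, a l • U l) z = ∑ l ∈ range 56, a l * ip (U l) z := by
  have := map_sum (ipH z) (fun l => a l • U l) (range 56)
  simp only [← ip_smul]; exact this

theorem norm_eq (y : RuVec) : ruNorm y = ip y y := by
  have e : ∀ z : GaussianInt, z.norm = z.re * z.re + z.im * z.im := fun z => by
    simp [Zsqrtd.norm]
  simp only [ruNorm, Fintype.sum_prod_type, Fin.sum_univ_seven, Fin.sum_univ_four, ip,
    sum_range_succ, range_zero, sum_empty, co, idx, e]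
  norm_num
  simp only [Fin.mk_zero, Fin.mk_one, Fin.reduceFinMk]
  ring

theorem norm_add (x y : RuVec) : ip (x + y) (x + y) = ip x x + ip y y + 2 * ip x y := by
  rw [ip_add, ip_comm x (x + y), ip_comm y (x + y), ip_add, ip_add, ip_comm y x]; ring

/-- support, signs, size -/
abbrev T : Type := ℕ × ℕ × ℕ

/-- the coordinates of a sign vector -/
def val (t : T) (j : ℕ) : ℤ := if bt t.1 j then (if bt t.2.1 j then -(t.2.2 : ℤ) else t.2.2) else 0

/-- a sign vector -/
def vec (t : T) : RuVec := ofc (val t)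

theorem co_vec (t : T) {j : ℕ} (hj : j < 56) : co (vec t) j = val t j := co_ofc _ hj

/-- first part of the inner product -/
def ipA (x s : T) : ℕ :=
  Nat.mul (Nat.mul x.2.2 s.2.2) (Nat.mod (Nat.land x.1 s.1) (nat_lit 63))

/-- second part of the inner product -/
def ipB (x s : T) : ℕ :=
  Nat.mul (Nat.mul (nat_lit 2) (Nat.mul x.2.2 s.2.2))
    (Nat.mod (Nat.land (Nat.land x.1 s.1) (Nat.xor x.2.1 s.2.1)) (nat_lit 63))

theorem ip_vec {x : T} (h : Vd 56 x.1) (s : T) : ip (vec x) (vec s) = ipA x s - ipB x s := by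
  have e1 : ipA x s = x.2.2 * s.2.2 * ((x.1 &&& s.1) % 63) := rfl
  have e2 : ipB x s = 2 * (x.2.2 * s.2.2) * (((x.1 &&& s.1) &&& (x.2.1 ^^^ s.2.1)) % 63) := rfl
  rw [e1, e2, (h.and _).wt (by norm_num), ((h.and _).and _).wt (by norm_num), cn, cn, ip]
  push_cast
  rw [mul_sum, mul_sum, ← sum_sub_distrib]
  refine sum_congr rfl fun j hj => ?_
  rw [co_vec _ (mem_range.mp hj), co_vec _ (mem_range.mp hj), val, val]
  simp only [bt_and, bt_xor]
  cases bt x.1 j <;> cases bt s.1 j <;> cases bt x.2.1 j <;> cases bt s.2.1 j <;> simp <;> ring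

/-- the check that two inner products agree -/
def ipE (x s y t : T) : Bool := Nat.beq (Nat.add (ipA x s) (ipB y t)) (Nat.add (ipA y t) (ipB x s))

theorem ipE_sound {x s y t : T} (hx : Vd 56 x.1) (hy : Vd 56 y.1) (h : ipE x s y t = true) :
    ip (vec x) (vec s) = ip (vec y) (vec t) := by
  have : ipA x s + ipB y t = ipA y t + ipB x s := Nat.eq_of_beq_eq_true h
  rw [ip_vec hx, ip_vec hy]; omega

/-- the check that an inner product is divisible by four -/
def ip4 (x s : T) : Bool :=
  Nat.beq (Nat.land (Nat.add (ipA x s) (Nat.mul (nat_lit 3) (ipB x s))) (nat_lit 3)) (nat_lit 0)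

theorem ip4_sound {x s : T} (hx : Vd 56 x.1) (h : ip4 x s = true) : 4 ∣ ip (vec x) (vec s) := by
  have h1 : (ipA x s + 3 * ipB x s) &&& (2 ^ 2 - 1) = 0 := Nat.eq_of_beq_eq_true h
  rw [Nat.and_two_pow_sub_one_eq_mod] at h1
  rw [ip_vec hx]; omega

/-- the check that `t'` is `i` times `t` -/
def isI (t' t : T) : Bool :=
  (List.range 28).all fun p => val t' (2 * p) == -val t (2 * p + 1) && val t' (2 * p + 1) == val t (2 * p)

theorem isI_sound {t' t : T} (h : isI t' t = true) : vec t' = gI • vec t := by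
  simp only [isI, List.all_eq_true, List.mem_range, Bool.and_eq_true, beq_iff_eq] at h
  refine co_ext fun j hj => ?_
  rcases Nat.even_or_odd' j with ⟨p, rfl | rfl⟩
  · rw [co_I.1, co_vec _ hj, co_vec _ (by omega), (h p (by omega)).1]
  · rw [co_I.2, co_vec _ hj, co_vec _ (by omega), (h p (by omega)).2]

/-- `D` is four times the inverse of the Gram matrix of `U` -/
def Gr (D : ℕ → ℕ → ℤ) (U : ℕ → RuVec) : Prop :=
  ∀ l < 56, ∀ n < 56, ∑ m ∈ range 56, D l m * ip (U m) (U n) = if l = n then 4 else 0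

variable {D : ℕ → ℕ → ℤ} {U : ℕ → RuVec}

theorem Gr.perp (h : Gr D U) {z : RuVec} (hz : ∀ l < 56, ip z (U l) = 0) : z = 0 := by
  let A : Matrix (Fin 56) (Fin 56) ℤ := Matrix.of fun l j => co (U l) j
  let Dm : Matrix (Fin 56) (Fin 56) ℤ := Matrix.of fun l m => D l m
  have e : Dm * (A * A.transpose) = (4 : ℤ) • (1 : Matrix (Fin 56) (Fin 56) ℤ) := by
    ext l n
    have := h l l.2 n n.2
    rw [← Fin.sum_univ_eq_sum_range (fun m => D l m * ip (U m) (U n))] at this
    rw [Matrix.mul_apply, Matrix.smul_apply, Matrix.one_apply]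
    simp only [Matrix.mul_apply, Matrix.transpose_apply, A, Dm, Matrix.of_apply]
    simp only [ip, ← Fin.sum_univ_eq_sum_range (fun j => co (U _) j * co (U n) j)] at this
    rw [this]; simp [Fin.ext_iff]
  have hd : A.det ≠ 0 := fun h0 => by
    have := congrArg Matrix.det e
    rw [Matrix.det_mul, Matrix.det_mul, h0, Matrix.det_smul] at this
    simp at this
  have h2 : A.mulVec (fun j => co z j) = 0 := by
    funext l
    have := hz l l.2
    rw [ip_comm, ip, ← Fin.sum_univ_eq_sum_range (fun j => co (U l) j * co z j)] at this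
    exact this
  have h3 := Matrix.eq_zero_of_mulVec_eq_zero hd h2
  exact co_ext fun j hj => (congrFun h3 ⟨j, hj⟩).trans (co_zero j).symm

theorem Gr.span (h : Gr D U) {y : RuVec} (hy : ∀ l < 56, 4 ∣ ip y (U l)) :
    ∃ a : ℕ → ℤ, y = ∑ l ∈ range 56, a l • U l := by
  refine ⟨fun l => ∑ m ∈ range 56, ip y (U m) / 4 * D m l, sub_eq_zero.mp (h.perp fun n hn => ?_)⟩
  rw [ip_sub, ip_sum]
  simp only [sum_mul]
  rw [sum_comm]
  have : ∀ m ∈ range 56, ∑ l ∈ range 56, ip y (U m) / 4 * D m l * ip (U l) (U n) =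
      if m = n then ip y (U m) / 4 * 4 else 0 := fun m hm => by
    simp only [mul_assoc]
    rw [← mul_sum, h m (mem_range.mp hm) n hn]; split_ifs <;> simp
  rw [sum_congr rfl this, sum_ite_eq', if_pos (mem_range.mpr hn), Int.ediv_mul_cancel (hy n hn), sub_self]

theorem Gr.indep (h : Gr D U) {c : ℕ → ℤ} (hc : ∑ l ∈ range 56, c l • U l = 0) :
    ∀ l < 56, c l = 0 := fun l hl => by
  have h1 : ∀ n, ∑ m ∈ range 56, c m * ip (U m) (U n) = 0 := fun n => by
    rw [← ip_sum, hc, ip_zero]
  have h2 : ∑ n ∈ range 56, D l n * ∑ m ∈ range 56, c m * ip (U m) (U n) = 0 := by simp [h1]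
  simp only [mul_sum] at h2
  rw [sum_comm] at h2
  have : ∀ m ∈ range 56, ∑ n ∈ range 56, D l n * (c m * ip (U m) (U n)) =
      if l = m then c m * 4 else 0 := fun m hm => by
    have : ∀ n, D l n * (c m * ip (U m) (U n)) = c m * (D l n * ip (U n) (U m)) := fun n => by
      rw [ip_comm (U n)]; ring
    simp only [this]
    rw [← mul_sum, h l hl m (mem_range.mp hm)]; split_ifs <;> simp
  rw [sum_congr rfl this, sum_ite_eq, if_pos (mem_range.mpr hl)] at h2
  omega

theorem Gr.congr (h : Gr D U) {V : ℕ → RuVec}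
    (e : ∀ m < 56, ∀ n < 56, ip (V m) (V n) = ip (U m) (U n)) : Gr D V := fun l hl n hn => by
  rw [← h l hl n hn]
  exact sum_congr rfl fun m hm => by rw [e m (mem_range.mp hm) n hn]

/-- an additive subgroup that contains a family contains its integral combinations -/
theorem mem_of_sum {K : AddSubgroup RuVec} (hU : ∀ l < 56, U l ∈ K) {y : RuVec}
    (hy : ∃ a : ℕ → ℤ, y = ∑ l ∈ range 56, a l • U l) : y ∈ K := by
  obtain ⟨a, rfl⟩ := hy
  exact K.sum_mem fun l hl => K.zsmul_mem (hU l (mem_range.mp hl)) _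

/-- the dual lattice of a family -/
def dual (U : ℕ → RuVec) : AddSubgroup RuVec where
  carrier := {x | ∀ l < 56, 4 ∣ ip x (U l)}
  zero_mem' := fun l _ => by rw [ip_zero]; exact dvd_zero _
  add_mem' := fun hx hy l hl => by rw [ip_add]; exact dvd_add (hx l hl) (hy l hl)
  neg_mem' := fun hx l hl => by rw [ip_neg]; exact (hx l hl).neg_right

/-- the dot product of two lists -/
noncomputable def dot (a : List ℤ) : List ℤ → ℤ :=
  @List.rec ℤ (fun _ => List ℤ → ℤ) (fun _ => 0) (fun x _ ih b =>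
    @List.rec ℤ (fun _ => ℤ) 0 (fun y b' _ => Int.add (Int.mul x y) (ih b')) b) a

theorem dot_eq : ∀ (a b : List ℤ) (n : ℕ), a.length ≤ n →
    dot a b = ∑ m ∈ range n, a.getD m 0 * b.getD m 0
  | [], b, n, _ => by simp [dot]
  | x :: a, [], n, _ => by simp [dot]
  | x :: a, y :: b, 0, h => by simp at h
  | x :: a, y :: b, n + 1, h => by
    have e : dot (x :: a) (y :: b) = x * y + dot a b := rfl
    rw [e, sum_range_succ', dot_eq a b n (by simpa using h), add_comm]; simp

end Cfsg.Agent.RuL
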